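import Mathlib

/-!
Tensor powers of a symplectic space, at the level of operators: commuting systems of matrix units `E i u v`
(`y ↦ f(y, v) u` in the factor `i`), blocks with respect to one factor, and idempotents of a hyperbolic pair.
-/

set_option autoImplicit false
set_option linter.unusedSectionVars false

namespace CfsgLib.MaxSub.SpPow

/-- The operators of the factors of a tensor power of a symplectic space. -/
structure Sys (F A R ι κ : Type*) [Field F] [AddCommGroup A] [Module F A] [Ring R] [Algebra F R]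
    [Fintype κ] where
  f : A →ₗ[F] A →ₗ[F] F
  alt : ∀ u, f u u = 0
  nondeg : ∀ u, (∀ v, f u v = 0) → u = 0
  b : κ → A
  b' : κ → A
  dual : ∀ y, ∑ l, f y (b' l) • b l = y
  E : ι → A →ₗ[F] A →ₗ[F] R
  mul : ∀ i u v u' v', E i u v * E i u' v' = f u' v • E i u v'
  one : ∀ i, ∑ l, E i (b l) (b' l) = 1
  comm : ∀ i j, i ≠ j → ∀ u v u' v', E i u v * E j u' v' = E j u' v' * E i u v
  ad : R →ₗ[F] R
  ad_mul : ∀ x y, ad (x * y) = ad y * ad x
  ad_ad : ∀ x, ad (ad x) = x
  ad_one : ad 1 = 1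
  ad_E : ∀ i u v, ad (E i u v) = -E i v u
  scal : ∀ x, (∀ i u v, x * E i u v = E i u v * x) → ∃ c : F, x = c • 1

variable {F A R ι κ : Type*} [Field F] [AddCommGroup A] [Module F A] [Ring R] [Algebra F R] [Fintype κ]

namespace Sys

variable (T : Sys F A R ι κ)

theorem swap (u v : A) : T.f v u = -T.f u v := by
  have h := T.alt (u + v)
  simp only [map_add, LinearMap.add_apply, T.alt, zero_add, add_zero] at h
  exact eq_neg_of_add_eq_zero_left h

theorem dual' (z : A) : ∑ l, T.f (T.b l) z • T.b' l = z := by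
  refine sub_eq_zero.1 (T.nondeg _ fun y => ?_)
  rw [map_sub, LinearMap.sub_apply, sub_eq_zero, map_sum, LinearMap.coe_sum, Finset.sum_apply]
  conv_rhs => rw [← neg_neg (T.f z y), ← T.swap z y]
  conv_rhs => rw [← T.dual y]
  rw [map_sum, LinearMap.coe_sum, Finset.sum_apply, ← Finset.sum_neg_distrib]
  refine Finset.sum_congr rfl fun l _ => ?_
  rw [map_smul, LinearMap.smul_apply, map_smul, LinearMap.smul_apply, smul_eq_mul, smul_eq_mul,
    T.swap y (T.b' l)]
  ring

/-- `x` commutes with the factor `i` -/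
def Cen (i : ι) (x : R) : Prop := ∀ u v, x * T.E i u v = T.E i u v * x

theorem cen_E {i j : ι} (h : i ≠ j) (u v : A) : T.Cen i (T.E j u v) :=
  fun u' v' => T.comm j i h.symm u v u' v'

theorem cen_one (i : ι) : T.Cen i 1 := fun u v => by rw [one_mul, mul_one]

theorem cen_zero (i : ι) : T.Cen i 0 := fun u v => by rw [zero_mul, mul_zero]

variable {T}

theorem Cen.add {i : ι} {x y : R} (hx : T.Cen i x) (hy : T.Cen i y) : T.Cen i (x + y) :=
  fun u v => by rw [add_mul, mul_add, hx, hy]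

theorem Cen.sub {i : ι} {x y : R} (hx : T.Cen i x) (hy : T.Cen i y) : T.Cen i (x - y) :=
  fun u v => by rw [sub_mul, mul_sub, hx, hy]

theorem Cen.smul {i : ι} {x : R} (hx : T.Cen i x) (c : F) : T.Cen i (c • x) :=
  fun u v => by rw [smul_mul_assoc, mul_smul_comm, hx]

theorem Cen.mul {i : ι} {x y : R} (hx : T.Cen i x) (hy : T.Cen i y) : T.Cen i (x * y) :=
  fun u v => by rw [mul_assoc, hy, ← mul_assoc, hx, mul_assoc]

variable (T)

/-- the block of `x` in the factor `i` at a pair of vectors -/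
def blk (i : ι) (u v : A) (x : R) : R := ∑ l, T.E i (T.b l) u * x * T.E i v (T.b' l)

theorem E_blk (i : ι) (p q u v : A) (x : R) :
    T.E i p q * T.blk i u v x = T.E i p u * x * T.E i v q := by
  rw [blk, Finset.mul_sum]
  calc ∑ l, T.E i p q * (T.E i (T.b l) u * x * T.E i v (T.b' l))
      = ∑ l, T.E i p u * x * T.E i v (T.f (T.b l) q • T.b' l) := by
        refine Finset.sum_congr rfl fun l _ => ?_
        rw [← mul_assoc, ← mul_assoc, T.mul, map_smul, mul_smul_comm, smul_mul_assoc, smul_mul_assoc]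
    _ = T.E i p u * x * T.E i v q := by rw [← Finset.mul_sum, ← map_sum, T.dual']

theorem blk_E (i : ι) (p q u v : A) (x : R) :
    T.blk i u v x * T.E i p q = T.E i p u * x * T.E i v q := by
  rw [blk, Finset.sum_mul]
  calc ∑ l, T.E i (T.b l) u * x * T.E i v (T.b' l) * T.E i p q
      = ∑ l, T.E i (T.f p (T.b' l) • T.b l) u * x * T.E i v q := by
        refine Finset.sum_congr rfl fun l _ => ?_
        rw [mul_assoc, T.mul, map_smul, LinearMap.smul_apply, mul_smul_comm, smul_mul_assoc, smul_mul_assoc]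
    _ = T.E i p u * x * T.E i v q := by
        rw [← Finset.sum_mul, ← Finset.sum_mul, ← LinearMap.sum_apply, ← map_sum, T.dual]

theorem cen_blk (i : ι) (u v : A) (x : R) : T.Cen i (T.blk i u v x) := fun p q => by
  rw [T.blk_E, T.E_blk]

theorem cen_blk_other {i j : ι} (h : j ≠ i) (u v : A) {x : R} (hx : T.Cen j x) : T.Cen j (T.blk i u v x) := by
  intro p q
  rw [blk, Finset.sum_mul, Finset.mul_sum]
  exact Finset.sum_congr rfl fun l _ => ((T.cen_E h _ _).mul hx).mul (T.cen_E h _ _) p q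

theorem blk_add (i : ι) (u v : A) (x y : R) : T.blk i u v (x + y) = T.blk i u v x + T.blk i u v y := by
  simp [blk, mul_add, add_mul, Finset.sum_add_distrib]

theorem blk_sub (i : ι) (u v : A) (x y : R) : T.blk i u v (x - y) = T.blk i u v x - T.blk i u v y := by
  simp [blk, mul_sub, sub_mul, Finset.sum_sub_distrib]

theorem blk_smul (i : ι) (u v : A) (c : F) (x : R) : T.blk i u v (c • x) = c • T.blk i u v x := by
  simp [blk, Finset.smul_sum]

theorem blk_zero (i : ι) (u v : A) : T.blk i u v 0 = 0 := by simp [blk]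

theorem blk_cen {i : ι} {x : R} (hx : T.Cen i x) (u v : A) : T.blk i u v x = T.f v u • x := by
  rw [blk]
  calc ∑ l, T.E i (T.b l) u * x * T.E i v (T.b' l)
      = ∑ l, T.f v u • (T.E i (T.b l) (T.b' l) * x) := by
        refine Finset.sum_congr rfl fun l _ => ?_
        rw [mul_assoc, hx, ← mul_assoc, T.mul, smul_mul_assoc]
    _ = T.f v u • x := by rw [← Finset.smul_sum, ← Finset.sum_mul, T.one, one_mul]

theorem blk_E_mul {i : ι} {y : R} (hy : T.Cen i y) (p q u v : A) :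
    T.blk i u v (T.E i p q * y) = (T.f p u * T.f v q) • y := by
  rw [blk]
  calc ∑ l, T.E i (T.b l) u * (T.E i p q * y) * T.E i v (T.b' l)
      = ∑ l, (T.f p u * T.f v q) • (T.E i (T.b l) (T.b' l) * y) := by
        refine Finset.sum_congr rfl fun l _ => ?_
        rw [← mul_assoc, T.mul, smul_mul_assoc, smul_mul_assoc, mul_assoc, hy, ← mul_assoc, T.mul,
          smul_mul_assoc, smul_smul]
    _ = (T.f p u * T.f v q) • y := by rw [← Finset.smul_sum, ← Finset.sum_mul, T.one, one_mul]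

theorem exists_partner {e : A} (he : e ≠ 0) : ∃ f₀, T.f e f₀ = 1 := by
  obtain ⟨w, hw⟩ : ∃ w, T.f e w ≠ 0 := by
    by_contra h
    simp only [not_exists, not_not] at h
    exact he (T.nondeg e h)
  exact ⟨(T.f e w)⁻¹ • w, by rw [map_smul, smul_eq_mul, inv_mul_cancel₀ hw]⟩

theorem E_mul_cancel {i : ι} {p q : A} (hp : p ≠ 0) (hq : q ≠ 0) {y : R} (hy : T.Cen i y)
    (h : T.E i p q * y = 0) : y = 0 := by
  obtain ⟨p', hp'⟩ := T.exists_partner hp
  obtain ⟨q', hq'⟩ := T.exists_partner hq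
  have h1 := T.blk_E_mul hy p q p' q'
  rw [h, T.blk_zero, hp', T.swap q q', hq', one_mul, neg_smul, one_smul, eq_comm, neg_eq_zero] at h1
  exact h1

theorem eq_zero_of_blk (i : ι) {x : R} (h : ∀ u v, T.blk i u v x = 0) : x = 0 := by
  have e : x = (∑ l, T.E i (T.b l) (T.b' l)) * x * ∑ m, T.E i (T.b m) (T.b' m) := by
    rw [T.one, one_mul, mul_one]
  rw [e, Finset.sum_mul, Finset.sum_mul]
  refine Finset.sum_eq_zero fun l _ => ?_
  rw [Finset.mul_sum]
  refine Finset.sum_eq_zero fun m _ => ?_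
  rw [← T.E_blk, h, mul_zero]

theorem ad_blk (i : ι) (u v : A) (x : R) : T.ad (T.blk i u v x) = -T.blk i v u (T.ad x) := by
  set Y := T.ad (T.blk i u v x) with hY
  have key : ∀ p q, Y * T.E i p q = -T.blk i v u (T.ad x) * T.E i p q := by
    intro p q
    have e : T.E i p q = -T.ad (T.E i q p) := by rw [T.ad_E, neg_neg]
    conv_lhs => rw [e]
    rw [mul_neg, hY, ← T.ad_mul, T.E_blk, T.ad_mul, T.ad_mul, T.ad_E, T.ad_E]
    rw [neg_mul (T.blk i v u (T.ad x)), T.blk_E]
    simp [mul_assoc]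
  calc Y = ∑ l, Y * T.E i (T.b l) (T.b' l) := by rw [← Finset.mul_sum, T.one, mul_one]
    _ = ∑ l, -T.blk i v u (T.ad x) * T.E i (T.b l) (T.b' l) := Finset.sum_congr rfl fun l _ => key _ _
    _ = -T.blk i v u (T.ad x) := by rw [← Finset.mul_sum, T.one, mul_one]

theorem E_ne_zero [Nontrivial R] (i : ι) {u v : A} (hu : u ≠ 0) (hv : v ≠ 0) : T.E i u v ≠ 0 := fun h =>
  one_ne_zero (T.E_mul_cancel hu hv (T.cen_one i) (by rw [mul_one]; exact h))

/-! ### A hyperbolic pair in one factor -/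

/-- the idempotent of the line of `e` -/
def pI (i : ι) (e f₀ : A) : R := T.E i e f₀

/-- the idempotent of the line of `f₀` -/
def qI (i : ι) (e f₀ : A) : R := -T.E i f₀ e

/-- the idempotent of the orthogonal complement of the pair -/
def rI (i : ι) (e f₀ : A) : R := 1 - T.pI i e f₀ - T.qI i e f₀

/-- the projection to the orthogonal complement of the pair -/
def proj (e f₀ : A) : A →ₗ[F] A :=
  LinearMap.id - (T.f.flip f₀).smulRight e + (T.f.flip e).smulRight f₀

theorem proj_apply (e f₀ w : A) : T.proj e f₀ w = w - T.f w f₀ • e + T.f w e • f₀ := rfl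

variable {e f₀ : A}

theorem proj_e (hef : T.f e f₀ = 1) (w : A) : T.f (T.proj e f₀ w) e = 0 := by
  rw [T.proj_apply]
  simp [T.alt, T.swap e f₀, hef]

theorem proj_f (hef : T.f e f₀ = 1) (w : A) : T.f (T.proj e f₀ w) f₀ = 0 := by
  rw [T.proj_apply]
  simp [T.alt, hef]

theorem proj_of_perp {w : A} (h1 : T.f w e = 0) (h2 : T.f w f₀ = 0) : T.proj e f₀ w = w := by
  rw [T.proj_apply, h1, h2]
  simp

theorem perp_left {w : A} (h : T.f w e = 0) : T.f e w = 0 := by rw [T.swap, h, neg_zero]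

theorem E_pI (i : ι) (x y : A) : T.E i x y * T.pI i e f₀ = T.f e y • T.E i x f₀ := T.mul _ _ _ _ _

theorem pI_E (i : ι) (x y : A) : T.pI i e f₀ * T.E i x y = T.f x f₀ • T.E i e y := T.mul _ _ _ _ _

theorem E_qI (i : ι) (x y : A) : T.E i x y * T.qI i e f₀ = -(T.f f₀ y • T.E i x e) := by
  rw [qI, mul_neg, T.mul]

theorem qI_E (i : ι) (x y : A) : T.qI i e f₀ * T.E i x y = -(T.f x e • T.E i f₀ y) := by
  rw [qI, neg_mul, T.mul]

theorem E_rI (i : ι) (x y : A) : T.E i x y * T.rI i e f₀ = T.E i x (T.proj e f₀ y) := by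
  rw [rI, mul_sub, mul_sub, mul_one, T.E_pI, T.E_qI, T.proj_apply, map_add, map_sub, map_smul, map_smul,
    T.swap y e, T.swap y f₀]
  module

theorem rI_E (i : ι) (x y : A) : T.rI i e f₀ * T.E i x y = T.E i (T.proj e f₀ x) y := by
  rw [rI, sub_mul, sub_mul, one_mul, T.pI_E, T.qI_E, T.proj_apply, map_add, map_sub, map_smul, map_smul,
    LinearMap.add_apply, LinearMap.sub_apply, LinearMap.smul_apply, LinearMap.smul_apply]
  module

theorem proj_self_e (hef : T.f e f₀ = 1) : T.proj e f₀ e = 0 := by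
  rw [T.proj_apply, hef, T.alt]; simp

theorem proj_self_f (hef : T.f e f₀ = 1) : T.proj e f₀ f₀ = 0 := by
  rw [T.proj_apply, T.alt, T.swap e f₀, hef]; simp

theorem pI_mul_self (hef : T.f e f₀ = 1) (i : ι) : T.pI i e f₀ * T.pI i e f₀ = T.pI i e f₀ := by
  show T.E i e f₀ * T.pI i e f₀ = _
  rw [T.E_pI, hef, one_smul]; rfl

theorem qI_mul_self (hef : T.f e f₀ = 1) (i : ι) : T.qI i e f₀ * T.qI i e f₀ = T.qI i e f₀ := by
  conv_lhs => arg 1; rw [qI]
  rw [neg_mul, T.E_qI, neg_neg, T.swap e f₀, hef, neg_smul, one_smul]; rfl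

theorem pI_mul_qI (i : ι) : T.pI i e f₀ * T.qI i e f₀ = 0 := by
  show T.E i e f₀ * T.qI i e f₀ = _
  rw [T.E_qI, T.alt, zero_smul, neg_zero]

theorem qI_mul_pI (i : ι) : T.qI i e f₀ * T.pI i e f₀ = 0 := by
  conv_lhs => arg 1; rw [qI]
  rw [neg_mul, T.E_pI, T.alt, zero_smul, neg_zero]

theorem sum_pqr (i : ι) : T.pI i e f₀ + T.qI i e f₀ + T.rI i e f₀ = 1 := by rw [rI]; abel

theorem pI_mul_rI (hef : T.f e f₀ = 1) (i : ι) : T.pI i e f₀ * T.rI i e f₀ = 0 := by
  rw [rI, mul_sub, mul_sub, mul_one, T.pI_mul_self hef, T.pI_mul_qI]; abel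

theorem qI_mul_rI (hef : T.f e f₀ = 1) (i : ι) : T.qI i e f₀ * T.rI i e f₀ = 0 := by
  rw [rI, mul_sub, mul_sub, mul_one, T.qI_mul_self hef, T.qI_mul_pI]; abel

theorem rI_mul_pI (hef : T.f e f₀ = 1) (i : ι) : T.rI i e f₀ * T.pI i e f₀ = 0 := by
  rw [rI, sub_mul, sub_mul, one_mul, T.pI_mul_self hef, T.qI_mul_pI]; abel

theorem rI_mul_qI (hef : T.f e f₀ = 1) (i : ι) : T.rI i e f₀ * T.qI i e f₀ = 0 := by
  rw [rI, sub_mul, sub_mul, one_mul, T.pI_mul_qI, T.qI_mul_self hef]; abel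

theorem rI_mul_self (hef : T.f e f₀ = 1) (i : ι) : T.rI i e f₀ * T.rI i e f₀ = T.rI i e f₀ := by
  conv_lhs => arg 1; rw [rI]
  rw [sub_mul, sub_mul, one_mul, T.pI_mul_rI hef, T.qI_mul_rI hef]; abel

theorem ad_pI (i : ι) : T.ad (T.pI i e f₀) = T.qI i e f₀ := T.ad_E _ _ _

theorem ad_qI (i : ι) : T.ad (T.qI i e f₀) = T.pI i e f₀ := by rw [qI, map_neg, T.ad_E, neg_neg]; rfl

theorem ad_rI (i : ι) : T.ad (T.rI i e f₀) = T.rI i e f₀ := by
  rw [rI, map_sub, map_sub, T.ad_one, T.ad_pI, T.ad_qI]; abel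

end Sys

end CfsgLib.MaxSub.SpPow
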