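import Cfsg.Agent.Lib.MaxSub.SpPow.Involution

/-!
Tensor powers of a symplectic space with factors of dimension at least four, any odd characteristic: all roots
are root elements of factors when the centres of the root parabolics meet the group in the root groups only.
-/

set_option autoImplicit false
set_option linter.unusedSectionVars false

namespace CfsgLib.MaxSub.SpPow

variable {F A R ι κ : Type*} [Field F] [AddCommGroup A] [Module F A] [Ring R] [Algebra F R] [Fintype κ]
variable {T : Sys F A R ι κ} {H : Subgroup Rˣ}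

theorem conj_smul' (g : Rˣ) (c : F) (x : R) :
    (g : R) * (c • x) * (↑g⁻¹ : R) = c • ((g : R) * x * (↑g⁻¹ : R)) := by
  rw [mul_smul_comm, smul_mul_assoc]

theorem conj_mul' (g h : Rˣ) (x : R) :
    ((g * h : Rˣ) : R) * x * (↑(g * h)⁻¹ : R) = (g : R) * ((h : R) * x * (↑h⁻¹ : R)) * (↑g⁻¹ : R) := by
  simp [mul_assoc]

theorem conj_comm' (g : Rˣ) {x y : R} (h : x * y = y * x) :
    ((g : R) * x * (↑g⁻¹ : R)) * ((g : R) * y * (↑g⁻¹ : R)) =
      ((g : R) * y * (↑g⁻¹ : R)) * ((g : R) * x * (↑g⁻¹ : R)) := by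
  have e : ∀ a b : R, ((g : R) * a * (↑g⁻¹ : R)) * ((g : R) * b * (↑g⁻¹ : R)) = (g : R) * (a * b) * (↑g⁻¹ : R) :=
    fun a b => by simp [mul_assoc]
  rw [e, e, h]

theorem IsPure.factor_unique [Nontrivial R] {i j : ι} {x : R} (hx : IsPure T x) (h1 : x ∈ T.phi i)
    (h2 : x ∈ T.phi j) : i = j := by
  by_contra hij
  obtain ⟨a, ha, c, hc, rfl⟩ := hx.of_mem_phi h1
  have := (Sys.cen_of_phi_ne hij h2).smul c⁻¹
  rw [inv_smul_smul₀ hc] at this
  exact Sys.not_cen_E ha this

variable [Fintype ι] [DecidableEq ι] [Finite R] [Nontrivial R]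

/-- the members commuting with the factors outside `Jc` mapping all their root elements to pure ones -/
def goodSet (T : Sys F A R ι κ) (H : Subgroup Rˣ) (Jc : Finset ι) : Submonoid Rˣ where
  carrier := {g | g ∈ H ∧ g ∈ T.cenGrp Jcᶜ ∧ ∀ k ∈ Jc, ∀ a : A, a ≠ 0 →
    IsPure T ((g : R) * T.E k a a * (↑g⁻¹ : R))}
  one_mem' := ⟨one_mem H, one_mem _, fun k _ a ha => by
    rw [inv_one, Units.val_one, one_mul, mul_one]
    exact ⟨k, a, ha, 1, one_ne_zero, (one_smul _ _).symm⟩⟩
  mul_mem' {g h} hg hh := ⟨mul_mem hg.1 hh.1, mul_mem hg.2.1 hh.2.1, fun k hk a ha => by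
    rw [conj_mul']
    have hcen : T.CenSet Jcᶜ ((h : R) * T.E k a a * (↑h⁻¹ : R)) :=
      ((Sys.CenSet.mul hh.2.1 fun l hl => T.cen_E (fun e : l = k => (Finset.mem_compl.1 hl) (e ▸ hk)) a a)).mul
        (inv_mem hh.2.1)
    obtain ⟨k', a', ha', c, hc, he⟩ := hh.2.2 k hk a ha
    have hk' : k' ∈ Jc := by
      by_contra hk'
      refine Sys.not_cen_E (T := T) (i := k') ha' ?_
      have := (hcen k' (Finset.mem_compl.2 hk')).smul c⁻¹
      rwa [he, inv_smul_smul₀ hc] at this
    rw [he, conj_smul']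
    exact (hg.2.2 k' hk' a' ha').smul hc⟩

theorem goodSet_inv {Jc : Finset ι} {g : Rˣ} (hg : g ∈ goodSet T H Jc) : g⁻¹ ∈ goodSet T H Jc := by
  haveI : Finite Rˣ := Finite.of_injective _ Units.val_injective
  have h := pow_mem hg (orderOf g - 1)
  convert h using 1
  refine inv_eq_of_mul_eq_one_right ?_
  rw [← pow_succ', Nat.sub_add_cancel (orderOf_pos g), pow_orderOf_eq_one]

/-- the image in one factor -/
theorem goodSet_image {Jc : Finset ι} {g : Rˣ} (hg : g ∈ goodSet T H Jc) {k : ι} (hk : k ∈ Jc) {a : A}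
    (ha : a ≠ 0) : ∃ k' ∈ Jc, IsPure T ((g : R) * T.E k a a * (↑g⁻¹ : R)) ∧
      (g : R) * T.E k a a * (↑g⁻¹ : R) ∈ T.phi k' := by
  have hcen : T.CenSet Jcᶜ ((g : R) * T.E k a a * (↑g⁻¹ : R)) :=
    (Sys.CenSet.mul hg.2.1 fun l hl => T.cen_E (fun e : l = k => (Finset.mem_compl.1 hl) (e ▸ hk)) a a).mul
      (inv_mem hg.2.1)
  obtain ⟨k', a', ha', c, hc, he⟩ := hg.2.2 k hk a ha
  refine ⟨k', ?_, hg.2.2 k hk a ha, he ▸ (T.phi k').smul_mem c (T.E_mem_phi k' a' a')⟩
  by_contra hk'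
  refine Sys.not_cen_E (T := T) (i := k') ha' ?_
  have := (hcen k' (Finset.mem_compl.2 hk')).smul c⁻¹
  rwa [he, inv_smul_smul₀ hc] at this

/-- the images of the root elements of one factor lie in one factor -/
theorem goodSet_factor {Jc : Finset ι} {g : Rˣ} (hg : g ∈ goodSet T H Jc) {k k' : ι} (hk : k ∈ Jc) {a : A}
    (ha : a ≠ 0) (h : (g : R) * T.E k a a * (↑g⁻¹ : R) ∈ T.phi k') (b : A) :
    (g : R) * T.E k b b * (↑g⁻¹ : R) ∈ T.phi k' := by
  rcases eq_or_ne b 0 with rfl | hb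
  · simp
  have step : ∀ a b : A, a ≠ 0 → b ≠ 0 → T.f a b ≠ 0 → (g : R) * T.E k a a * (↑g⁻¹ : R) ∈ T.phi k' →
      (g : R) * T.E k b b * (↑g⁻¹ : R) ∈ T.phi k' := by
    intro a b ha hb hab h
    obtain ⟨l, hl, hp, hl'⟩ := goodSet_image hg hk hb
    rcases eq_or_ne l k' with rfl | hne
    · exact hl'
    exfalso
    have e := T.phi_comm_cen h (Sys.cen_of_phi_ne (i := l) hne.symm hl')
    have h2 := congrArg (fun t => (↑g⁻¹ : R) * t * (g : R)) e
    simp only [mul_assoc, Units.inv_mul_cancel_left, Units.inv_mul, mul_one] at h2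
    rw [T.mul, T.mul] at h2
    have h3 := congrArg (fun t => T.E k b b * t) h2
    simp only [mul_smul_comm, T.mul, smul_smul] at h3
    rw [T.alt, mul_zero, zero_smul] at h3
    have hba : T.f b a ≠ 0 := by rw [T.swap a b]; simpa using hab
    exact smul_ne_zero (mul_ne_zero hba hab) (T.E_ne_zero k hb hb) h3.symm
  obtain ⟨m, ham, hmb⟩ : ∃ m, T.f a m ≠ 0 ∧ T.f m b ≠ 0 := by
    obtain ⟨a', ha'⟩ := T.exists_partner ha
    obtain ⟨b', hb'⟩ := T.exists_partner hb
    by_cases h1 : T.f a' b = 0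
    · by_cases h2 : T.f a b' = 0
      · refine ⟨a' + b', ?_, ?_⟩
        · rw [map_add, ha', h2, add_zero]; exact one_ne_zero
        · rw [map_add, LinearMap.add_apply, h1, zero_add, T.swap b b', hb']; simp
      · exact ⟨b', h2, by rw [T.swap b b', hb']; simp⟩
    · exact ⟨a', by rw [ha']; exact one_ne_zero, h1⟩
  have hm : m ≠ 0 := by rintro rfl; simp at ham
  exact step m b hm hb hmb (step a m ha hm ham h)

/-- **all roots are root elements of factors**, factors of dimension at least four -/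
theorem Grp.all_pure_four [Fintype F] (G : Grp T H) (Z : Ctr T H) (p : ℕ) [Fact p.Prime] [CharP F p] (hp : p ≠ 2)
    (hw4 : T.Wide) {e : A} (he : e ≠ 0) {d : R} (hd : IsRoot T H d) : IsPure T d := by
  classical
  haveI : Finite Rˣ := Finite.of_injective _ Units.val_injective
  have h2 : (2 : F) ≠ 0 := Ring.two_ne_zero (by rwa [ringChar.eq F p])
  obtain ⟨f₀, hef⟩ := T.exists_partner he
  suffices key : ∀ Jc : Finset ι, ∀ d, IsRoot T H d → T.CenSet Jcᶜ d → IsPure T d from
    key Finset.univ d hd fun j hj => absurd hj (by simp)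
  intro Jc
  induction Jc using Finset.strongInduction with
  | H Jc ih =>
    intro d hd hJd
    rcases Jc.eq_empty_or_nonempty with rfl | ⟨i, hi⟩
    · exfalso
      obtain ⟨c, hc⟩ := T.scal d fun i u v => hJd i (by simp) u v
      have h := hd.sq
      rw [hc, smul_mul_smul, one_mul, smul_eq_zero] at h
      exact hd.ne_zero (by rw [hc, mul_self_eq_zero.1 (h.resolve_right one_ne_zero), zero_smul])
    have hdown : ∀ k ∈ Jc, ∀ x, IsRoot T H x → T.CenSet Jcᶜ x → T.Cen k x → IsPure T x := by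
      intro k hk x hx hJx hkx
      refine ih (Jc.erase k) (Finset.erase_ssubset hk) x hx fun l hl => ?_
      rcases eq_or_ne l k with rfl | hlk
      · exact hkx
      · exact hJx l (Finset.mem_compl.2 fun h => (Finset.mem_compl.1 hl) (Finset.mem_erase.2 ⟨hlk, h⟩))
    have hfact : ∀ k ∈ Jc, ∀ a : A, a ≠ 0 → ∀ x, IsRoot T H x → T.CenSet Jcᶜ x →
        T.E k a a * x = x * T.E k a a → IsPure T x := fun k hk a ha x hx hJx hcomm =>
      (G.pure_or_cen_four Z h2 hw4 ha hx hcomm).elim id (hdown k hk x hx hJx)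
    have hJE : ∀ k ∈ Jc, ∀ a b : A, T.CenSet Jcᶜ (T.E k a b) := fun k hk a b l hl =>
      T.cen_E (fun e : l = k => (Finset.mem_compl.1 hl) (e ▸ hk)) a b
    have hJconj : ∀ g ∈ T.cenGrp Jcᶜ, ∀ x, T.CenSet Jcᶜ x → T.CenSet Jcᶜ ((g : R) * x * (↑g⁻¹ : R)) :=
      fun g hg x hx => (Sys.CenSet.mul hg hx).mul (inv_mem hg)
    -- one image decides
    have hconn : ∀ g ∈ H, g ∈ T.cenGrp Jcᶜ → ∀ k ∈ Jc, ∀ a : A, a ≠ 0 →
        IsPure T ((g : R) * T.E k a a * (↑g⁻¹ : R)) → g ∈ goodSet T H Jc := by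
      intro g hg hgJ k hk a ha hpure
      refine ⟨hg, hgJ, ?_⟩
      have hstep : ∀ k ∈ Jc, ∀ a : A, a ≠ 0 → IsPure T ((g : R) * T.E k a a * (↑g⁻¹ : R)) →
          ∀ l ∈ Jc, ∀ b : A, b ≠ 0 → T.E k a a * T.E l b b = T.E l b b * T.E k a a →
          IsPure T ((g : R) * T.E l b b * (↑g⁻¹ : R)) := by
        intro k hk a ha hp l hl b hb hcomm
        obtain ⟨k', a', ha', c, hc, he'⟩ := id hp
        have hk' : k' ∈ Jc := by
          by_contra hk'
          refine Sys.not_cen_E (T := T) (i := k') ha' ?_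
          have := (hJconj g hgJ _ (hJE k hk a a) k' (Finset.mem_compl.2 hk')).smul c⁻¹
          rwa [he', inv_smul_smul₀ hc] at this
        refine hfact k' hk' a' ha' _ ((IsPure.isRoot ⟨l, b, hb, 1, one_ne_zero, (one_smul _ _).symm⟩).conj hg)
          (hJconj g hgJ _ (hJE l hl b b)) ?_
        have := conj_comm' g hcomm
        rw [he', smul_mul_assoc, mul_smul_comm] at this
        exact (smul_right_injective R hc) this
      intro l hl b hb
      rcases eq_or_ne l k with rfl | hlk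
      · obtain ⟨w, hw, hwa, hwb⟩ : ∃ w, w ≠ 0 ∧ T.f w a = 0 ∧ T.f w b = 0 := by
          by_cases hab : T.f a b = 0
          · exact ⟨a, ha, T.alt a, hab⟩
          · obtain ⟨w, hw, h1, h2'⟩ := hw4 a ((T.f a b)⁻¹ • b) (by rw [map_smul, smul_eq_mul, inv_mul_cancel₀ hab])
            rw [map_smul, smul_eq_mul, mul_eq_zero] at h2'
            exact ⟨w, hw, h1, h2'.resolve_left (inv_ne_zero hab)⟩
        refine hstep l hl w hw (hstep l hl a ha hpure l hl w hw ?_) l hl b hb ?_
        · rw [T.mul, T.mul, hwa, T.perp_left hwa, zero_smul, zero_smul]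
        · rw [T.mul, T.mul, hwb, T.perp_left hwb, zero_smul, zero_smul]
      · exact hstep k hk a ha hpure l hl b hb (T.comm k l (Ne.symm hlk) a a b b)
    -- a root whose root element is good is pure
    have hnormal : ∀ x, IsRoot T H x → T.CenSet Jcᶜ x → ∀ g : Rˣ, g ∈ goodSet T H Jc → (g : R) = 1 + x →
        IsPure T x := by
      intro x hx hJx g hg hgx
      have hgi := inv_one_add hx.sq hgx
      suffices hfix : ∀ g ∈ goodSet T H Jc, (∀ m : ℕ, (g : R) ^ (p ^ m) = 1 ∨ m = 0) →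
          (g : R) * g - ((g : R) + g) + 1 = 0 → (g : R) * T.E i e e * (↑g⁻¹ : R) ∈ T.phi i by
        have hq : ∀ y : R, y * y = 0 → ∀ m : ℕ, (1 + y) ^ (p ^ m) = 1 ∨ m = 0 := fun y hy m => by
          rcases m with - | m
          · exact Or.inr rfl
          left
          rw [Quad.pow_char (F := F) p]
          obtain ⟨r, hr⟩ : ∃ r, p ^ (m + 1) = 2 + r := Nat.exists_eq_add_of_le
            ((Fact.out : p.Prime).two_le.trans (Nat.le_self_pow (by omega) p))
          rw [hr, pow_add, pow_two, hy, zero_mul, add_zero]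
        have hsq : ∀ y : R, y * y = 0 → (1 + y) * (1 + y) - ((1 + y) + (1 + y)) + 1 = 0 := fun y hy => by
          simp only [add_mul, mul_add, one_mul, mul_one, hy]
          abel
        have h1 := hfix g hg (by rw [hgx]; exact hq x hx.sq) (by rw [hgx]; exact hsq x hx.sq)
        have hgi' : (↑g⁻¹ : R) = 1 + -x := hgi.trans (sub_eq_add_neg 1 x)
        have h1' := hfix g⁻¹ (goodSet_inv hg) (by rw [hgi']; exact hq _ (by rw [neg_mul_neg, hx.sq]))
          (by rw [hgi']; exact hsq _ (by rw [neg_mul_neg, hx.sq]))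
        refine (G.pure_or_cen_of_conj h2 hx hef (i := i) (fun u => ?_) fun u => ?_).elim id (hdown i hi x hx hJx)
        · have := goodSet_factor hg hi he h1 u
          rwa [hgx, hgi] at this
        · have := goodSet_factor (goodSet_inv hg) hi he h1' u
          rwa [inv_inv, hgx, hgi] at this
      -- the factor is fixed
      intro g hg hpow hquad
      obtain ⟨j, hj, hjp, hjm⟩ := goodSet_image hg hi he
      rcases eq_or_ne j i with rfl | hji
      · exact hjm
      exfalso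
      obtain ⟨k, hk, hkp, hkm⟩ := goodSet_image (mul_mem hg hg) hi he
      have hkj : k ≠ j := by
        rintro rfl
        rw [conj_mul'] at hkp hkm
        obtain ⟨a₁, ha₁, c₁, hc₁, e₁⟩ := hjp.of_mem_phi hjm
        obtain ⟨a₂, ha₂, c₂, hc₂, e₂⟩ := hkp.of_mem_phi hkm
        have b1 : (↑g⁻¹ : R) * T.E k a₁ a₁ * (g : R) = c₁⁻¹ • T.E i e e := by
          have h := congrArg (fun t => c₁⁻¹ • ((↑g⁻¹ : R) * t * (g : R))) e₁
          simp only [mul_assoc, Units.inv_mul_cancel_left, Units.inv_mul, mul_one, mul_smul_comm, smul_mul_assoc,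
            smul_smul, inv_mul_cancel₀ hc₁, one_smul] at h
          simp only [mul_assoc]
          exact h.symm
        have hki : (↑g⁻¹ : R) * T.E k a₂ a₂ * (↑g⁻¹⁻¹ : R) ∈ T.phi i := goodSet_factor (goodSet_inv hg) hj ha₁ (by
          rw [inv_inv, b1]; exact (T.phi i).smul_mem _ (T.E_mem_phi i e e)) a₂
        have hkk : (↑g⁻¹ : R) * T.E k a₂ a₂ * (↑g⁻¹⁻¹ : R) ∈ T.phi k := by
          have h := congrArg (fun t => c₂⁻¹ • ((↑g⁻¹ : R) * t * (g : R))) e₂
          simp only [mul_assoc, Units.inv_mul_cancel_left, Units.inv_mul, mul_one, mul_smul_comm, smul_mul_assoc,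
            smul_smul, inv_mul_cancel₀ hc₂, one_smul] at h
          rw [inv_inv, mul_assoc, ← h]
          exact (T.phi k).smul_mem _ (by rw [← mul_assoc]; exact hjm)
        exact hji ((IsPure.factor_unique ((goodSet_inv hg).2.2 k hj a₂ ha₂) hkk hki))
      -- the idempotents
      set P₀ := T.pI i e f₀ with hP₀
      have hmem : ∀ (h : Rˣ) (l : ι), h ∈ goodSet T H Jc → (h : R) * T.E i e e * (↑h⁻¹ : R) ∈ T.phi l →
          (h : R) * P₀ * (↑h⁻¹ : R) ∈ T.phi l := by
        intro h l hh hl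
        have e1 : P₀ = -(T.E i e e * T.E i f₀ f₀) := by rw [Sys.n_mul_m hef, neg_neg]
        rw [e1, mul_neg, neg_mul]
        refine neg_mem ?_
        rw [show (h : R) * (T.E i e e * T.E i f₀ f₀) * (↑h⁻¹ : R) =
          ((h : R) * T.E i e e * (↑h⁻¹ : R)) * ((h : R) * T.E i f₀ f₀ * (↑h⁻¹ : R)) by simp [mul_assoc]]
        exact T.mul_mem_phi hl (goodSet_factor hh hi he hl f₀)
      obtain ⟨P₁, hP₁⟩ : ∃ P, P = (g : R) * P₀ * (↑g⁻¹ : R) := ⟨_, rfl⟩
      obtain ⟨P₂, hP₂⟩ : ∃ P, P = ((g * g : Rˣ) : R) * P₀ * (↑(g * g)⁻¹ : R) := ⟨_, rfl⟩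
      have hP₀m : P₀ ∈ T.phi i := T.pI_mem_phi i e f₀
      have hP₁m : P₁ ∈ T.phi j := hP₁ ▸ hmem g j hg hjm
      have hP₂m : P₂ ∈ T.phi k := hP₂ ▸ hmem _ k (mul_mem hg hg) hkm
      have hP₀0 : P₀ ≠ 0 := T.E_ne_zero i he (by rintro rfl; simp at hef)
      have hP₀1 : P₀ ≠ 1 := by
        intro h
        have := T.qI_mul_pI (e := e) (f₀ := f₀) i
        rw [← hP₀, h, mul_one, Sys.qI, neg_eq_zero] at this
        exact T.E_ne_zero i (by rintro rfl; simp at hef) he this
      have hone : ∀ h : Rˣ, (h : R) * P₀ * (↑h⁻¹ : R) ≠ 1 := fun h e1 => hP₀1 (by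
        have := congrArg (fun t => (↑h⁻¹ : R) * t * (h : R)) e1
        simpa [mul_assoc] using this)
      have hcj : ∀ {l : ι} {y : R}, y ∈ T.phi l → ∀ {l' : ι}, l' ≠ l → T.Cen l' (1 - y) := fun hy _ h =>
        (T.cen_one _).sub (Sys.cen_of_phi_ne h hy)
      rcases eq_or_ne k i with rfl | hki
      · -- period two
        have hall : ∀ m : ℕ, ∀ u, (((g * g) ^ m : Rˣ) : R) * T.E k u u * (↑((g * g) ^ m)⁻¹ : R) ∈ T.phi k := by
          intro m
          induction m with
          | zero => intro u; simpa using T.E_mem_phi k u u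
          | succ m ihm =>
            intro u
            rcases eq_or_ne u 0 with rfl | hu
            · simp
            have h1 := goodSet_factor (mul_mem hg hg) hi he hkm u
            obtain ⟨a, -, c, -, hc'⟩ := IsPure.of_mem_phi ((mul_mem hg hg).2.2 k hi u hu) h1
            rw [pow_succ, conj_mul', hc', conj_smul']
            exact (T.phi k).smul_mem c (ihm a)
        obtain ⟨m, hm⟩ := (Fact.out : p.Prime).odd_of_ne_two hp
        have hg1 : (g * g) ^ (m + 1) = g := by
          refine Units.ext ?_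
          rw [Units.val_pow_eq_pow_val, Units.val_mul, ← pow_two, ← pow_mul, show 2 * (m + 1) = p + 1 by omega,
            pow_succ, ← pow_one p, (hpow 1).resolve_right one_ne_zero, one_mul]
        have h1 := hall (m + 1) e
        rw [hg1] at h1
        exact hji (IsPure.factor_unique hjp hjm h1)
      -- three factors
      have c01 : P₀ * (1 - P₁) = (1 - P₁) * P₀ := (T.phi_comm_cen hP₀m (hcj hP₁m hji.symm)).symm
      have c12 : (1 - P₁) * (1 - P₂) = (1 - P₂) * (1 - P₁) := by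
        simp only [sub_mul, mul_sub, one_mul, mul_one,
          (T.phi_comm_cen hP₁m (Sys.cen_of_phi_ne hkj.symm hP₂m))]
        abel
      have hidP : P₀ * P₀ = P₀ := T.pI_mul_self hef i
      have hid : ∀ h : Rˣ, (1 - (h : R) * P₀ * (↑h⁻¹ : R)) * (1 - (h : R) * P₀ * (↑h⁻¹ : R)) =
          1 - (h : R) * P₀ * (↑h⁻¹ : R) := fun h => by
        have : ((h : R) * P₀ * (↑h⁻¹ : R)) * ((h : R) * P₀ * (↑h⁻¹ : R)) = (h : R) * P₀ * (↑h⁻¹ : R) := by
          rw [show ((h : R) * P₀ * (↑h⁻¹ : R)) * ((h : R) * P₀ * (↑h⁻¹ : R)) =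
            (h : R) * (P₀ * P₀) * (↑h⁻¹ : R) by simp [mul_assoc], hidP]
        simp only [sub_mul, mul_sub, one_mul, mul_one, this]
        abel
      set ε := P₀ * ((1 - P₁) * (1 - P₂)) with hε
      have k1 : (1 - P₁) * ((g : R) * P₀) = 0 := by
        rw [sub_mul, one_mul, hP₁, mul_assoc ((g : R) * P₀), Units.inv_mul_cancel_left, mul_assoc, hidP, sub_self]
      have k2 : (1 - P₂) * ((g : R) * g * P₀) = 0 := by
        rw [sub_mul, one_mul, hP₂, Units.val_mul, mul_assoc ((g : R) * g * P₀), ← Units.val_mul,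
          mul_assoc ((g * g : Rˣ) : R), Units.inv_mul_cancel_left, hidP, sub_self]
      have e1 : ε * (g : R) * ε = 0 := by
        calc ε * (g : R) * ε = P₀ * ((1 - P₂) * ((1 - P₁) * ((g : R) * P₀))) * ((1 - P₁) * (1 - P₂)) := by
              rw [hε, c12]; simp only [mul_assoc]
          _ = 0 := by rw [k1, mul_zero, mul_zero, zero_mul]
      have e2 : ε * ((g : R) * g) * ε = 0 := by
        calc ε * ((g : R) * g) * ε = P₀ * ((1 - P₁) * ((1 - P₂) * ((g : R) * g * P₀))) * ((1 - P₁) * (1 - P₂)) := by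
              rw [hε]; simp only [mul_assoc]
          _ = 0 := by rw [k2, mul_zero, mul_zero, zero_mul]
      have hεε : ε * ε = ε := by
        have c : ((1 - P₁) * (1 - P₂)) * P₀ = P₀ * ((1 - P₁) * (1 - P₂)) :=
          T.phi_comm_cen hP₀m ((hcj hP₁m hji.symm).mul (hcj hP₂m hki.symm))
        have q1 : (1 - P₁) * (1 - P₁) = 1 - P₁ := hP₁ ▸ hid g
        have q2 : (1 - P₂) * (1 - P₂) = 1 - P₂ := hP₂ ▸ hid (g * g)
        calc ε * ε = P₀ * (((1 - P₁) * (1 - P₂)) * P₀) * ((1 - P₁) * (1 - P₂)) := by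
              rw [hε]; simp only [mul_assoc]
          _ = (P₀ * P₀) * (((1 - P₁) * (1 - P₂)) * ((1 - P₁) * (1 - P₂))) := by rw [c]; simp only [mul_assoc]
          _ = ε := by
            rw [hidP, mul_assoc (1 - P₁), ← mul_assoc (1 - P₂) (1 - P₁), ← c12, mul_assoc (1 - P₁) (1 - P₂), q2,
              ← mul_assoc, ← mul_assoc, hε, mul_assoc P₀, q1, mul_assoc]
      have h0 : ε = 0 := by
        have h := congrArg (fun t => ε * t * ε) hquad
        simp only [mul_sub, sub_mul, mul_add, add_mul, e1, e2, mul_one, hεε, mul_zero, zero_mul] at h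
        simpa using h
      have hy := T.eq_zero_of_phi_mul hP₀m hP₀0 ((hcj hP₁m hji.symm).mul (hcj hP₂m hki.symm)) h0
      have h12 := T.eq_zero_of_phi_mul (sub_mem (T.one_mem_phi j) hP₁m) (sub_ne_zero.2 (hP₁ ▸ hone g).symm)
        (hcj hP₂m hkj.symm) hy
      exact sub_ne_zero.2 (hP₂ ▸ hone (g * g)).symm h12
    -- the group of a root element of the factor and `d`
    have hn : IsPure T (T.E i e e) := ⟨i, e, he, 1, one_ne_zero, (one_smul _ _).symm⟩
    let Q : Quad F R := ⟨T.E i e e, d, T.n_mul_self i e, hd.sq⟩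
    set W := Q.grp with hW
    have hWH : W ≤ H := by
      rw [hW, Quad.grp, Subgroup.closure_le]
      rintro g ⟨c, hc | hc⟩
      · obtain ⟨u, hu, huc⟩ := G.root i e c
        exact (Units.ext (huc.trans hc.symm) : u = g) ▸ hu
      · obtain ⟨u, hu, huc⟩ := hd.mem G c
        exact (Units.ext (huc.trans hc.symm) : u = g) ▸ hu
    have hWJ : W ≤ T.cenGrp Jcᶜ := by
      rw [hW, Quad.grp, Subgroup.closure_le]
      rintro g ⟨c, hc | hc⟩ j hj <;> rw [hc]
      · exact (T.cen_one j).add ((hJE i hi e e j hj).smul c)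
      · exact (T.cen_one j).add ((hJd j hj).smul c)
    by_cases hC : IsNilpotent Q.C
    · let S : Subgroup Rˣ :=
        { toSubmonoid := goodSet T H Jc
          inv_mem' := fun hg => goodSet_inv hg }
      obtain ⟨gd, hgd, hgdc⟩ := Q.mem_gens_d 1
      rw [one_smul] at hgdc
      by_cases hle : W ≤ S
      · exact hnormal d hd hJd gd (hle (Subgroup.subset_closure hgd)) hgdc
      exfalso
      haveI : Group.IsNilpotent W := (Quad.isPGroup_of_nilpotent (Q := Q) p hC).isNilpotent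
      have hne : S.subgroupOf W < Subgroup.normalizer (S.subgroupOf W : Set W) :=
        Group.normalizerCondition_of_isNilpotent _ (lt_top_iff_ne_top.2 fun h =>
          hle (Subgroup.subgroupOf_eq_top.1 h))
      obtain ⟨⟨g, hgW⟩, hgN, hgS⟩ := SetLike.exists_of_lt hne
      rw [Subgroup.mem_subgroupOf] at hgS
      obtain ⟨u, hu, huc⟩ := Q.mem_gens_n 1
      rw [one_smul] at huc
      have huW : u ∈ W := Subgroup.subset_closure hu
      have huS : u ∈ S := by
        refine ⟨hWH huW, hWJ huW, fun k _ a ha => ?_⟩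
        have h := IsPure.conj_radical (T := T) (i := i) (e := e) (v := 0) (by simp) 1
          (⟨k, a, ha, 1, one_ne_zero, (one_smul _ _).symm⟩ : IsPure T (T.E k a a))
        rw [inv_one_add (T.n_mul_self i e) huc, huc]
        rwa [T.yv_zero, zero_add, one_smul] at h
      have hcS : g * u * g⁻¹ ∈ S := ((Subgroup.mem_normalizer_iff.1 hgN ⟨u, huW⟩).1 huS :)
      have hval : ((g * u * g⁻¹ : Rˣ) : R) = 1 + (g : R) * T.E i e e * (↑g⁻¹ : R) := by
        rw [Units.val_mul, Units.val_mul, huc, mul_add, add_mul, mul_one, Units.mul_inv]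
      have hpure := hnormal _ ((hn.isRoot).conj (hWH hgW)) (hJconj g (hWJ hgW) _ (hJE i hi e e)) _ hcS hval
      exact hgS (hconn g (hWH hgW) (hWJ hgW) i hi e he hpure)
    -- an involution
    obtain ⟨z, hzW, f, s, hs, hfs, hfK, hff, hf0, hzf⟩ := Q.exists_involution p hp hC
    have hnz : T.E i e e * (z : R) = (z : R) * T.E i e e := by
      rw [hzf, mul_sub, sub_mul, mul_one, one_mul, mul_add, add_mul,
        show T.E i e e * f = f * T.E i e e from Quad.K_n hfK]
    have hkill : T.rI i e f₀ * f * T.rI i e f₀ = 0 := by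
      have h := Sys.rI_kill (T := T) (i := i) hef (a := (1 : F)) (d := d) (s := s)
        (by rw [one_smul]; exact Quad.K_n hs)
      rw [one_smul] at h
      rw [hfs]
      exact h
    obtain ⟨-, w, hw, hfm, hmf⟩ := G.involution_plane Z h2 hw4 hef (hWH hzW) hnz hzf hff hf0 hkill
    obtain ⟨h, hh, y, ⟨j, e₁, he₁, a, ha, rfl⟩, hdh⟩ := id hd
    obtain ⟨f₁, hef₁⟩ := T.exists_partner he₁
    have hfd : f * d = d := by
      obtain ⟨f', hf'⟩ : ∃ f', f' = (↑h⁻¹ : R) * f * (h : R) := ⟨_, rfl⟩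
      obtain ⟨s', hs'⟩ : ∃ s', s' = (↑h⁻¹ : R) * s * (h : R) := ⟨_, rfl⟩
      obtain ⟨d', hd'⟩ : ∃ d', d' = (↑h⁻¹ : R) * T.E i e e * (h : R) := ⟨_, rfl⟩
      have hcomm : ∀ t : R, t ∈ Q.K → (a • T.E j e₁ e₁) * ((↑h⁻¹ : R) * t * (h : R)) =
          ((↑h⁻¹ : R) * t * (h : R)) * (a • T.E j e₁ e₁) := fun t ht => by
        have := conj_comm' h⁻¹ (show d * t = t * d from Quad.K_d ht)
        rw [inv_inv, hdh] at this
        simpa [mul_assoc] using this
      have hz' : T.E j e₁ e₁ * ((h⁻¹ * z * h : Rˣ) : R) = ((h⁻¹ * z * h : Rˣ) : R) * T.E j e₁ e₁ := by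
        refine smul_right_injective R ha ?_
        show a • _ = a • _
        rw [← smul_mul_assoc, ← mul_smul_comm, Units.val_mul, Units.val_mul, hzf, mul_sub, mul_one, sub_mul,
          Units.inv_mul, mul_sub, sub_mul (1 : R), mul_add, add_mul, mul_add, add_mul, hcomm f hfK, one_mul, mul_one]
      have hzf' : ((h⁻¹ * z * h : Rˣ) : R) = 1 - (f' + f') := by
        rw [Units.val_mul, Units.val_mul, hzf, hf', mul_sub, mul_one, sub_mul, Units.inv_mul, mul_add, add_mul]
      have hC' : (↑h⁻¹ : R) * Q.C * (h : R) = a • T.E j e₁ e₁ * d' + d' * (a • T.E j e₁ e₁) := by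
        show (↑h⁻¹ : R) * (T.E i e e * d + d * T.E i e e) * (h : R) = _
        rw [hdh, hd']
        simp [mul_add, add_mul, mul_assoc]
        abel
      have hkill' : T.rI j e₁ f₁ * f' * T.rI j e₁ f₁ = 0 := by
        have h0 := Sys.rI_kill (T := T) (i := j) hef₁ (a := a) (d := d') (hs' ▸ hcomm s hs)
        rw [← hC'] at h0
        convert h0 using 3
        rw [hf', hfs, hs']
        simp [mul_assoc]
      have hff' : f' * f' = f' := by
        rw [hf', show (↑h⁻¹ : R) * f * (h : R) * ((↑h⁻¹ : R) * f * (h : R)) = (↑h⁻¹ : R) * (f * f) * (h : R) by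
          simp [mul_assoc], hff]
      have hf'0 : f' ≠ 0 := by
        rw [hf']; simpa using hf0
      have := (G.involution_plane Z h2 hw4 hef₁ (mul_mem (mul_mem (inv_mem hh) (hWH hzW)) hh) hz' hzf' hff' hf'0
        hkill').1
      have hc := congrArg (fun t => a • ((h : R) * t * (↑h⁻¹ : R))) this
      rw [hf'] at hc
      rw [hdh]
      simpa [mul_assoc] using hc
    have hdf : d * f = d := by rw [show d * f = f * d from Quad.K_d hfK, hfd]
    refine hfact i hi w hw d hd hJd ?_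
    rw [← hfd, ← mul_assoc, hmf, zero_mul, hfd, ← hdf, mul_assoc, hfm, mul_zero]

end CfsgLib.MaxSub.SpPow
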