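import Cfsg.Agent.Lib.MaxSub.SpPow.Pair

/-!
Tensor powers of a symplectic space: a root commuting with a root element of a factor is a root element of that
factor or commutes with the whole factor.
-/

set_option autoImplicit false
set_option linter.unusedSectionVars false

namespace CfsgLib.MaxSub.SpPow

variable {F A R ι κ : Type*} [Field F] [AddCommGroup A] [Module F A] [Ring R] [Algebra F R] [Fintype κ]
variable {T : Sys F A R ι κ} {H : Subgroup Rˣ}

namespace Sys

variable (T)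

/-- the operators of the factor `i` -/
def phi (i : ι) : Submodule F R := Submodule.span F (Set.range fun x : A × A => T.E i x.1 x.2)

theorem E_mem_phi (i : ι) (x y : A) : T.E i x y ∈ T.phi i := Submodule.subset_span ⟨(x, y), rfl⟩

theorem one_mem_phi (i : ι) : (1 : R) ∈ T.phi i := T.one i ▸ (T.phi i).sum_mem fun _ _ => T.E_mem_phi i _ _

theorem mul_mem_phi {i : ι} {x y : R} (hx : x ∈ T.phi i) (hy : y ∈ T.phi i) : x * y ∈ T.phi i := by
  induction hx using Submodule.span_induction with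
  | mem x hx =>
    obtain ⟨⟨a, b⟩, rfl⟩ := hx
    induction hy using Submodule.span_induction with
    | mem y hy =>
      obtain ⟨⟨a', b'⟩, rfl⟩ := hy
      dsimp only
      rw [T.mul]
      exact (T.phi i).smul_mem _ (T.E_mem_phi i _ _)
    | zero => rw [mul_zero]; exact zero_mem _
    | add y z _ _ h h' => rw [mul_add]; exact add_mem h h'
    | smul c y _ h => rw [mul_smul_comm]; exact (T.phi i).smul_mem c h
  | zero => rw [zero_mul]; exact zero_mem _
  | add a b _ _ h h' => rw [add_mul]; exact add_mem h h'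
  | smul c a _ h => rw [smul_mul_assoc]; exact (T.phi i).smul_mem c h

theorem blk_phi {i : ι} {x : R} (hx : x ∈ T.phi i) (u v : A) : ∃ s : F, T.blk i u v x = s • (1 : R) := by
  induction hx using Submodule.span_induction with
  | mem x hx =>
    obtain ⟨⟨a, b⟩, rfl⟩ := hx
    refine ⟨T.f a u * T.f v b, ?_⟩
    dsimp only
    rw [← mul_one (T.E i a b), T.blk_E_mul (T.cen_one i)]
  | zero => exact ⟨0, by rw [T.blk_zero, zero_smul]⟩
  | add a b _ _ h h' =>
    obtain ⟨s, h⟩ := h
    obtain ⟨s', h'⟩ := h'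
    exact ⟨s + s', by rw [T.blk_add, h, h', add_smul]⟩
  | smul c a _ h =>
    obtain ⟨s, h⟩ := h
    exact ⟨c * s, by rw [T.blk_smul, h, smul_smul]⟩

theorem pI_mem_phi (i : ι) (e f₀ : A) : T.pI i e f₀ ∈ T.phi i := T.E_mem_phi i e f₀

theorem qI_mem_phi (i : ι) (e f₀ : A) : T.qI i e f₀ ∈ T.phi i := neg_mem (T.E_mem_phi i _ _)

theorem rI_mem_phi (i : ι) (e f₀ : A) : T.rI i e f₀ ∈ T.phi i :=
  sub_mem (sub_mem (T.one_mem_phi i) (T.pI_mem_phi i e f₀)) (T.qI_mem_phi i e f₀)

variable {T}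

/-- a root element of a factor does not commute with that factor -/
theorem not_cen_E [Nontrivial R] {i : ι} {e : A} (he : e ≠ 0) : ¬ T.Cen i (T.E i e e) := by
  intro h
  obtain ⟨f₀, hef⟩ := T.exists_partner he
  have h1 := h f₀ f₀
  rw [Sys.n_mul_m hef, Sys.m_mul_n hef] at h1
  have h2 := congrArg (fun x => T.pI i e f₀ * x) h1
  simp only [mul_neg, T.pI_mul_self hef, T.pI_mul_qI, neg_zero, neg_eq_zero] at h2
  exact T.E_ne_zero i he (by rintro rfl; simp at hef) h2

theorem Cen.neg {i : ι} {x : R} (hx : T.Cen i x) : T.Cen i (-x) := fun u v => by rw [neg_mul, mul_neg, hx]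

section commute

variable {i : ι} {e f₀ : A} (hef : T.f e f₀ = 1) {d : R} (hNd : T.E i e e * d = d * T.E i e e)
include hef hNd

theorem mul_pI : d * T.pI i e f₀ = T.pI i e f₀ * d * T.pI i e f₀ := by
  have h : d * T.pI i e f₀ = -(T.E i e e * (d * T.E i f₀ f₀)) := by
    rw [← mul_assoc, hNd, mul_assoc, Sys.n_mul_m hef, mul_neg, neg_neg]
  calc d * T.pI i e f₀ = T.pI i e f₀ * (d * T.pI i e f₀) := by
        rw [h, mul_neg, ← mul_assoc (T.pI i e f₀), Sys.pI_mul_n hef]
    _ = _ := (mul_assoc _ _ _).symm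

theorem qI_mul : T.qI i e f₀ * d = T.qI i e f₀ * d * T.qI i e f₀ := by
  have h : T.qI i e f₀ * d = -(T.E i f₀ f₀ * d * T.E i e e) := by
    rw [mul_assoc, ← hNd, ← mul_assoc, Sys.m_mul_n hef, neg_mul, neg_neg]
  rw [h, neg_mul, mul_assoc _ (T.E i e e), Sys.n_mul_qI hef]

theorem qI_mul_pI' : T.qI i e f₀ * d * T.pI i e f₀ = 0 := by
  rw [mul_assoc, mul_pI hef hNd, ← mul_assoc, ← mul_assoc, T.qI_mul_pI, zero_mul, zero_mul]

theorem rI_mul_pI' : T.rI i e f₀ * d * T.pI i e f₀ = 0 := by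
  rw [mul_assoc, mul_pI hef hNd, ← mul_assoc, ← mul_assoc, T.rI_mul_pI hef, zero_mul, zero_mul]

theorem qI_mul_rI' : T.qI i e f₀ * d * T.rI i e f₀ = 0 := by
  rw [qI_mul hef hNd, mul_assoc, T.qI_mul_rI hef, mul_zero]

theorem Upper.mul_left {z : R} (hz : T.Upper i e f₀ z) : T.Upper i e f₀ (d * z) := by
  refine ⟨by rw [mul_assoc, hz.right, mul_zero], ?_, ?_⟩
  · rw [← mul_assoc, qI_mul hef hNd, mul_assoc, hz.left, mul_zero]
  · rw [← mul_assoc, T.insert_one (T.rI i e f₀ * d) z (T.rI i e f₀), rI_mul_pI' hef hNd,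
      show T.rI i e f₀ * d * T.qI i e f₀ * z = 0 by rw [mul_assoc, hz.left, mul_zero],
      mul_assoc _ (T.rI i e f₀) z, mul_assoc _ (T.rI i e f₀ * z), hz.mid]
    simp

theorem Upper.mul_right {z : R} (hz : T.Upper i e f₀ z) : T.Upper i e f₀ (z * d) := by
  refine ⟨?_, by rw [← mul_assoc, hz.left, zero_mul], ?_⟩
  · rw [mul_assoc, mul_pI hef hNd, ← mul_assoc, ← mul_assoc, hz.right, zero_mul, zero_mul]
  · rw [← mul_assoc, T.insert_one (T.rI i e f₀ * z) d (T.rI i e f₀),
      show T.rI i e f₀ * z * T.pI i e f₀ = 0 by rw [mul_assoc, hz.right, mul_zero],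
      mul_assoc (T.rI i e f₀ * z * T.qI i e f₀) d, mul_assoc (T.rI i e f₀ * z) (T.qI i e f₀),
      ← mul_assoc (T.qI i e f₀) d, qI_mul_rI' hef hNd, hz.mid]
    simp

end commute

end Sys

variable {i : ι} {e f₀ : A}

theorem Grp.half_mem [Fintype ι] [DecidableEq ι] [Nontrivial R] (G : Grp T H) (Z : Ctr T H) (h2 : (2 : F) ≠ 0)
    (hef : T.f e f₀ = 1) {z w : R} (hz : T.Upper i e f₀ z) (hw : T.Upper i e f₀ w) {o : R}
    (ho : T.Upper i e f₀ o) (hp : InH H (1 + (o + z + w))) (hm : InH H (1 + (o - z + w))) : z ∈ T.phi i := by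
  obtain ⟨v, a, -, -, h⟩ := G.radical Z h2 hef ((ho.add hz).add hw) hp
  obtain ⟨v', a', -, -, h'⟩ := G.radical Z h2 hef (z := o - z + w)
    ((sub_eq_add_neg o z ▸ ho.add (by simpa using hz.smul (-1 : F))).add hw) hm
  have e1 : (2 : F) • z = (o + z + w) - (o - z + w) := by rw [two_smul]; abel
  rw [← inv_smul_smul₀ h2 z, e1, h, h']
  have hy : ∀ u, T.yv i e u ∈ T.phi i := fun u => add_mem (T.E_mem_phi i _ _) (T.E_mem_phi i _ _)
  exact (T.phi i).smul_mem _ (sub_mem (add_mem (hy v) ((T.phi i).smul_mem a (T.E_mem_phi i e e)))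
    (add_mem (hy v') ((T.phi i).smul_mem a' (T.E_mem_phi i e e))))

/-- an infinitesimal member of `H` commuting with a root element of the factor `i` is a member of the factor up
to a skew operator commuting with the factor -/
theorem Grp.decompose [Fintype ι] [DecidableEq ι] [Finite F] [Nontrivial R] (G : Grp T H) (Z : Ctr T H)
    (h2 : (2 : F) ≠ 0) (h4 : 4 ≤ Nat.card F) (he : e ≠ 0) {d : R} (hdd : d * d = 0)
    (hH : ∀ c : F, InH H (1 + c • d)) (hNd : T.E i e e * d = d * T.E i e e) :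
    ∃ α, T.Cen i α ∧ T.ad α = -α ∧ d - α ∈ T.phi i := by
  classical
  obtain ⟨f₀, hef⟩ := T.exists_partner he
  set P := T.pI i e f₀ with hP
  set Q := T.qI i e f₀ with hQ
  set Rr := T.rI i e f₀ with hR
  set α := T.blk i f₀ e d with hα
  have hαc : T.Cen i α := T.cen_blk _ _ _ _
  have hd := G.ad_eq_neg h2 hH
  have hα' : T.blk i e f₀ d = -α := by
    refine eq_neg_of_add_eq_zero_left (T.E_mul_cancel he he ((T.cen_blk i e f₀ d).add hαc) ?_)
    rw [mul_add, T.E_blk, hα, T.E_blk, hNd, mul_assoc d, T.mul, T.swap e f₀, hef, neg_smul, one_smul, mul_assoc _ d,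
      ← hNd, ← mul_assoc, T.mul, hef, one_smul, hNd, mul_neg]
    exact neg_add_cancel _
  have hadα : T.ad α = -α := by rw [hα, T.ad_blk, hd, ← neg_one_smul F d, T.blk_smul, hα']; simp [hα]
  have hpp : P * d * P = P * α := by rw [hα, hP]; exact (T.E_blk i e f₀ f₀ e d).symm
  have hqq : Q * d * Q = Q * α := by
    have h := T.E_blk i f₀ e e f₀ d
    rw [hα', mul_neg] at h
    rw [hQ, Sys.qI, neg_mul, neg_mul_neg, ← h, neg_mul]
  refine ⟨α, hαc, hadα, ?_⟩
  obtain ⟨c, hc, hc1⟩ : ∃ c : F, c ≠ 0 ∧ c * c ≠ 1 := by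
    haveI := Fintype.ofFinite F
    obtain ⟨c, hc⟩ : ∃ c : F, c ∉ ({0, 1, -1} : Finset F) := by
      by_contra h
      simp only [not_exists, not_not] at h
      have h5 : Finset.univ.card ≤ ({0, 1, -1} : Finset F).card := Finset.card_le_card fun x _ => h x
      rw [Finset.card_univ, ← Nat.card_eq_fintype_card] at h5
      have := Finset.card_le_three (a := (0 : F)) (b := 1) (c := -1)
      omega
    simp only [Finset.mem_insert, Finset.mem_singleton, not_or] at hc
    exact ⟨c, hc.1, fun h => (mul_self_eq_one_iff.1 h).elim hc.2.1 hc.2.2⟩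
  set τ := T.tau i e f₀ c with hτ
  set τ' := T.tau i e f₀ c⁻¹ with hτ'
  have hττ : τ * τ' = 1 := T.tau_mul hef hc
  have hτ'p : τ' * P = c⁻¹ • P := by
    simp only [hτ', Sys.tau, hP, add_mul, smul_mul_assoc, T.rI_mul_pI hef, T.qI_mul_pI, T.pI_mul_self hef,
      smul_zero, zero_add, add_zero]
  have hτp : τ * P = c • P := by
    simp only [hτ, Sys.tau, hP, add_mul, smul_mul_assoc, T.rI_mul_pI hef, T.qI_mul_pI, T.pI_mul_self hef,
      smul_zero, zero_add, add_zero]
  have hpτ : P * τ = c • P := by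
    simp only [hτ, Sys.tau, hP, mul_add, mul_smul_comm, T.pI_mul_rI hef, T.pI_mul_qI, T.pI_mul_self hef,
      smul_zero, zero_add, add_zero]
  have hqτ : Q * τ = c⁻¹ • Q := T.qI_mul_tau hef c
  have hqτ' : Q * τ' = c • Q := by rw [hτ', hQ, T.qI_mul_tau hef, inv_inv]
  have hτ'q : τ' * Q = c • Q := by
    simp only [hτ', Sys.tau, hQ, add_mul, smul_mul_assoc, T.rI_mul_qI hef, T.qI_mul_self hef, T.pI_mul_qI,
      smul_zero, zero_add, add_zero, inv_inv]
  have hrτ : Rr * τ = Rr := by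
    simp only [hτ, Sys.tau, hR, mul_add, mul_smul_comm, T.rI_mul_self hef, T.rI_mul_qI hef, T.rI_mul_pI hef,
      smul_zero, add_zero]
  have hτ'r : τ' * Rr = Rr := by
    simp only [hτ', Sys.tau, hR, add_mul, smul_mul_assoc, T.rI_mul_self hef, T.qI_mul_rI hef, T.pI_mul_rI hef,
      smul_zero, add_zero]
  set M := τ * d * τ' - d with hM
  have hMu : T.Upper i e f₀ M := by
    refine ⟨?_, ?_, ?_⟩
    · rw [← hP, hM, sub_mul, mul_assoc (τ * d), hτ'p, mul_smul_comm, mul_assoc τ, Sys.mul_pI hef hNd, ← hP,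
        ← mul_assoc, ← mul_assoc, hτp, smul_mul_assoc, smul_mul_assoc, smul_smul, inv_mul_cancel₀ hc, one_smul,
        sub_self]
    · rw [← hQ, hM, mul_sub, ← mul_assoc, ← mul_assoc, hqτ, smul_mul_assoc, smul_mul_assoc, Sys.qI_mul hef hNd, ← hQ,
        mul_assoc _ Q τ', hqτ', mul_smul_comm, smul_smul, inv_mul_cancel₀ hc, one_smul, sub_self]
    · rw [← hR, hM, mul_sub, sub_mul, ← mul_assoc, ← mul_assoc, hrτ, mul_assoc _ τ', hτ'r, sub_self]
  have hMphi : M ∈ T.phi i := by
    have key : ∀ a : F, InH H (1 + (a • M + -(a * a) • (M * d))) := fun a => by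
      have h := (((G.tau_mem (i := i) hef hc).mul (hH a)).mul (G.tau_mem (i := i) hef (inv_ne_zero hc))).mul (hH (-a))
      convert h using 1
      rw [← hτ, ← hτ', mul_add τ, mul_one, add_mul τ, hττ, mul_smul_comm, smul_mul_assoc, hM]
      simp only [add_mul, sub_mul, mul_add, one_mul, mul_one, smul_mul_assoc, mul_smul_comm, smul_sub, smul_smul,
        mul_assoc d d, hdd, mul_zero, sub_zero, neg_smul, smul_zero, mul_neg]
      module
    refine G.half_mem Z h2 hef (o := 0) (w := -(M * d)) hMu ?_ Sys.Upper.zero ?_ ?_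
    · simpa using (Sys.Upper.mul_right hef hNd hMu).smul (-1 : F)
    · convert key 1 using 2; simp
    · convert key (-1) using 2; simp
  have hd' : ∀ x y : R, x * d * y = x * d * y := fun _ _ => rfl
  have hpr : P * d * Rr ∈ T.phi i := by
    have h : (c - 1) • (P * d * Rr) = P * M * Rr := by
      rw [hM, mul_sub, sub_mul, ← mul_assoc P, ← mul_assoc P τ d, hpτ, mul_assoc _ τ' Rr, hτ'r, smul_mul_assoc,
        smul_mul_assoc, sub_smul, one_smul]
    rw [← inv_smul_smul₀ (sub_ne_zero.2 fun h : c = 1 => hc1 (by rw [h, one_mul])) (P * d * Rr), h]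
    exact (T.phi i).smul_mem _ (T.mul_mem_phi (T.mul_mem_phi (T.pI_mem_phi i e f₀) hMphi) (T.rI_mem_phi i e f₀))
  have hrq : Rr * d * Q ∈ T.phi i := by
    have h : (c - 1) • (Rr * d * Q) = Rr * M * Q := by
      rw [hM, mul_sub, sub_mul, ← mul_assoc Rr, ← mul_assoc Rr τ d, hrτ, mul_assoc _ τ' Q, hτ'q, mul_smul_comm,
        sub_smul, one_smul]
    rw [← inv_smul_smul₀ (sub_ne_zero.2 fun h : c = 1 => hc1 (by rw [h, one_mul])) (Rr * d * Q), h]
    exact (T.phi i).smul_mem _ (T.mul_mem_phi (T.mul_mem_phi (T.rI_mem_phi i e f₀) hMphi) (T.qI_mem_phi i e f₀))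
  have hpq : P * d * Q ∈ T.phi i := by
    have h : (c * c - 1) • (P * d * Q) = P * M * Q := by
      rw [hM, mul_sub, sub_mul, ← mul_assoc P, ← mul_assoc P τ d, hpτ, mul_assoc _ τ' Q, hτ'q, mul_smul_comm,
        smul_mul_assoc, smul_mul_assoc, smul_smul, sub_smul, one_smul]
    rw [← inv_smul_smul₀ (sub_ne_zero.2 hc1) (P * d * Q), h]
    exact (T.phi i).smul_mem _ (T.mul_mem_phi (T.mul_mem_phi (T.pI_mem_phi i e f₀) hMphi) (T.qI_mem_phi i e f₀))
  -- the middle
  have hαP : P * α = α * P := (hαc e f₀).symm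
  have hαQ : Q * α = α * Q := by rw [hQ, Sys.qI, neg_mul, mul_neg, hαc]
  have hαR : Rr * α = α * Rr := by rw [hR, Sys.rI, sub_mul, sub_mul, mul_sub, mul_sub, ← hP, ← hQ, hαP, hαQ, one_mul,
    mul_one]
  set X := Rr * d * Rr - Rr * α with hX
  have hXE : ∀ w, T.f w e = 0 → T.f w f₀ = 0 → X * T.E i w e ∈ T.phi i := by
    intro w hwe hwf
    set y := T.yv i e w with hy
    obtain ⟨u, hu, huy⟩ := G.yv_mem i e w hwe 1
    rw [one_smul, ← hy] at huy
    have hyu : T.Upper i e f₀ y := T.upper_yv hef hwe hwf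
    have hD : d * y - y * d ∈ T.phi i := by
      have key : ∀ a : F, InH H (1 + (y + a • (d * y - y * d) + -(a * a) • (d * y * d))) := fun a => by
        have h := ((hH a).mul ⟨u, hu, huy⟩).mul (hH (-a))
        convert h using 1
        simp only [add_mul, mul_add, one_mul, mul_one, smul_mul_assoc, mul_smul_comm, smul_sub, smul_smul, neg_smul,
          hdd, smul_zero, mul_neg]
        module
      refine G.half_mem Z h2 hef (o := y) (w := -(d * y * d)) ?_ ?_ hyu ?_ ?_
      · simpa [sub_eq_add_neg] using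
          (Sys.Upper.mul_left hef hNd hyu).add ((Sys.Upper.mul_right hef hNd hyu).smul (-1 : F))
      · simpa using (Sys.Upper.mul_right hef hNd (Sys.Upper.mul_left hef hNd hyu)).smul (-1 : F)
      · convert key 1 using 2; simp
      · convert key (-1) using 2; simp [sub_eq_add_neg, add_comm]
    have hRy : Rr * y = T.E i w e := by
      rw [hR, hy, Sys.yv, mul_add, T.rI_E, T.rI_E, T.proj_self_e hef, map_zero, LinearMap.zero_apply, zero_add,
        T.proj_of_perp hwe hwf]
    have hwQ : T.E i w e * Q = T.E i w e := by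
      rw [hQ, T.E_qI, T.swap e f₀, hef, neg_smul, one_smul, neg_neg]
    have h1 : Rr * (d * y) * Q = Rr * d * Rr * T.E i w e := by
      rw [← mul_assoc, T.insert_one (Rr * d) y Q, ← hP, ← hQ, ← hR, hR, Sys.rI_mul_pI' hef hNd, ← hR,
        show Rr * d * Q * y = 0 by rw [mul_assoc, hQ, hyu.left, mul_zero], zero_mul, zero_mul, zero_add, zero_add,
        mul_assoc (Rr * d) Rr y, hRy, mul_assoc (Rr * d) (T.E i w e) Q, hwQ, mul_assoc (Rr * d) Rr, hR, T.rI_E,
        T.proj_of_perp hwe hwf]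
    have h2' : Rr * (y * d) * Q = Rr * α * T.E i w e := by
      rw [← mul_assoc, hRy, ← hwQ, mul_assoc _ Q d, mul_assoc _ (Q * d) Q, hqq, hαQ, hwQ, ← mul_assoc, ← hαc,
        mul_assoc α, hwQ, hαR, mul_assoc α, hR, T.rI_E, T.proj_of_perp hwe hwf]
    have : X * T.E i w e = Rr * (d * y - y * d) * Q := by
      rw [mul_sub Rr, sub_mul (Rr * (d * y)), h1, h2', hX, sub_mul]
    rw [this]
    exact T.mul_mem_phi (T.mul_mem_phi (T.rI_mem_phi i e f₀) hD) (T.qI_mem_phi i e f₀)
  have hXphi : X ∈ T.phi i := by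
    have hr : Rr = ∑ l, T.E i (T.proj e f₀ (T.b l)) e * T.E i (-f₀) (T.proj e f₀ (T.b' l)) := by
      calc Rr = Rr * (∑ l, T.E i (T.b l) (T.b' l)) * Rr := by
            rw [T.one, mul_one, hR, T.rI_mul_self hef]
        _ = _ := by
            rw [Finset.mul_sum, Finset.sum_mul]
            refine Finset.sum_congr rfl fun l _ => ?_
            rw [hR, T.rI_E, T.E_rI, T.mul]
            simp [T.swap e f₀, hef]
    have hXr : X * Rr = X := by
      rw [hX, sub_mul, mul_assoc _ Rr Rr, mul_assoc _ α Rr, ← hαR, ← mul_assoc Rr Rr α, hR, T.rI_mul_self hef]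
    rw [← hXr, hr, Finset.mul_sum]
    refine (T.phi i).sum_mem fun l _ => ?_
    rw [← mul_assoc]
    exact T.mul_mem_phi (hXE _ (T.proj_e hef _) (T.proj_f hef _)) (T.E_mem_phi i _ _)
  have hsum : d - α = P * d * Rr + Rr * d * Q + P * d * Q + X := by
    have hS : P + Q + Rr = 1 := T.sum_pqr i
    have e1 : d = (P + Q + Rr) * d * (P + Q + Rr) := by rw [hS, one_mul, mul_one]
    have e2 : α = P * α + Q * α + Rr * α := by rw [← add_mul, ← add_mul, hS, one_mul]
    conv_lhs => rw [e1, e2]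
    simp only [add_mul, mul_add, hpp, hqq, hX]
    rw [show Q * d * P = 0 from Sys.qI_mul_pI' hef hNd, show Rr * d * P = 0 from Sys.rI_mul_pI' hef hNd,
      show Q * d * Rr = 0 from Sys.qI_mul_rI' hef hNd]
    abel
  rw [hsum]
  exact add_mem (add_mem (add_mem hpr hrq) hpq) hXphi

/-- a root commuting with a root element of the factor `i` is pure or commutes with the factor -/
theorem Grp.pure_or_cen [Fintype ι] [DecidableEq ι] [Finite R] [Fintype F] [Nontrivial R] (G : Grp T H)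
    (Z : Ctr T H) (p : ℕ) [Fact p.Prime] [CharP F p] (hp : p ≠ 2) (h4 : 4 ≤ Nat.card F) (he : e ≠ 0) {d : R}
    (hd : IsRoot T H d) (hNd : T.E i e e * d = d * T.E i e e) : IsPure T d ∨ T.Cen i d := by
  refine or_iff_not_imp_left.2 fun hnp => ?_
  have h2 : (2 : F) ≠ 0 := Ring.two_ne_zero (by rwa [ringChar.eq F p])
  obtain ⟨α, hα, hadα, hX⟩ := G.decompose Z h2 h4 he hd.sq (hd.mem G) hNd
  have hdiag : ∀ u, T.blk i u u (d - α) = 0 := by
    intro u
    obtain ⟨s, hs⟩ := T.blk_phi hX u u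
    have hs' : T.blk i u u d = s • (1 : R) := by
      rw [← hs, T.blk_sub, T.blk_cen hα, T.alt, zero_smul, sub_zero]
    rcases eq_or_ne u 0 with rfl | hu
    · simp [Sys.blk]
    rcases eq_or_ne s 0 with rfl | hs0
    · rw [hs, zero_smul]
    exfalso
    have hn : IsPure T (T.E i u u) := ⟨i, u, hu, 1, one_ne_zero, (one_smul _ _).symm⟩
    obtain ⟨k, hk⟩ := (G.pure_or_nilpotent Z p hp h4 hn hd).resolve_left hnp
    set C := T.E i u u * d + d * T.E i u u
    have hCn : C * T.E i u u = s • T.E i u u := by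
      simp only [C, add_mul, mul_assoc d, T.n_mul_self, mul_zero, add_zero]
      rw [← T.E_blk, hs', mul_smul_comm, mul_one]
    have hpow : ∀ k : ℕ, C ^ k * T.E i u u = s ^ k • T.E i u u := by
      intro k
      induction k with
      | zero => simp
      | succ k ih => rw [pow_succ, mul_assoc, hCn, mul_smul_comm, ih, smul_smul, pow_succ, mul_comm]
    have := hpow k
    rw [hk, zero_mul] at this
    exact smul_ne_zero (pow_ne_zero k hs0) (T.E_ne_zero i hu hu) this.symm
  have hskew : T.ad (d - α) = -(d - α) := by rw [map_sub, G.ad_eq_neg h2 (hd.mem G), hadα]; abel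
  have hzero : d - α = 0 := by
    refine T.eq_zero_of_blk i fun u v => ?_
    obtain ⟨s, hs⟩ := T.blk_phi hX u v
    have hsym : T.blk i v u (d - α) = T.blk i u v (d - α) := by
      have h := T.ad_blk i u v (d - α)
      rw [hs, map_smul, T.ad_one, hskew, ← neg_one_smul F (d - α), T.blk_smul, neg_one_smul, neg_neg, ← hs] at h
      exact h.symm
    have h := hdiag (u + v)
    have e1 : T.blk i (u + v) (u + v) (d - α) = T.blk i u u (d - α) + T.blk i v v (d - α) +
        (T.blk i u v (d - α) + T.blk i v u (d - α)) := by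
      simp only [Sys.blk, map_add, LinearMap.add_apply, mul_add, add_mul, Finset.sum_add_distrib]
      abel
    rw [e1, hdiag, hdiag, hsym, zero_add, zero_add, ← two_smul F] at h
    exact (smul_eq_zero.1 h).resolve_left h2
  rwa [sub_eq_zero.1 hzero]

end CfsgLib.MaxSub.SpPow
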