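import Cfsg.Agent.Lib.MaxSub.SpPow.Central

/-!
Tensor powers of a symplectic space: all roots are root elements of factors when the centres of the root
parabolics meet the group in the root groups of the factors only.
-/

set_option autoImplicit false
set_option linter.unusedSectionVars false

namespace CfsgLib.MaxSub.SpPow

variable {F A R ι κ : Type*} [Field F] [AddCommGroup A] [Module F A] [Ring R] [Algebra F R] [Fintype κ]
variable {T : Sys F A R ι κ} {H : Subgroup Rˣ}

/-- five values determine the coefficients of a quartic -/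
theorem quartic_coeff [Fintype F] (h5 : 5 ≤ Fintype.card F) {k0 k1 k2 k3 k4 : F}
    (h : ∀ l : F, k0 + k1 * l + k2 * l ^ 2 + k3 * l ^ 3 + k4 * l ^ 4 = 0) : k2 = 0 ∧ k4 = 0 := by
  classical
  set P : Polynomial F := Polynomial.C k0 + Polynomial.C k1 * Polynomial.X + Polynomial.C k2 * Polynomial.X ^ 2 +
    Polynomial.C k3 * Polynomial.X ^ 3 + Polynomial.C k4 * Polynomial.X ^ 4 with hP
  have hdeg : P.natDegree ≤ 4 := by rw [hP]; compute_degree
  have h0 : P = 0 := Polynomial.eq_zero_of_natDegree_lt_card_of_eval_eq_zero P (f := id) Function.injective_id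
    (fun l => by simpa [hP] using h l) (by omega)
  exact ⟨by simpa [hP, Polynomial.coeff_X] using congrArg (Polynomial.coeff · 2) h0,
    by simpa [hP, Polynomial.coeff_X] using congrArg (Polynomial.coeff · 4) h0⟩

/-- three values determine a quadratic curve -/
theorem curve_interp (x0 x1 x2 : R) {b c d : F} (hbc : b ≠ c) (hbd : b ≠ d) (hcd : c ≠ d) (a : F) :
    x0 + a • x1 + (a * a) • x2 =
      ((a - c) * (a - d) / ((b - c) * (b - d))) • (x0 + b • x1 + (b * b) • x2) +
      ((a - b) * (a - d) / ((c - b) * (c - d))) • (x0 + c • x1 + (c * c) • x2) +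
      ((a - b) * (a - c) / ((d - b) * (d - c))) • (x0 + d • x1 + (d * d) • x2) := by
  have h1 := sub_ne_zero.2 hbc
  have h2 := sub_ne_zero.2 hbd
  have h3 := sub_ne_zero.2 hcd
  have h4 := sub_ne_zero.2 hbc.symm
  have h5 := sub_ne_zero.2 hbd.symm
  have h6 := sub_ne_zero.2 hcd.symm
  match_scalars <;> field_simp <;> ring

namespace Sys

variable (T)

/-- the block of an operator as a linear map of the first vector -/
def blkL (i : ι) (v : A) (x : R) (φ : R →ₗ[F] F) : A →ₗ[F] F where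
  toFun u := φ (T.blk i u v x)
  map_add' u u' := by
    rw [← map_add]
    congr 1
    simp [Sys.blk, add_mul, Finset.sum_add_distrib]
  map_smul' c u := by
    rw [RingHom.id_apply, ← map_smul]
    congr 1
    simp [Sys.blk, Finset.smul_sum]

/-- `x` commutes with all the factors in `J` -/
def CenSet (J : Finset ι) (x : R) : Prop := ∀ j ∈ J, T.Cen j x

/-- the group of the units commuting with all the factors in `J` -/
def cenGrp (J : Finset ι) : Subgroup Rˣ where
  carrier := {g | T.CenSet J (g : R)}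
  mul_mem' := fun ha hb j hj => by rw [Units.val_mul]; exact (ha j hj).mul (hb j hj)
  one_mem' := fun j _ => by rw [Units.val_one]; exact T.cen_one j
  inv_mem' := fun {g} hg j hj u v => (Commute.units_inv_left (hg j hj u v : Commute (g : R) (T.E j u v))).eq

variable {T}

theorem CenSet.sub {J : Finset ι} {x y : R} (hx : T.CenSet J x) (hy : T.CenSet J y) : T.CenSet J (x - y) :=
  fun j hj => (hx j hj).sub (hy j hj)

theorem CenSet.mul {J : Finset ι} {x y : R} (hx : T.CenSet J x) (hy : T.CenSet J y) : T.CenSet J (x * y) :=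
  fun j hj => (hx j hj).mul (hy j hj)

theorem CenSet.neg {J : Finset ι} {x : R} (hx : T.CenSet J x) : T.CenSet J (-x) :=
  fun j hj => Cen.neg (hx j hj)

/-- an operator of one factor with symmetric blocks of rank one is a root element -/
theorem pure_of_minors [Nontrivial R] (φ : R →ₗ[F] F) (h1 : φ 1 = 1) {i : ι} {x : R} (hx : x ∈ T.phi i)
    (hx0 : x ≠ 0) (hs : ∀ u v, φ (T.blk i u v x) = φ (T.blk i v u x))
    (hm : ∀ u v u' v', φ (T.blk i u v x) * φ (T.blk i u' v' x) = φ (T.blk i u v' x) * φ (T.blk i u' v x)) :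
    IsPure T x := by
  have hblk : ∀ u v, T.blk i u v x = φ (T.blk i u v x) • (1 : R) := fun u v => by
    obtain ⟨s, hs'⟩ := T.blk_phi hx u v
    rw [hs', map_smul, h1, smul_eq_mul, mul_one]
  obtain ⟨u₀, v₀, h0⟩ : ∃ u v, φ (T.blk i u v x) ≠ 0 := by
    by_contra h
    simp only [not_exists, not_not] at h
    exact hx0 (T.eq_zero_of_blk i fun u v => by rw [hblk, h, zero_smul])
  set g00 := φ (T.blk i v₀ v₀ x) with hg
  have h00 : g00 ≠ 0 := by
    intro h
    have := hm u₀ v₀ v₀ u₀
    rw [hs v₀ u₀, ← hg, h, mul_zero] at this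
    exact h0 (mul_self_eq_zero.1 this)
  set h := T.blkL i v₀ x φ with hh
  set w := ∑ l, h (T.b l) • T.b' l with hw
  have hfw : ∀ y, h y = T.f y w := by
    intro y
    conv_lhs => rw [← T.dual y]
    rw [map_sum, hw, map_sum]
    refine Finset.sum_congr rfl fun l _ => ?_
    rw [map_smul, map_smul, smul_eq_mul, smul_eq_mul, mul_comm]
  have hfst : ∑ l, h (T.b' l) • T.b l = -w := by
    conv_rhs => rw [← T.dual w, ← Finset.sum_neg_distrib]
    refine Finset.sum_congr rfl fun l _ => ?_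
    rw [hfw, T.swap w (T.b' l), neg_smul]
  have hgen : ∀ u v, φ (T.blk i u v x) = g00⁻¹ * (h u * h v) := by
    intro u v
    have e := hm u v v₀ v₀
    rw [hs v₀ v, ← hg] at e
    show _ = g00⁻¹ * (φ (T.blk i u v₀ x) * φ (T.blk i v v₀ x))
    rw [← e]; field_simp
  have hxE : x = g00⁻¹ • T.E i (∑ l, h (T.b' l) • T.b l) w := by
    conv_lhs => rw [show x = (∑ l, T.E i (T.b l) (T.b' l)) * x * ∑ m, T.E i (T.b m) (T.b' m) by
      rw [T.one, one_mul, mul_one]]
    have hr : g00⁻¹ • T.E i (∑ l, h (T.b' l) • T.b l) w =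
        ∑ l, ∑ m, (g00⁻¹ * (h (T.b' l) * h (T.b m))) • T.E i (T.b l) (T.b' m) := by
      simp only [hw, map_sum, LinearMap.coe_sum, Finset.sum_apply, map_smul, LinearMap.smul_apply, Finset.smul_sum,
        smul_smul]
      rw [Finset.sum_comm]
      refine Finset.sum_congr rfl fun l _ => Finset.sum_congr rfl fun m _ => ?_
      congr 1
      ring
    rw [hr, Finset.sum_mul, Finset.sum_mul]
    refine Finset.sum_congr rfl fun l _ => ?_
    rw [Finset.mul_sum]
    refine Finset.sum_congr rfl fun m _ => ?_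
    rw [← T.E_blk, hblk, hgen, mul_smul_comm, mul_one]
  rw [hfst, map_neg, LinearMap.neg_apply, smul_neg, ← neg_smul] at hxE
  refine ⟨i, w, ?_, -g00⁻¹, neg_ne_zero.2 (inv_ne_zero h00), hxE⟩
  intro hw0
  rw [hw0] at hxE
  exact hx0 (by rw [hxE]; simp)

end Sys

/-- the leading coefficient of a quadratic curve of root elements of factors -/
theorem curve_pure [Fintype F] [Nontrivial R] (h2 : (2 : F) ≠ 0) (h5 : 5 ≤ Fintype.card F) {x0 x1 x2 : R}
    (h : ∀ l : F, IsPure T (x0 + l • x1 + (l * l) • x2)) :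
    (x2 ≠ 0 → IsPure T x2) ∧ (x2 = 0 → x1 ≠ 0 → IsPure T x1) := by
  classical
  choose idx e he c hc hx using h
  have hkey : ∀ a b b' b'' : F, b ≠ b' → b ≠ b'' → b' ≠ b'' →
      idx a = idx b ∨ idx a = idx b' ∨ idx a = idx b'' := by
    intro a b b' b'' h1 h2 h3
    by_contra hne
    simp only [not_or] at hne
    have hcen : T.Cen (idx a) (c a • T.E (idx a) (e a) (e a)) := by
      rw [← hx, curve_interp x0 x1 x2 h1 h2 h3 a, hx b, hx b', hx b'']
      exact (((((T.cen_E hne.1 _ _).smul _).smul _).add (((T.cen_E hne.2.1 _ _).smul _).smul _))).add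
        (((T.cen_E hne.2.2 _ _).smul _).smul _)
    refine Sys.not_cen_E (he a) (i := idx a) (T := T) ?_
    have := hcen.smul (c a)⁻¹
    rwa [inv_smul_smul₀ (hc a)] at this
  have hone : ∀ m, idx m = idx 0 := by
    intro m
    rcases eq_or_ne m 0 with rfl | hm
    · rfl
    by_contra hne
    have hcard : 3 ≤ (Finset.univ \ ({0, m} : Finset F)).card := by
      rw [Finset.card_sdiff_of_subset (Finset.subset_univ _), Finset.card_univ]
      have := Finset.card_le_two (a := (0 : F)) (b := m)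
      omega
    obtain ⟨x, hxm, y, hym, z, hzm, hxy, hxz, hyz⟩ := Finset.two_lt_card.1 hcard
    simp only [Finset.mem_sdiff, Finset.mem_univ, true_and, Finset.mem_insert, Finset.mem_singleton, not_or]
      at hxm hym hzm
    have hpair : ∀ x y : F, (x ≠ 0 ∧ x ≠ m) → (y ≠ 0 ∧ y ≠ m) → x ≠ y →
        (idx x = idx 0 ∨ idx y = idx 0) ∧ (idx x = idx m ∨ idx y = idx m) := by
      intro x y hx' hy' hxy
      refine ⟨?_, ?_⟩
      · rcases hkey 0 m x y hx'.2.symm hy'.2.symm hxy with h | h | h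
        · exact absurd h.symm hne
        · exact Or.inl h.symm
        · exact Or.inr h.symm
      · rcases hkey m 0 x y hx'.1.symm hy'.1.symm hxy with h | h | h
        · exact absurd h hne
        · exact Or.inl h.symm
        · exact Or.inr h.symm
    have a := hpair x y hxm hym hxy
    have b := hpair x z hxm hzm hxz
    have d := hpair y z hym hzm hyz
    grind
  set i := idx 0
  have hx' : ∀ l, x0 + l • x1 + (l * l) • x2 = c l • T.E i (e l) (e l) := fun l => by rw [hx l, hone]
  have hval : ∀ l, x0 + l • x1 + (l * l) • x2 ∈ T.phi i := fun l => by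
    rw [hx']; exact (T.phi i).smul_mem _ (T.E_mem_phi i _ _)
  have m0 : x0 ∈ T.phi i := by simpa using hval 0
  have m1 : x1 ∈ T.phi i := by
    rw [← inv_smul_smul₀ h2 x1]
    refine (T.phi i).smul_mem _ ?_
    convert sub_mem (hval 1) (hval (-1)) using 1
    module
  have m2 : x2 ∈ T.phi i := by
    rw [← inv_smul_smul₀ h2 x2]
    refine (T.phi i).smul_mem _ ?_
    convert sub_mem (sub_mem (add_mem (hval 1) (hval (-1))) m0) m0 using 1
    module
  obtain ⟨φ, h1⟩ : ∃ φ : R →ₗ[F] F, φ 1 = 1 := by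
    obtain ⟨φ, hφ⟩ : ∃ φ : R →ₗ[F] F, φ 1 ≠ 0 := by
      by_contra h
      simp only [not_exists, not_not] at h
      exact one_ne_zero ((Module.forall_dual_apply_eq_zero_iff F (1 : R)).1 h)
    exact ⟨(φ 1)⁻¹ • φ, by rw [LinearMap.smul_apply, smul_eq_mul, inv_mul_cancel₀ hφ]⟩
  have hval' : ∀ l u v, φ (T.blk i u v (x0 + l • x1 + (l * l) • x2)) = c l * (T.f (e l) u * T.f v (e l)) := by
    intro l u v
    rw [hx', T.blk_smul, ← mul_one (T.E i (e l) (e l)), T.blk_E_mul (T.cen_one i), smul_smul, map_smul, h1,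
      smul_eq_mul, mul_one]
  have hlin : ∀ l u v, φ (T.blk i u v (x0 + l • x1 + (l * l) • x2)) =
      φ (T.blk i u v x0) + φ (T.blk i u v x1) * l + φ (T.blk i u v x2) * l ^ 2 := by
    intro l u v
    simp only [T.blk_add, T.blk_smul, map_add, map_smul, smul_eq_mul]
    ring
  have hsym : ∀ u v, φ (T.blk i u v x1) = φ (T.blk i v u x1) ∧ φ (T.blk i u v x2) = φ (T.blk i v u x2) := by
    intro u v
    have s : ∀ l, φ (T.blk i u v x0) + φ (T.blk i u v x1) * l + φ (T.blk i u v x2) * l ^ 2 =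
        φ (T.blk i v u x0) + φ (T.blk i v u x1) * l + φ (T.blk i v u x2) * l ^ 2 := by
      intro l
      rw [← hlin, ← hlin, hval', hval', T.swap u (e l), T.swap (e l) v]
      ring
    refine ⟨?_, ?_⟩
    · apply mul_left_cancel₀ h2
      linear_combination s 1 - s (-1)
    · apply mul_left_cancel₀ h2
      linear_combination s 1 + s (-1) - 2 * s 0
  have hmin : ∀ u v u' v',
      (φ (T.blk i u v x2) * φ (T.blk i u' v' x2) = φ (T.blk i u v' x2) * φ (T.blk i u' v x2)) ∧
      (x2 = 0 → φ (T.blk i u v x1) * φ (T.blk i u' v' x1) = φ (T.blk i u v' x1) * φ (T.blk i u' v x1)) := by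
    intro u v u' v'
    set a0 := φ (T.blk i u v x0)
    set a1 := φ (T.blk i u v x1)
    set a2 := φ (T.blk i u v x2) with ha2
    set b0 := φ (T.blk i u' v' x0)
    set b1 := φ (T.blk i u' v' x1)
    set b2 := φ (T.blk i u' v' x2) with hb2
    set g0 := φ (T.blk i u v' x0)
    set g1 := φ (T.blk i u v' x1)
    set g2 := φ (T.blk i u v' x2) with hg2
    set k0 := φ (T.blk i u' v x0)
    set k1 := φ (T.blk i u' v x1)
    set k2 := φ (T.blk i u' v x2) with hk2
    obtain ⟨q2, q4⟩ := quartic_coeff (k0 := a0 * b0 - g0 * k0) (k1 := a0 * b1 + a1 * b0 - g0 * k1 - g1 * k0)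
      (k2 := a0 * b2 + a1 * b1 + a2 * b0 - g0 * k2 - g1 * k1 - g2 * k0)
      (k3 := a1 * b2 + a2 * b1 - g1 * k2 - g2 * k1) (k4 := a2 * b2 - g2 * k2) h5 fun l => by
        have e1 := (hlin l u v).symm.trans (hval' l u v)
        have e2 := (hlin l u' v').symm.trans (hval' l u' v')
        have e3 := (hlin l u v').symm.trans (hval' l u v')
        have e4 := (hlin l u' v).symm.trans (hval' l u' v)
        calc _ = (a0 + a1 * l + a2 * l ^ 2) * (b0 + b1 * l + b2 * l ^ 2) -
              (g0 + g1 * l + g2 * l ^ 2) * (k0 + k1 * l + k2 * l ^ 2) := by ring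
          _ = 0 := by rw [e1, e2, e3, e4]; ring
    refine ⟨sub_eq_zero.1 q4, fun h0 => ?_⟩
    have z : ∀ u v, φ (T.blk i u v x2) = 0 := fun u v => by rw [h0, T.blk_zero, map_zero]
    rw [ha2, hb2, hg2, hk2, z, z, z, z] at q2
    linear_combination q2
  exact ⟨fun hne => Sys.pure_of_minors φ h1 m2 hne (fun u v => (hsym u v).2) (fun u v u' v' => (hmin u v u' v').1),
    fun h0 hne => Sys.pure_of_minors φ h1 m1 hne (fun u v => (hsym u v).1)
      (fun u v u' v' => (hmin u v u' v').2 h0)⟩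

/-- in a `p`-group of a root element of a factor and a root which is not one, some root which is not one maps
a root element of a factor to root elements of factors -/
theorem Grp.exists_normalizing [Finite R] [Nontrivial R] (G : Grp T H) (p : ℕ) [Fact p.Prime] [CharP F p]
    {J : Finset ι} {n d : R} (hn : IsPure T n) (hd : IsRoot T H d) (hnp : ¬ IsPure T d) (hJn : T.CenSet J n)
    (hJd : T.CenSet J d) (hC : IsNilpotent (n * d + d * n)) :
    ∃ n' d', IsPure T n' ∧ IsRoot T H d' ∧ ¬ IsPure T d' ∧ T.CenSet J n' ∧ T.CenSet J d' ∧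
      ∀ l : F, IsPure T ((1 + l • d') * n' * (1 - l • d')) := by
  classical
  haveI : Finite Rˣ := Finite.of_injective _ Units.val_injective
  let Q : Quad F R := ⟨n, d, hn.sq, hd.sq⟩
  set W := Q.grp with hW
  have hWH : W ≤ H := by
    rw [hW, Quad.grp, Subgroup.closure_le]
    rintro g ⟨c, hc | hc⟩
    · obtain ⟨u, hu, huc⟩ := hn.isRoot.mem G (H := H) c
      exact (Units.ext (huc.trans hc.symm) : u = g) ▸ hu
    · obtain ⟨u, hu, huc⟩ := hd.mem G c
      exact (Units.ext (huc.trans hc.symm) : u = g) ▸ hu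
  have hWJ : W ≤ T.cenGrp J := by
    rw [hW, Quad.grp, Subgroup.closure_le]
    rintro g ⟨c, hc | hc⟩ j hj <;> rw [hc]
    · exact (T.cen_one j).add ((hJn j hj).smul c)
    · exact (T.cen_one j).add ((hJd j hj).smul c)
  set Δ : Set R := {x | IsPure T x ∧ ∀ c : F, InH W (1 + c • x)} with hΔ
  have hnΔ : n ∈ Δ := ⟨hn, fun c => by
    obtain ⟨g, hg, hgc⟩ := Q.mem_gens_n c
    exact ⟨g, Subgroup.subset_closure hg, hgc⟩⟩
  have hJΔ : ∀ x, (∀ c : F, InH W (1 + c • x)) → T.CenSet J x := by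
    intro x hx j hj
    obtain ⟨g, hg, hgx⟩ := hx 1
    have := (hWJ hg j hj).sub (T.cen_one j)
    rwa [hgx, one_smul, add_sub_cancel_left] at this
  have hmap : ∀ g ∈ W, ∀ x, (∀ c : F, InH W (1 + c • x)) → ∀ c : F,
      InH W (1 + c • ((g : R) * x * (↑g⁻¹ : R))) := by
    intro g hg x hx c
    convert (hx c).conj hg using 1
    rw [mul_add, add_mul, mul_one, Units.mul_inv, mul_smul_comm, smul_mul_assoc]
  let S : Subgroup Rˣ :=
    { carrier := {g | g ∈ W ∧ ∀ x, x ∈ Δ ↔ (g : R) * x * (↑g⁻¹ : R) ∈ Δ}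
      mul_mem' := fun {a b} ha hb => ⟨mul_mem ha.1 hb.1, fun x => by
        rw [hb.2 x, ha.2]
        simp [mul_assoc]⟩
      one_mem' := ⟨one_mem _, fun x => by simp⟩
      inv_mem' := fun {a} ha => ⟨inv_mem ha.1, fun x => by
        rw [ha.2 ((↑a⁻¹ : R) * x * (↑a⁻¹⁻¹ : R))]
        simp [mul_assoc]⟩ }
  -- root elements of members of `Δ` are in the stabiliser
  have hgenS : ∀ δ ∈ Δ, ∀ c : F, InH S (1 + c • δ) := by
    intro δ hδ c
    have hδ2 : (c • δ) * (c • δ) = 0 := by rw [smul_mul_smul, hδ.1.sq, smul_zero]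
    have hconj : ∀ b : F, ∀ x ∈ Δ, (1 + b • δ) * x * (1 - b • δ) ∈ Δ := by
      intro b x hx
      refine ⟨?_, fun a => ?_⟩
      · obtain ⟨i, e, -, a, -, hδe⟩ := hδ.1
        have h := IsPure.conj_radical (T := T) (i := i) (e := e) (v := 0) (by simp) (b * a) hx.1
        rwa [T.yv_zero, zero_add, ← smul_smul, ← hδe] at h
      · obtain ⟨g, hg, hgb⟩ := hδ.2 b
        have h := hmap g hg x hx.2 a
        rwa [inv_one_add (show (b • δ) * (b • δ) = 0 by rw [smul_mul_smul, hδ.1.sq, smul_zero]) hgb, hgb] at h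
    obtain ⟨g, hg, hgc⟩ := hδ.2 c
    refine ⟨g, ⟨hg, fun x => ⟨fun hx => ?_, fun hx => ?_⟩⟩, hgc⟩
    · rw [inv_one_add hδ2 hgc, hgc]; exact hconj c x hx
    · rw [inv_one_add hδ2 hgc, hgc] at hx
      have := hconj (-c) _ hx
      rw [neg_smul, ← sub_eq_add_neg, sub_neg_eq_add] at this
      convert this using 1
      simp only [← mul_assoc]
      rw [show (1 - c • δ) * (1 + c • δ) = 1 by rw [sub_mul, one_mul, mul_add, mul_one, hδ2]; abel, one_mul,
        mul_assoc, show (1 - c • δ) * (1 + c • δ) = 1 by rw [sub_mul, one_mul, mul_add, mul_one, hδ2]; abel, mul_one]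
  -- a conclusion from a root whose root group is in the stabiliser
  have hfin : ∀ d', IsRoot T H d' → ¬ IsPure T d' → (∀ c : F, InH S (1 + c • d')) →
      ∃ n' d', IsPure T n' ∧ IsRoot T H d' ∧ ¬ IsPure T d' ∧ T.CenSet J n' ∧ T.CenSet J d' ∧
        ∀ l : F, IsPure T ((1 + l • d') * n' * (1 - l • d')) := by
    intro d' hd' hnp' hS
    refine ⟨n, d', hn, hd', hnp', hJn, hJΔ d' fun c => ?_, fun l => ?_⟩
    · obtain ⟨g, hg, hgc⟩ := hS c
      exact ⟨g, hg.1, hgc⟩
    · obtain ⟨g, hg, hgc⟩ := hS l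
      have := ((hg.2 n).1 hnΔ).1
      rwa [inv_one_add (show (l • d') * (l • d') = 0 by rw [smul_mul_smul, hd'.sq, smul_zero]) hgc, hgc] at this
  rcases (show S ≤ W from fun g hg => hg.1).eq_or_lt with heq | hlt
  · refine hfin d hd hnp fun c => ?_
    obtain ⟨g, hg, hgc⟩ := Q.mem_gens_d c
    exact ⟨g, heq ▸ (Subgroup.subset_closure hg : g ∈ W), hgc⟩
  haveI : Group.IsNilpotent W := (Quad.isPGroup_of_nilpotent (Q := Q) p hC).isNilpotent
  have hne : S.subgroupOf W < Subgroup.normalizer (S.subgroupOf W : Set W) := by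
    refine Group.normalizerCondition_of_isNilpotent _ (lt_top_iff_ne_top.2 fun h => ?_)
    rw [Subgroup.subgroupOf_eq_top] at h
    exact hlt.not_ge h
  obtain ⟨⟨g, hgW⟩, hgN, hgS⟩ := SetLike.exists_of_lt hne
  rw [Subgroup.mem_subgroupOf] at hgS
  have hnorm : ∀ s ∈ S, g * s * g⁻¹ ∈ S := by
    intro s hs
    exact ((Subgroup.mem_normalizer_iff.1 hgN ⟨s, hs.1⟩).1 hs :)
  obtain ⟨δ, hδ, hδg⟩ : ∃ δ ∈ Δ, (g : R) * δ * (↑g⁻¹ : R) ∉ Δ := by
    by_contra hall
    simp only [not_exists, not_and, not_not] at hall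
    refine hgS ⟨hgW, fun x => ⟨hall x, fun hx => ?_⟩⟩
    obtain ⟨⟨y, hy⟩, hyx⟩ := Finite.injective_iff_surjective.1
      (show Function.Injective (fun y : Δ => (⟨(g : R) * y * (↑g⁻¹ : R), hall y y.2⟩ : Δ)) from fun a b h => by
        have := congrArg Subtype.val h
        simpa [Subtype.ext_iff] using this) ⟨_, hx⟩
    have := congrArg Subtype.val hyx
    simp only [Units.mul_left_inj, Units.mul_right_inj] at this
    exact this ▸ hy
  refine hfin _ (hδ.1.isRoot.conj (hWH hgW)) (fun hp => hδg ⟨hp, hmap g hgW δ hδ.2⟩) fun c => ?_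
  obtain ⟨s, hs, hsc⟩ := hgenS δ hδ c
  refine ⟨g * s * g⁻¹, hnorm s hs, ?_⟩
  rw [Units.val_mul, Units.val_mul, hsc, mul_add, add_mul, mul_one, Units.mul_inv, mul_smul_comm, smul_mul_assoc]

/-- **all roots are root elements of factors** -/
theorem Grp.all_pure [Fintype ι] [DecidableEq ι] [Finite R] [Fintype F] [Nontrivial R] (G : Grp T H) (Z : Ctr T H)
    (p : ℕ) [Fact p.Prime] [CharP F p] (hp : p ≠ 2) (h5 : 5 ≤ Fintype.card F) {e : A} (he : e ≠ 0) {d : R}
    (hd : IsRoot T H d) : IsPure T d := by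
  classical
  have h4 : 4 ≤ Nat.card F := by rw [Nat.card_eq_fintype_card]; omega
  have h2 : (2 : F) ≠ 0 := Ring.two_ne_zero (by rwa [ringChar.eq F p])
  suffices key : ∀ Jc : Finset ι, ∀ d, IsRoot T H d → T.CenSet Jcᶜ d → IsPure T d from
    key Finset.univ d hd fun j hj => absurd hj (by simp)
  intro Jc
  induction Jc using Finset.strongInduction with
  | H Jc ih =>
    intro d hd hJd
    by_contra hnp
    rcases Jc.eq_empty_or_nonempty with rfl | ⟨j, hj⟩
    · obtain ⟨c, hc⟩ := T.scal d fun i u v => hJd i (by simp) u v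
      have h := hd.sq
      rw [hc, smul_mul_smul, one_mul, smul_eq_zero] at h
      exact hd.ne_zero (by rw [hc, mul_self_eq_zero.1 (h.resolve_right one_ne_zero), zero_smul])
    have hn : IsPure T (T.E j e e) := ⟨j, e, he, 1, one_ne_zero, (one_smul _ _).symm⟩
    have hJn : T.CenSet Jcᶜ (T.E j e e) := fun l hl =>
      T.cen_E (fun h : l = j => (Finset.mem_compl.1 hl) (h ▸ hj)) e e
    obtain ⟨n', d', hn', hd', hnp', hJn', hJd', hcurve⟩ := G.exists_normalizing p hn hd hnp hJn hJd
      ((G.pure_or_nilpotent Z p hp h4 hn hd).resolve_left hnp)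
    obtain ⟨hB, hA⟩ := curve_pure (T := T) h2 h5 (x0 := n') (x1 := d' * n' - n' * d') (x2 := -(d' * n' * d'))
      fun l => by
        convert hcurve l using 1
        simp only [add_mul, mul_sub, one_mul, mul_one, smul_mul_assoc, mul_smul_comm, smul_sub, smul_smul, smul_neg]
        module
    obtain ⟨m, hm, hJm, hmd⟩ : ∃ m, IsPure T m ∧ T.CenSet Jcᶜ m ∧ m * d' = d' * m := by
      by_cases h0 : d' * n' * d' = 0
      · by_cases h1 : d' * n' - n' * d' = 0
        · exact ⟨n', hn', hJn', (sub_eq_zero.1 h1).symm⟩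
        · refine ⟨_, hA (by rw [h0, neg_zero]) h1, (hJd'.mul hJn').sub (hJn'.mul hJd'), ?_⟩
          rw [sub_mul, mul_sub, mul_assoc n', hd'.sq, ← mul_assoc d' d', hd'.sq, ← mul_assoc d' n' d', h0]
          simp
      · refine ⟨_, hB (neg_ne_zero.2 h0), ((hJd'.mul hJn').mul hJd').neg, ?_⟩
        rw [neg_mul, mul_neg, mul_assoc _ d' d', hd'.sq]
        simp only [← mul_assoc]
        rw [hd'.sq]
        simp
    obtain ⟨k, a, ha, c, hc, rfl⟩ := hm
    have hk : k ∈ Jc := by
      by_contra hk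
      refine Sys.not_cen_E (T := T) (i := k) ha ?_
      have := (hJm k (Finset.mem_compl.2 hk)).smul c⁻¹
      rwa [inv_smul_smul₀ hc] at this
    have hcomm : T.E k a a * d' = d' * T.E k a a := by
      rw [smul_mul_assoc, mul_smul_comm] at hmd
      exact (smul_right_injective R hc) hmd
    refine hnp' (ih (Jc.erase k) (Finset.erase_ssubset hk) d' hd' fun l hl => ?_)
    rcases eq_or_ne l k with rfl | hlk
    · exact (G.pure_or_cen Z p hp h4 ha hd' hcomm).resolve_left hnp'
    · exact hJd' l (Finset.mem_compl.2 fun h => (Finset.mem_compl.1 hl) (Finset.mem_erase.2 ⟨hlk, h⟩))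

end CfsgLib.MaxSub.SpPow
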