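import Cfsg.Agent.Lib.MaxSub.SpPow.Roots

/-!
Spaces of operators commuting with one factor, stable under the root elements of the others: an operator killed
by all sandwiches is self-adjoint, and there is no space of skew operators with scalar anticommutators.
-/

set_option autoImplicit false
set_option linter.unusedSectionVars false

namespace CfsgLib.MaxSub.SpPow

variable {F A R ι κ : Type*} [Field F] [AddCommGroup A] [Module F A] [Ring R] [Algebra F R] [Fintype κ]

namespace Sys

variable (T : Sys F A R ι κ)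

/-- `x` commutes with all factors outside `J` -/
def CenOut (J : Finset ι) (x : R) : Prop := ∀ i ∉ J, T.Cen i x

variable [DecidableEq ι]

theorem cenOut_blk {J : Finset ι} {j : ι} (u v : A) {x : R} (hx : T.CenOut J x) :
    T.CenOut (J.erase j) (T.blk j u v x) := fun i hi => by
  rcases eq_or_ne i j with rfl | h
  · exact T.cen_blk _ _ _ _
  · exact T.cen_blk_other h _ _ (hx i fun hiJ => hi (Finset.mem_erase.2 ⟨h, hiJ⟩))

theorem cenOut_empty {x : R} (hx : T.CenOut ∅ x) : ∃ c : F, x = c • 1 :=
  T.scal x fun i => hx i (Finset.notMem_empty i)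

theorem blk_sandwich {i : ι} (u v : A) (x : R) (hx : ∀ e, T.E i e e * x * T.E i e e = 0) :
    T.blk i u v x = -T.blk i v u x := by
  refine eq_neg_of_add_eq_zero_left ?_
  rcases eq_or_ne u 0 with rfl | hu
  · simp [blk]
  rcases eq_or_ne v 0 with rfl | hv
  · simp [blk]
  rcases eq_or_ne (u + v) 0 with huv | huv
  · rw [eq_neg_of_add_eq_zero_left huv]
    have h1 : T.blk i v v x = 0 := T.E_mul_cancel hv hv (T.cen_blk i v v x) (by rw [T.E_blk]; exact hx v)
    have e1 : T.blk i (-v) v x = -T.blk i v v x := by simp [blk]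
    have e2 : T.blk i v (-v) x = -T.blk i v v x := by simp [blk]
    rw [e1, e2, h1, neg_zero, add_zero]
  have h0 : ∀ w, w ≠ 0 → T.blk i w w x = 0 := fun w hw =>
    T.E_mul_cancel hw hw (T.cen_blk i w w x) (by rw [T.E_blk]; exact hx w)
  have h := h0 (u + v) huv
  have e : T.blk i (u + v) (u + v) x =
      T.blk i u u x + T.blk i v v x + (T.blk i u v x + T.blk i v u x) := by
    simp only [blk, map_add, LinearMap.add_apply, mul_add, add_mul, Finset.sum_add_distrib]
    abel
  rw [e, h0 u hu, h0 v hv, zero_add, zero_add] at h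
  exact h

/-- sandwiches by all root elements zero: self-adjoint -/
theorem ad_eq_self {J : Finset ι} {x : R} (hx : T.CenOut J x)
    (hs : ∀ j ∈ J, ∀ e, T.E j e e * x * T.E j e e = 0) : T.ad x = x := by
  induction J using Finset.strongInduction generalizing x with
  | H J ih =>
    rcases J.eq_empty_or_nonempty with rfl | ⟨j, hj⟩
    · obtain ⟨c, rfl⟩ := T.cenOut_empty hx
      rw [map_smul, T.ad_one]
    · refine sub_eq_zero.1 (T.eq_zero_of_blk j fun u v => ?_)
      rw [T.blk_sub, sub_eq_zero]
      have hB : T.ad (T.blk j v u x) = T.blk j v u x := by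
        refine ih _ (Finset.erase_ssubset hj) (T.cenOut_blk v u hx) fun l hl e => ?_
        obtain ⟨hlj, hlJ⟩ := Finset.mem_erase.1 hl
        have hc : T.Cen j (T.E l e e) := T.cen_E hlj.symm e e
        calc T.E l e e * T.blk j v u x * T.E l e e
            = T.blk j v u (T.E l e e * x * T.E l e e) := by
              simp only [blk, Finset.mul_sum, Finset.sum_mul]
              refine Finset.sum_congr rfl fun m _ => ?_
              simp only [← mul_assoc]
              rw [hc (T.b m) v]
              simp only [mul_assoc]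
              rw [hc u (T.b' m)]
          _ = 0 := by rw [hs l hlJ, T.blk_zero]
      rw [T.blk_sandwich u v x (hs j hj), T.ad_blk] at *
      rw [← hB, neg_neg]

variable {T}

/-- a subspace containing `1` and stable under left multiplication by the factors in `J` contains every
operator commuting with the other factors -/
theorem mem_of_cenOut (P : Submodule F R) (h1 : (1 : R) ∈ P) {J : Finset ι}
    (hE : ∀ j ∈ J, ∀ u v, ∀ w ∈ P, T.E j u v * w ∈ P) {x : R} (hx : T.CenOut J x) : x ∈ P := by
  induction J using Finset.strongInduction generalizing x with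
  | H J ih =>
    rcases J.eq_empty_or_nonempty with rfl | ⟨j, hj⟩
    · obtain ⟨c, rfl⟩ := T.cenOut_empty hx
      exact P.smul_mem c h1
    · have e : x = (∑ l, T.E j (T.b l) (T.b' l)) * x * ∑ m, T.E j (T.b m) (T.b' m) := by
        rw [T.one, one_mul, mul_one]
      rw [e, Finset.sum_mul, Finset.sum_mul]
      refine P.sum_mem fun l _ => ?_
      rw [Finset.mul_sum]
      refine P.sum_mem fun m _ => ?_
      rw [← T.E_blk]
      exact hE j hj _ _ _ (ih _ (Finset.erase_ssubset hj) (fun i hi => hE i (Finset.mem_of_mem_erase hi))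
        (T.cenOut_blk _ _ hx))

theorem E_mem (P : Submodule F R) {i : ι} {w : R} (h : ∀ e, T.E i e e * w ∈ P)
    (h2 : ∀ e e', T.E i e e * (T.E i e' e' * w) ∈ P) (u v : A) : T.E i u v * w ∈ P := by
  have key : ∀ u v, T.f u v ≠ 0 → T.E i u v * w ∈ P := by
    intro u v huv
    have h3 := P.smul_mem (T.f v u)⁻¹ (h2 u v)
    rwa [← mul_assoc, T.mul, smul_mul_assoc, inv_smul_smul₀ (by rw [T.swap u v]; simpa using huv)] at h3
  rcases eq_or_ne u 0 with rfl | hu
  · simp
  by_cases huv : T.f u v = 0
  · obtain ⟨z, hz⟩ := T.exists_partner hu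
    have h4 := P.sub_mem (key u (v + z) (by rw [map_add, huv, hz, zero_add]; exact one_ne_zero))
      (key u z (by rw [hz]; exact one_ne_zero))
    rwa [map_add, add_mul, add_sub_cancel_right] at h4
  · exact key u v huv

/-- `σ w σ' = 0` for all `w` of the factors in `J` forces `σ = 0` or `σ' = 0` -/
theorem prime {J : Finset ι} {σ σ' : R} (hσ : T.CenOut J σ) (hσ' : T.CenOut J σ')
    (h : ∀ w, T.CenOut J w → σ * w * σ' = 0) : σ = 0 ∨ σ' = 0 := by
  induction J using Finset.strongInduction generalizing σ σ' with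
  | H J ih =>
    rcases J.eq_empty_or_nonempty with rfl | ⟨j, hj⟩
    · have h0 := h 1 fun i _ => T.cen_one i
      rw [mul_one] at h0
      obtain ⟨c, rfl⟩ := T.cenOut_empty hσ
      rcases eq_or_ne c 0 with rfl | hc
      · left; simp
      · right
        rw [smul_mul_assoc, one_mul] at h0
        rw [← inv_smul_smul₀ hc σ', h0, smul_zero]
    · by_contra hne
      rw [not_or] at hne
      obtain ⟨u, v, hu⟩ : ∃ u v, T.blk j u v σ ≠ 0 := by
        by_contra hh; simp only [not_exists, not_not] at hh; exact hne.1 (T.eq_zero_of_blk j hh)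
      obtain ⟨u', v', hu'⟩ : ∃ u' v', T.blk j u' v' σ' ≠ 0 := by
        by_contra hh; simp only [not_exists, not_not] at hh; exact hne.2 (T.eq_zero_of_blk j hh)
      refine (ih _ (Finset.erase_ssubset hj) (T.cenOut_blk u v hσ) (T.cenOut_blk u' v' hσ') fun w hw =>
        ?_).elim hu hu'
      have hwj : T.Cen j w := hw j (Finset.notMem_erase j J)
      refine T.eq_zero_of_blk j fun a b => ?_
      have hX : T.Cen j (T.blk j u v σ * w * T.blk j u' v' σ') :=
        ((T.cen_blk j u v σ).mul hwj).mul (T.cen_blk j u' v' σ')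
      rw [T.blk_cen hX]
      rcases eq_or_ne a 0 with rfl | ha
      · simp
      obtain ⟨a', ha'⟩ := T.exists_partner ha
      suffices T.E j a a * (T.blk j u v σ * w * T.blk j u' v' σ') = 0 by
        rw [T.E_mul_cancel ha ha hX this, smul_zero]
      calc T.E j a a * (T.blk j u v σ * w * T.blk j u' v' σ')
          = T.E j a u * σ * (T.E j v a * w) * T.blk j u' v' σ' := by
            rw [← mul_assoc, ← mul_assoc, T.E_blk, mul_assoc (T.E j a u * σ) (T.E j v a) w]
        _ = T.E j a u * σ * (w * (T.E j v a * T.blk j u' v' σ')) := by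
            rw [← hwj v a]; simp only [mul_assoc]
        _ = T.E j a u * (σ * (w * T.E j v u') * σ') * T.E j v' a := by
            rw [T.E_blk]; simp only [mul_assoc]
        _ = 0 := by
            rw [h _ fun i hi => ?_, mul_zero, zero_mul]
            exact (hw i fun hh => hi (Finset.mem_of_mem_erase hh)).mul (T.cen_E (fun e' : i = j => hi (e'.symm ▸ hj)) v u')

end Sys

variable {T : Sys F A R ι κ}

/-- no space of skew operators commuting with the factor `i`, stable under the other root elements, has all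
anticommutators scalar -/
theorem clifford [Nontrivial R] [Fintype ι] [DecidableEq ι] (h2 : (2 : F) ≠ 0) {i : ι}
    (hE : ∃ e f₀ v : A, T.f e f₀ = 1 ∧ v ≠ 0 ∧ T.f v e = 0 ∧ T.f v f₀ = 0) (S : Submodule F R)
    (hcen : ∀ K ∈ S, T.Cen i K) (hskew : ∀ K ∈ S, T.ad K = -K)
    (hcl : ∀ K ∈ S, ∀ K' ∈ S, ∃ c : F, K * K' + K' * K = c • 1)
    (hst : ∀ j, j ≠ i → ∀ e (c : F), ∀ K ∈ S, (1 + c • T.E j e e) * K * (1 - c • T.E j e e) ∈ S) :
    ∀ K ∈ S, K = 0 := by
  have hN : ∀ j, j ≠ i → ∀ e, ∀ K ∈ S,
      T.E j e e * K * T.E j e e ∈ S ∧ T.E j e e * K - K * T.E j e e ∈ S := by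
    intro j hj e K hK
    have a := hst j hj e 1 K hK
    have b := hst j hj e (-1) K hK
    have h1 : T.E j e e * K * T.E j e e ∈ S := by
      rw [← inv_smul_smul₀ h2 (T.E j e e * K * T.E j e e)]
      refine S.smul_mem _ ?_
      convert S.sub_mem (S.add_mem hK hK) (S.add_mem a b) using 1
      simp only [one_smul, neg_smul, two_smul, add_mul, mul_add, sub_mul, mul_sub, one_mul, mul_one, neg_mul,
        mul_neg, mul_assoc, sub_neg_eq_add]
      abel
    refine ⟨h1, ?_⟩
    convert S.add_mem (S.sub_mem a hK) h1 using 1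
    simp only [one_smul, add_mul, mul_sub, one_mul, mul_one, mul_assoc]
    abel
  intro K hK
  by_contra hK0
  obtain ⟨j, hj, e, hne⟩ : ∃ j, j ≠ i ∧ ∃ e, T.E j e e * K * T.E j e e ≠ 0 := by
    by_contra hall
    simp only [not_exists, not_and, not_not] at hall
    have h := T.ad_eq_self (J := Finset.univ.erase i) (x := K)
      (fun l hl => by
        have : l = i := by simpa using hl
        exact this ▸ hcen K hK)
      (fun l hl => hall l (Finset.mem_erase.1 hl).1)
    rw [hskew K hK] at h
    apply hK0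
    rw [← inv_smul_smul₀ h2 K, two_smul]
    nth_rw 1 [← h]
    rw [neg_add_cancel, smul_zero]
  have he : e ≠ 0 := fun h => hne (by simp [h])
  obtain ⟨f₀, hf⟩ := T.exists_partner he
  set J := (Finset.univ.erase i).erase j with hJ
  let S1 : Submodule F R :=
    { carrier := {y | T.CenOut J y ∧ T.E j e e * y ∈ S}
      add_mem' := fun hy hy' => ⟨fun l hl => (hy.1 l hl).add (hy'.1 l hl), by
        rw [mul_add]; exact S.add_mem hy.2 hy'.2⟩
      zero_mem' := ⟨fun l _ => T.cen_zero l, by simp⟩
      smul_mem' := fun c y hy => ⟨fun l hl => (hy.1 l hl).smul c, by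
        rw [mul_smul_comm]; exact S.smul_mem c hy.2⟩ }
  have hmem : ∀ l, l ∉ J → l = i ∨ l = j := fun l hl => by
    by_contra h
    rw [not_or] at h
    exact hl (by simp [hJ, h.1, h.2])
  have hy0 : T.blk j e e K ∈ S1 :=
    ⟨fun l hl => by
      rcases hmem l hl with rfl | rfl
      · exact T.cen_blk_other hj.symm _ _ (hcen K hK)
      · exact T.cen_blk _ _ _ _,
      by rw [T.E_blk]; exact (hN j hj e K hK).1⟩
  have hzero : ∀ y ∈ S1, ∀ y' ∈ S1, y * y' = 0 := by
    intro y hy y' hy'
    have hyj : T.Cen j y := hy.1 j (by simp [hJ])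
    have hyj' : T.Cen j y' := hy'.1 j (by simp [hJ])
    have hm : T.E j f₀ f₀ * y' ∈ S := by
      have := S.neg_mem (hN j hj f₀ _ hy'.2).1
      convert this using 1
      rw [mul_assoc, mul_assoc, hyj', ← mul_assoc (T.E j e e), ← mul_assoc (T.E j f₀ f₀), ← mul_assoc (T.E j f₀ f₀),
        T.mul, hf, one_smul, T.mul, T.swap e f₀, hf, neg_smul, one_smul, neg_mul, neg_neg]
    obtain ⟨c, hc⟩ := hcl _ hy.2 _ hm
    rw [mul_assoc, ← mul_assoc y, hyj, mul_assoc, ← mul_assoc (T.E j e e), Sys.n_mul_m hf,
      mul_assoc (T.E j f₀ f₀), ← mul_assoc y', hyj', mul_assoc (T.E j e e), ← mul_assoc (T.E j f₀ f₀),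
      Sys.m_mul_n hf] at hc
    have hr := congrArg (fun x => T.rI j e f₀ * x) hc
    simp only [mul_add, ← mul_assoc, mul_neg, T.rI_mul_pI hf, T.rI_mul_qI hf, zero_mul, neg_zero, add_zero,
      mul_smul_comm, mul_one] at hr
    obtain ⟨e₁, f₁, v, hef₁, hv, hve, hvf⟩ := hE
    have hr0 : T.rI j e f₀ ≠ 0 := by
      intro h0
      -- a nonzero vector orthogonal to the pair
      obtain ⟨w, hw⟩ : ∃ w, T.proj e f₀ w ≠ 0 := by
        by_contra hall
        simp only [not_exists, not_not] at hall
        have hd : ∀ w, w = T.f w f₀ • e - T.f w e • f₀ := fun w => by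
          have := hall w
          rw [T.proj_apply, sub_add, sub_eq_zero] at this
          exact this
        have h3 : T.f e₁ f₁ = 0 ∨ v = 0 := by
          by_contra hh
          rw [not_or] at hh
          have hA : T.f v e * T.f e₁ f₀ - T.f v f₀ * T.f e₁ e = 0 := by
            rw [← hve]
            conv_rhs => arg 2; rw [hd e₁]
            simp only [map_sub, map_smul, smul_eq_mul]
            ring
          have hB : T.f v e * T.f f₁ f₀ - T.f v f₀ * T.f f₁ e = 0 := by
            rw [← hvf]
            conv_rhs => arg 2; rw [hd f₁]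
            simp only [map_sub, map_smul, smul_eq_mul]
            ring
          have hC : T.f e₁ f₁ = T.f e₁ f₀ * (-T.f f₁ e) + T.f e₁ e * T.f f₁ f₀ := by
            conv_lhs => arg 1; arg 2; rw [hd e₁]
            simp only [map_sub, map_smul, LinearMap.sub_apply, LinearMap.smul_apply, smul_eq_mul]
            rw [T.swap f₁ e, T.swap f₁ f₀]
            ring
          have h1 : T.f v e = 0 := by linear_combination (T.f e₁ e) * hB - (T.f f₁ e) * hA - (T.f v e) * hef₁ + (T.f v e) * hC
          have h2 : T.f v f₀ = 0 := by linear_combination (T.f e₁ f₀) * hB - (T.f f₁ f₀) * hA - (T.f v f₀) * hef₁ + (T.f v f₀) * hC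
          exact hh.2 (by rw [hd v, h1, h2]; simp)
        exact h3.elim (fun h => one_ne_zero (hef₁.symm.trans h)) hv
      have h4 := T.rI_E (e := e) (f₀ := f₀) j w e
      rw [h0, zero_mul] at h4
      exact T.E_ne_zero j hw he h4.symm
    have hc0 : c = 0 := by
      by_contra hc0
      exact hr0 (by rw [← inv_smul_smul₀ hc0 (T.rI j e f₀), ← hr, smul_zero])
    have hp := congrArg (fun x => T.pI j e f₀ * x) hc
    simp only [hc0, zero_smul, mul_zero, mul_add, ← mul_assoc, mul_neg, T.pI_mul_self hf, T.pI_mul_qI, zero_mul,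
      neg_zero, add_zero, neg_mul, neg_eq_zero] at hp
    rw [mul_assoc] at hp
    exact T.E_mul_cancel he (by rintro rfl; simp at hf) (hyj.mul hyj') hp
  have hall : ∀ w, T.CenOut J w → T.blk j e e K * w * T.blk j e e K = 0 := by
    intro w hw
    let P : Submodule F R :=
      { carrier := {w | ∀ y ∈ S1, ∀ y' ∈ S1, y * w * y' = 0}
        add_mem' := fun a b y hy y' hy' => by rw [mul_add, add_mul, a y hy y' hy', b y hy y' hy', add_zero]
        zero_mem' := fun y _ y' _ => by simp
        smul_mem' := fun c w a y hy y' hy' => by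
          rw [mul_smul_comm, smul_mul_assoc, a y hy y' hy', smul_zero] }
    have hP1 : (1 : R) ∈ P := fun y hy y' hy' => by rw [mul_one]; exact hzero y hy y' hy'
    have hstep : ∀ l ∈ J, ∀ a, ∀ w ∈ P, T.E l a a * w ∈ P := by
      intro l hl a w hw y hy y' hy'
      have hli : l ≠ i ∧ l ≠ j := ⟨(Finset.mem_erase.1 (Finset.mem_of_mem_erase hl)).1, (Finset.mem_erase.1 hl).1⟩
      have hy1 : T.E l a a * y - y * T.E l a a ∈ S1 := by
        refine ⟨fun m hm => ?_, ?_⟩
        · have hml : T.Cen m (T.E l a a) := T.cen_E (fun h' : m = l => hm (h'.symm ▸ hl)) a a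
          exact (hml.mul (hy.1 m hm)).sub ((hy.1 m hm).mul hml)
        · have := (hN l hli.1 a _ hy.2).2
          convert this using 1
          rw [mul_sub, ← mul_assoc, T.comm j l hli.2.symm, mul_assoc, mul_assoc]
      have := congrArg₂ (fun p q => T.E l a a * p - q) (hw y hy y' hy') (hw _ hy1 y' hy')
      simp only [mul_zero, sub_zero] at this
      convert this using 1
      simp only [sub_mul, mul_assoc]
      abel
    exact Sys.mem_of_cenOut P hP1 (fun l hl u v w hw =>
      Sys.E_mem P (fun a => hstep l hl a w hw) (fun a a' => hstep l hl a _ (hstep l hl a' w hw)) u v) hw _ hy0 _ hy0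
  rcases Sys.prime hy0.1 hy0.1 hall with h | h <;>
    exact hne (by rw [← T.E_blk, h, mul_zero])

end CfsgLib.MaxSub.SpPow
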