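import Cfsg.Agent.Lib.MaxSub.SpPow.Main
import Cfsg.Agent.Lib.MaxSub.SpPow.AllPure

/-!
Closing up from the transvections at pure tensors, and maximality, without a lower bound on the field: two
multilinear maps are proportional or agree, not zero, at some point.
-/

set_option autoImplicit false
set_option linter.unusedSectionVars false

namespace CfsgLib.MaxSub.SpPow

open Cfsg.Geo Matrix
open scoped MatrixGroups

/-- two multilinear maps agree somewhere off the zeros of the second, or are proportional -/
theorem exists_agree {F A ι : Type*} [Field F] [AddCommGroup A] [Module F A] [Fintype ι] [DecidableEq ι]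
    (a b : (ι → A) → F)
    (aadd : ∀ z l x y, a (Function.update z l (x + y)) = a (Function.update z l x) + a (Function.update z l y))
    (asmul : ∀ z l (c : F) x, a (Function.update z l (c • x)) = c * a (Function.update z l x))
    (badd : ∀ z l x y, b (Function.update z l (x + y)) = b (Function.update z l x) + b (Function.update z l y))
    (bsmul : ∀ z l (c : F) x, b (Function.update z l (c • x)) = c * b (Function.update z l x))
    (hb : ∃ z, b z ≠ 0) : (∃ z, b z ≠ 0 ∧ a z = b z) ∨ ∃ r : F, ∀ z, a z = r * b z := by
  classical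
  refine or_iff_not_imp_left.2 fun hno => ?_
  simp only [not_exists, not_and] at hno
  -- along one coordinate
  have hline : ∀ z l y, b z ≠ 0 → b z * a (Function.update z l y) = a z * b (Function.update z l y) := by
    intro z l y hz
    by_contra hne
    obtain ⟨u, hu⟩ : ∃ u, u = b z • y - b (Function.update z l y) • z l := ⟨_, rfl⟩
    have sub : ∀ (g : (ι → A) → F), (∀ z l x y, g (Function.update z l (x + y)) = g (Function.update z l x) +
        g (Function.update z l y)) → (∀ z l (c : F) x, g (Function.update z l (c • x)) = c * g (Function.update z l x)) →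
        g (Function.update z l u) = b z * g (Function.update z l y) - b (Function.update z l y) * g z := by
      intro g gadd gsmul
      rw [hu, sub_eq_add_neg, ← neg_smul, gadd, gsmul, gsmul, Function.update_eq_self]
      ring
    have hbu := sub b badd bsmul
    have hau := sub a aadd asmul
    rw [mul_comm (b z), sub_self] at hbu
    have hau0 : a (Function.update z l u) ≠ 0 := by
      rw [hau]
      intro h
      exact hne (by linear_combination h)
    obtain ⟨s, hs⟩ : ∃ s : F, s = (b z - a z) / a (Function.update z l u) := ⟨_, rfl⟩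
    refine hno (Function.update z l (z l + s • u)) ?_ ?_
    · rw [badd, bsmul, Function.update_eq_self, hbu, mul_zero, add_zero]; exact hz
    · rw [aadd, asmul, badd, bsmul, Function.update_eq_self, hbu, mul_zero, add_zero, hs, div_mul_cancel₀ _ hau0]
      ring
  obtain ⟨z₀, hz₀⟩ := hb
  suffices key : ∀ (J : Finset ι) (z z' : ι → A), b z ≠ 0 → (∀ m, m ∉ J → z' m = z m) → b z * a z' = a z * b z' by
    refine ⟨a z₀ / b z₀, fun z => ?_⟩
    have h := key Finset.univ z₀ z hz₀ fun m hm => absurd (Finset.mem_univ m) hm
    field_simp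
    linear_combination h
  intro J
  induction J using Finset.induction_on with
  | empty =>
    intro z z' _ h
    rw [show z' = z from funext fun m => h m (Finset.notMem_empty m)]
    ring
  | insert l J hl ih =>
    intro z z' hz h
    have good : ∀ y, b (Function.update z l y) ≠ 0 →
        b z * a (Function.update z' l y) = a z * b (Function.update z' l y) := by
      intro y hy
      have h1 := ih (Function.update z l y) (Function.update z' l y) hy fun m hm => by
        rcases eq_or_ne m l with rfl | hml
        · simp
        · rw [Function.update_of_ne hml, Function.update_of_ne hml,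
            h m fun h' => (Finset.mem_insert.1 h').elim hml hm]
      refine mul_left_cancel₀ hy ?_
      linear_combination (b z) * h1 + b (Function.update z' l y) * hline z l y hz
    by_cases h0 : b (Function.update z l (z' l)) = 0
    · have g1 := good (z' l + z l) (by rw [badd, h0, zero_add, Function.update_eq_self]; exact hz)
      have g2 := good (z l) (by rw [Function.update_eq_self]; exact hz)
      rw [aadd, badd, Function.update_eq_self] at g1
      linear_combination g1 - g2
    · simpa using good (z' l) h0

variable {F : Type*} [Field F] {m k t : ℕ}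

local notation "𝕀" => (Fin m ⊕ Fin m)

namespace Data

variable (D : Data F m k t)

/-- all transvections from those at pure tensors, any field of odd characteristic -/
theorem spGL_le_odd [Fintype F] (h2 : (2 : F) ≠ 0) {M : Subgroup (GL 𝕀 F)}
    (hfull : ∀ a : Fin t → Fin k → F, (∀ i, a i ≠ 0) → InL F M (full D.sys a)) :
    Cfsg.spGL m F ≤ M := by
  classical
  have hpure : ∀ a, SpFull M (D.vec a) := by
    intro a
    by_cases ha : ∀ i, a i ≠ 0
    · exact D.spFull_vec (hfull a ha)
    simp only [ne_eq, not_forall, not_not] at ha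
    obtain ⟨i, hi⟩ := ha
    have e : ((fun p : Fin t → Fin k => ∏ i, a i (p i)) ∘ D.e) = 0 := by
      funext p
      exact Finset.prod_eq_zero (Finset.mem_univ i) (by rw [hi]; rfl)
    rw [vec, e, Matrix.mulVec_zero]
    exact CfsgLib.MaxSub.spFull_zero
  have hvadd : ∀ (z : Fin t → Fin k → F) l x y, D.vec (Function.update z l (x + y)) =
      D.vec (Function.update z l x) + D.vec (Function.update z l y) := by
    intro z l x y
    rw [vec, vec, vec, ← Matrix.mulVec_add]
    congr 1
    funext p
    simp only [Function.comp_apply, Pi.add_apply, ← Finset.mul_prod_erase _ _ (Finset.mem_univ l),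
      Function.update_self, add_mul]
    congr 2 <;>
      exact Finset.prod_congr rfl fun j hj => by
        simp [Function.update_of_ne (Finset.ne_of_mem_erase hj)]
  have hvsmul : ∀ (z : Fin t → Fin k → F) l (c : F) x, D.vec (Function.update z l (c • x)) =
      c • D.vec (Function.update z l x) := by
    intro z l c x
    rw [vec, vec, ← Matrix.mulVec_smul]
    congr 1
    funext p
    simp only [Function.comp_apply, Pi.smul_apply, smul_eq_mul, ← Finset.mul_prod_erase _ _ (Finset.mem_univ l),
      Function.update_self, mul_assoc]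
    congr 2
    exact Finset.prod_congr rfl fun j hj => by
      simp [Function.update_of_ne (Finset.ne_of_mem_erase hj)]
  have hadd : ∀ v a, SpFull M v → SpFull M (v + D.vec a) := by
    intro v a hv
    set w := D.vec a with hw
    by_cases h0 : Cfsg.sympForm m F v w ≠ 0
    · exact hv.add (hpure a) h0
    rw [not_not] at h0
    rcases eq_or_ne v 0 with rfl | hv0
    · rw [zero_add]; exact hpure a
    rcases eq_or_ne w 0 with hw0 | hw0
    · rw [hw0, add_zero]; exact hv
    rcases eq_or_ne (v + w) 0 with hvw | hvw
    · rw [hvw]; exact CfsgLib.MaxSub.spFull_zero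
    rcases exists_agree (A := Fin k → F) (fun z => Cfsg.sympForm m F v (D.vec z))
      (fun z => Cfsg.sympForm m F w (D.vec z)) (fun z l x y => by rw [hvadd, sympForm_add_right])
      (fun z l c x => by rw [hvsmul, sympForm_smul_right]) (fun z l x y => by rw [hvadd, sympForm_add_right])
      (fun z l c x => by rw [hvsmul, sympForm_smul_right]) (D.exists_vec_meet hw0) with ⟨z, z1, hzz⟩ | ⟨r, hr⟩
    swap
    · have e0 : v = r • w := by
        by_contra hne
        obtain ⟨z, hz⟩ := D.exists_vec_meet (sub_ne_zero.2 hne)
        refine hz ?_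
        rw [sub_eq_add_neg, ← neg_smul, sympForm_add_left, sympForm_smul_left, hr]
        ring
      rw [e0, show r • w + w = (r + 1) • w by rw [add_smul, one_smul]]
      exact (hpure a).smul _
    have z0 : Cfsg.sympForm m F v (D.vec z) ≠ 0 := hzz ▸ z1
    have z2 : Cfsg.sympForm m F (v + w) (D.vec z) ≠ 0 := by
      rw [sympForm_add_left, hzz, ← two_mul]
      exact mul_ne_zero h2 z1
    have s1 := hv.add (hpure z) z0
    have s2 := s1.add (hpure a) (by
      rw [sympForm_add_left, h0, zero_add, sympForm_swap]
      exact neg_ne_zero.2 z1)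
    have s3 := s2.add ((hpure z).smul (-1)) (by
      rw [sympForm_smul_right, sympForm_add_left, sympForm_add_left, CfsgLib.MaxSub.sympForm_self, add_zero,
        ← sympForm_add_left]
      exact mul_ne_zero (neg_ne_zero.2 one_ne_zero) z2)
    convert s3 using 1
    module
  have hsmul : ∀ (c : F) a, 0 < t → ∃ a', c • D.vec a = D.vec a' := fun c a ht =>
    ⟨Function.update a ⟨0, ht⟩ (c • a ⟨0, ht⟩), by rw [hvsmul, Function.update_eq_self]⟩
  refine CfsgLib.MaxSub.spGL_le_of_spFull fun u => ?_
  set x := (↑D.P⁻¹ : Matrix 𝕀 𝕀 F) *ᵥ u with hx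
  have hu : u = ∑ j, x j • D.vec fun i => Pi.single (D.e j i) 1 := by
    have e1 : ∀ j, D.vec (fun i => Pi.single (D.e j i) 1) = (D.P : Matrix 𝕀 𝕀 F) *ᵥ Pi.single j 1 := by
      intro j
      rw [vec]
      congr 1
      funext l
      simp only [Function.comp_apply, Pi.single_apply]
      rcases eq_or_ne l j with rfl | hl
      · simp
      · rw [if_neg hl]
        obtain ⟨i, hi⟩ := Function.ne_iff.1 (D.e.injective.ne hl)
        exact Finset.prod_eq_zero (Finset.mem_univ i) (if_neg hi)
    simp only [e1, ← Matrix.mulVec_smul, ← Matrix.mulVec_sum]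
    rw [← pi_eq_sum_univ' x, hx, Matrix.mulVec_mulVec, Units.mul_inv, Matrix.one_mulVec]
  rw [hu]
  suffices key : ∀ S : Finset 𝕀, SpFull M (∑ j ∈ S, x j • D.vec fun i => Pi.single (D.e j i) 1) from key _
  intro S
  induction S using Finset.induction_on with
  | empty => rw [Finset.sum_empty]; exact CfsgLib.MaxSub.spFull_zero
  | insert j S hj ih =>
    rw [Finset.sum_insert hj, add_comm]
    rcases Nat.eq_zero_or_pos t with rfl | ht
    · have hcard : Fintype.card 𝕀 = 1 := by rw [Fintype.card_congr D.e]; simp
      simp only [Fintype.card_sum, Fintype.card_fin] at hcard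
      omega
    obtain ⟨a', ha'⟩ := hsmul (x j) (fun i => Pi.single (D.e j i) 1) ht
    rw [ha']
    exact hadd _ _ ih

end Data

variable [Fintype F]

/-- an overgroup is the stabiliser or everything, given purity of all roots when the centres are small -/
theorem Data.maximal_of_odd (D : Data F m k t) (h2 : (2 : F) ≠ 0) (hm : 0 < m) (ht : Odd t)
    (ht3 : 2 ≤ t) (hpure : ∀ M : Subgroup (GL (Fin m ⊕ Fin m) F), Grp D.sys M → Perms D.sys M → Ctr D.sys M →
      ∀ d, IsRoot D.sys M d → IsPure D.sys d) :
    IsMaximalIn (Cfsg.spGL m F) D.base := by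
  classical
  haveI : Nonempty (Fin m ⊕ Fin m) := ⟨Sum.inl ⟨0, hm⟩⟩
  have hk := D.dim_pos hm (by omega)
  haveI : NeZero k := ⟨by omega⟩
  refine ⟨lt_of_le_of_ne inf_le_right (D.base_ne h2 hm ht3), fun M hb hM => ?_⟩
  have G := D.grp_of_le hb hM
  have P := D.perms_of_le hb
  obtain ⟨e, f₀, he, hef⟩ := D.exists_pair hk
  by_cases hZ : Ctr D.sys M
  · refine Or.inl (le_antisymm (le_inf ?_ hM) hb)
    exact D.le_wreath_of_permutes (by omega) fun g hg => Grp.permutes (hpure M G P hZ) he hg
  · refine Or.inr (le_antisymm hM (D.spGL_le_odd h2 fun a ha => ?_))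
    obtain ⟨s, hs, -, hnn, hmem⟩ := exists_full G P h2 (by rwa [Fintype.card_fin]) hZ
    choose a₀ b₀ hab using fun l => hnn l (Finset.mem_univ l)
    have hne : ∀ l, a₀ l ≠ 0 := fun l h0 => by
      have h := hs l
      rw [hab l] at h
      simp only [Sl.Ok, h0, map_zero, LinearMap.zero_apply, zero_ne_one] at h
    rw [full_eq (a := a₀) fun l => ⟨b₀ l, hab l⟩] at hmem
    exact G.full_move hne ha hmem

/-- **maximality** for factors of dimension at least four, any odd field -/
theorem Data.maximal_four (D : Data F m k t) (hodd : Odd (Fintype.card F)) (hk : 3 ≤ k) (hm : 0 < m)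
    (ht : Odd t) (ht3 : 2 ≤ t) : IsMaximalIn (Cfsg.spGL m F) D.base := by
  classical
  haveI : Nonempty (Fin m ⊕ Fin m) := ⟨Sum.inl ⟨0, hm⟩⟩
  obtain ⟨p, hp⟩ := CharP.exists F
  haveI : Fact p.Prime := ⟨CharP.char_is_prime F p⟩
  have hp2 : p ≠ 2 := by
    rintro rfl
    have h := FiniteField.even_card_of_char_two (F := F) (ringChar.eq F 2)
    rw [Nat.odd_iff] at hodd
    omega
  have h2 : (2 : F) ≠ 0 := Ring.two_ne_zero (by rwa [ringChar.eq F p])
  obtain ⟨e, f₀, he, hef⟩ := D.exists_pair (D.dim_pos hm (by omega))
  refine D.maximal_of_odd h2 hm ht ht3 fun M G _ Z d hd => G.all_pure_four Z p hp2 (fun u v _ => ?_) he hd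
  let L : (Fin k → F) →ₗ[F] F × F := LinearMap.prod (D.sys.f.flip u) (D.sys.f.flip v)
  have hL : ¬ Function.Injective L := fun hi => by
    have h := LinearMap.finrank_le_finrank_of_injective hi
    simp at h
    omega
  rw [injective_iff_map_eq_zero] at hL
  simp only [not_forall] at hL
  obtain ⟨w, hw, hw0⟩ := hL
  exact ⟨w, hw0, congrArg Prod.fst hw, congrArg Prod.snd hw⟩

end CfsgLib.MaxSub.SpPow
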