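import Cfsg.Agent.Lib.MaxSub.SpPow.Rank

/-!
Tensor powers of a symplectic space with factors of dimension at least four: a member commuting with a root
element of a factor normalises the factor, a root commuting with one is pure or commutes with the factor.
-/

set_option autoImplicit false
set_option linter.unusedSectionVars false

namespace CfsgLib.MaxSub.SpPow

variable {F A R ι κ : Type*} [Field F] [AddCommGroup A] [Module F A] [Ring R] [Algebra F R] [Fintype κ]
variable {T : Sys F A R ι κ} {H : Subgroup Rˣ}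

/-- every hyperbolic pair has a vector orthogonal to it -/
def Sys.Wide (T : Sys F A R ι κ) : Prop :=
  ∀ u v, T.f u v = 1 → ∃ w, w ≠ 0 ∧ T.f w u = 0 ∧ T.f w v = 0

theorem Sys.cen_of_phi_ne {i j : ι} (h : j ≠ i) {x : R} (hx : x ∈ T.phi i) : T.Cen j x := fun u v => by
  exact (T.phi_comm_cen hx (T.cen_E h.symm u v)).symm

theorem IsPure.of_mem_phi [Nontrivial R] {i : ι} {x : R} (h : IsPure T x) (hx : x ∈ T.phi i) :
    ∃ a, a ≠ 0 ∧ ∃ c : F, c ≠ 0 ∧ x = c • T.E i a a := by
  obtain ⟨j, a, ha, c, hc, rfl⟩ := h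
  rcases eq_or_ne j i with rfl | hji
  · exact ⟨a, ha, c, hc, rfl⟩
  · have := (Sys.cen_of_phi_ne hji hx).smul c⁻¹
    rw [inv_smul_smul₀ hc] at this
    exact absurd this (Sys.not_cen_E ha)

theorem comm_inv {g : Rˣ} {x : R} (h : x * (g : R) = (g : R) * x) : x * (↑g⁻¹ : R) = (↑g⁻¹ : R) * x :=
  (Commute.units_inv_right (show Commute x (g : R) from h)).eq

variable [Fintype ι] [DecidableEq ι] [Nontrivial R] {i : ι} {e f₀ : A}

theorem Sys.sum_sq_expand (i : ι) (e v : A) (a : F) :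
    T.E i (a • e + v) (a • e + v) = (a * a) • T.E i e e + a • T.yv i e v + T.E i v v := by
  simp only [Sys.yv, map_add, map_smul, LinearMap.add_apply, LinearMap.smul_apply, smul_add, smul_smul]
  abel

/-- the members commuting with a root element act on the short root elements of its radical -/
theorem Grp.conj_yv (G : Grp T H) (Z : Ctr T H) (h2 : (2 : F) ≠ 0) (hef : T.f e f₀ = 1) {g : Rˣ} (hg : g ∈ H)
    (hgn : T.E i e e * (g : R) = (g : R) * T.E i e e) {v : A} (hve : T.f v e = 0) (hvf : T.f v f₀ = 0) :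
    ∃ v', ∃ c : F, T.f v' e = 0 ∧ T.f v' f₀ = 0 ∧
      (g : R) * T.yv i e v * (↑g⁻¹ : R) = T.yv i e v' + c • T.E i e e := by
  refine G.radical Z h2 hef (Sys.Upper.mul_right hef (comm_inv hgn)
    (Sys.Upper.mul_left hef hgn (T.upper_yv hef hve hvf))) ?_
  convert (G.yv_mem i e v hve 1).conj hg using 1
  rw [one_smul, mul_add, mul_one, add_mul, Units.mul_inv]

/-- products of short root elements -/
theorem Sys.yv_prod {a b : A} (ha : T.f a e = 0) (hb : T.f b e = 0) (c c' : F) :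
    (T.yv i e a + c • T.E i e e) * (T.yv i e b + c' • T.E i e e) = T.f b a • T.E i e e := by
  simp [add_mul, mul_add, T.yv_mul_yv ha hb, T.yv_mul_n ha, T.n_mul_yv hb, T.n_mul_self]

/-- the commutator of a root element with a short one -/
theorem Sys.E_comm_yv {u w : A} (hwe : T.f w e = 0) :
    T.E i w w * T.yv i e u - T.yv i e u * T.E i w w = T.f u w • T.yv i e w := by
  simp only [Sys.yv, mul_add, add_mul, T.mul, hwe, T.perp_left hwe, zero_smul, T.swap u w, smul_add]
  module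

/-- root elements orthogonal to `e` are moved into the factor -/
theorem Grp.conj_perp [Finite R] (G : Grp T H) (Z : Ctr T H) (h2 : (2 : F) ≠ 0) (hef : T.f e f₀ = 1) {g : Rˣ}
    (hg : g ∈ H) (hgn : T.E i e e * (g : R) = (g : R) * T.E i e e) {w : A} (hw : w ≠ 0) (hwe : T.f w e = 0)
    (hwf : T.f w f₀ = 0) :
    ∃ a, a ≠ 0 ∧ (g : R) * T.E i w w * (↑g⁻¹ : R) = T.E i a a := by
  classical
  have he : e ≠ 0 := by rintro rfl; simp at hef
  have hn0 := T.E_ne_zero (R := R) i he he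
  set S := (g : R) * T.E i w w * (↑g⁻¹ : R) with hS
  obtain ⟨w', cw, hw'e, hw'f, hgw⟩ := G.conj_yv Z h2 hef hg hgn hwe hwf
  have hgn' := comm_inv hgn
  have hgEg : (g : R) * T.E i e e * (↑g⁻¹ : R) = T.E i e e := by rw [← hgn, mul_assoc, Units.mul_inv, mul_one]
  have hEr : T.E i w w * T.pI i e f₀ = 0 := by rw [T.E_pI, T.perp_left hwe, zero_smul]
  have hEl : T.qI i e f₀ * T.E i w w = 0 := by rw [T.qI_E, hwe, zero_smul, neg_zero]
  have hSr : S * T.pI i e f₀ = 0 := by
    rw [hS, mul_assoc, Sys.mul_pI hef hgn', mul_assoc _ (↑g⁻¹ : R), ← mul_assoc, mul_assoc (g : R), hEr, mul_zero,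
      zero_mul]
  have hSl : T.qI i e f₀ * S = 0 := by
    rw [hS, ← mul_assoc, ← mul_assoc, Sys.qI_mul hef hgn, mul_assoc _ _ (T.E i w w), hEl, mul_zero, zero_mul]
  -- one preimage for every short root element
  have hpre : ∀ v, T.f v e = 0 → T.f v f₀ = 0 → ∃ u, ∃ c : F, T.f u e = 0 ∧ T.f u f₀ = 0 ∧
      (g : R) * T.yv i e u * (↑g⁻¹ : R) = T.yv i e v + c • T.E i e e := by
    intro v hve hvf
    obtain ⟨u, c, hue, huf, hu⟩ := G.conj_yv Z h2 hef (inv_mem hg) hgn' hve hvf
    refine ⟨u, -c, hue, huf, ?_⟩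
    rw [inv_inv] at hu
    have h := congrArg (fun t => (g : R) * t * (↑g⁻¹ : R)) hu
    simp only [mul_add, add_mul, mul_smul_comm, smul_mul_assoc, hgEg] at h
    rw [show (g : R) * ((↑g⁻¹ : R) * T.yv i e v * (g : R)) * (↑g⁻¹ : R) = T.yv i e v by simp [mul_assoc]] at h
    rw [h, add_assoc, ← add_smul, add_neg_cancel, zero_smul, add_zero]
  have hrel : ∀ v, T.f v e = 0 → T.f v f₀ = 0 →
      S * T.yv i e v - T.yv i e v * S = T.f v w' • (T.yv i e w' + cw • T.E i e e) := by
    intro v hve hvf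
    obtain ⟨u, c, hue, huf, hu⟩ := hpre v hve hvf
    have hf : T.f v w' = T.f u w := by
      have h := congrArg (fun t => (g : R) * t * (↑g⁻¹ : R)) (T.yv_mul_yv (i := i) hwe hue)
      simp only [mul_smul_comm, smul_mul_assoc, hgEg] at h
      rw [show (g : R) * (T.yv i e w * T.yv i e u) * (↑g⁻¹ : R) =
          ((g : R) * T.yv i e w * (↑g⁻¹ : R)) * ((g : R) * T.yv i e u * (↑g⁻¹ : R)) by simp [mul_assoc], hgw, hu,
        Sys.yv_prod hw'e hve] at h
      exact smul_left_injective F hn0 h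
    have hSn : S * T.E i e e = T.E i e e * S := by
      have h0 : T.E i w w * T.E i e e = T.E i e e * T.E i w w := by
        rw [T.mul, T.mul, T.perp_left hwe, hwe, zero_smul, zero_smul]
      calc S * T.E i e e = S * ((g : R) * T.E i e e * (↑g⁻¹ : R)) := by rw [hgEg]
        _ = (g : R) * (T.E i w w * T.E i e e) * (↑g⁻¹ : R) := by simp [hS, mul_assoc]
        _ = ((g : R) * T.E i e e * (↑g⁻¹ : R)) * S := by rw [h0]; simp [hS, mul_assoc]
        _ = T.E i e e * S := by rw [hgEg]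
    have h := congrArg (fun t => (g : R) * t * (↑g⁻¹ : R)) (T.E_comm_yv (i := i) (u := u) hwe)
    simp only [mul_smul_comm, smul_mul_assoc, hgw, mul_sub, sub_mul] at h
    rw [show (g : R) * (T.E i w w * T.yv i e u) * (↑g⁻¹ : R) = S * ((g : R) * T.yv i e u * (↑g⁻¹ : R)) by
        simp [hS, mul_assoc], show (g : R) * (T.yv i e u * T.E i w w) * (↑g⁻¹ : R) =
        ((g : R) * T.yv i e u * (↑g⁻¹ : R)) * S by simp [hS, mul_assoc], hu, mul_add, add_mul, mul_smul_comm,
      smul_mul_assoc, hSn, ← hf] at h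
    rw [← h]
    abel
  -- the middle
  set E' := T.E i w' w' with hE'
  set S₀ := S - E' with hS0
  have hE'r : E' * T.pI i e f₀ = 0 := by rw [hE', T.E_pI, T.perp_left hw'e, zero_smul]
  have hE'l : T.qI i e f₀ * E' = 0 := by rw [hE', T.qI_E, hw'e, zero_smul, neg_zero]
  have hrE' : T.rI i e f₀ * E' = E' := by rw [hE', T.rI_E, T.proj_of_perp hw'e hw'f]
  have hE'r' : E' * T.rI i e f₀ = E' := by rw [hE', T.E_rI, T.proj_of_perp hw'e hw'f]
  have hS0l : T.qI i e f₀ * S₀ = 0 := by rw [hS0, mul_sub, hSl, hE'l, sub_zero]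
  have hmid0 : T.rI i e f₀ * S₀ * T.rI i e f₀ = 0 := by
    have hE : ∀ v, T.f v e = 0 → T.f v f₀ = 0 → T.rI i e f₀ * S₀ * T.E i v e = 0 := by
      intro v hve hvf
      have h : S₀ * T.yv i e v - T.yv i e v * S₀ = (T.f v w' * cw) • T.E i e e := by
        rw [hS0, sub_mul, mul_sub, sub_sub_sub_comm, hrel v hve hvf, hE', T.E_comm_yv hw'e, smul_add, smul_smul]
        abel
      have h' := congrArg (fun t => T.rI i e f₀ * t * T.qI i e f₀) h
      simp only [mul_smul_comm, smul_mul_assoc, T.rI_mul_n hef, zero_mul, smul_zero, mul_sub, sub_mul] at h'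
      have hy1 : T.yv i e v * T.qI i e f₀ = T.E i v e := by
        rw [Sys.yv, add_mul, T.E_qI, T.E_qI, T.swap e f₀, hef, T.swap v f₀, hvf]
        simp
      have hy2 : T.rI i e f₀ * T.yv i e v = T.E i v e := by
        rw [Sys.yv, mul_add, T.rI_E, T.rI_E, T.proj_self_e hef, map_zero, LinearMap.zero_apply, zero_add,
          T.proj_of_perp hve hvf]
      have h3 : T.E i v e * S₀ * T.qI i e f₀ = 0 := by
        rw [show T.E i v e = T.E i v e * T.qI i e f₀ by
          rw [T.E_qI, T.swap e f₀, hef, neg_smul, one_smul, neg_neg], mul_assoc _ (T.qI i e f₀) S₀, hS0l,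
          mul_zero, zero_mul]
      rw [← mul_assoc _ S₀ (T.yv i e v), mul_assoc _ (T.yv i e v) (T.qI i e f₀), hy1,
        ← mul_assoc _ (T.yv i e v) S₀, hy2, h3, sub_zero] at h'
      exact h'
    have hr : T.rI i e f₀ = ∑ l, T.E i (T.proj e f₀ (T.b l)) e * T.E i (-f₀) (T.proj e f₀ (T.b' l)) := by
      calc T.rI i e f₀ = T.rI i e f₀ * (∑ l, T.E i (T.b l) (T.b' l)) * T.rI i e f₀ := by
            rw [T.one, mul_one, T.rI_mul_self hef]
        _ = _ := by
            rw [Finset.mul_sum, Finset.sum_mul]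
            refine Finset.sum_congr rfl fun l _ => ?_
            rw [T.rI_E, T.E_rI, T.mul]
            simp [T.swap e f₀, hef]
    conv_lhs => arg 2; rw [hr]
    rw [Finset.mul_sum]
    refine Finset.sum_eq_zero fun l _ => ?_
    rw [← mul_assoc, hE _ (T.proj_e hef _) (T.proj_f hef _), zero_mul]
  have hmid : T.rI i e f₀ * S * T.rI i e f₀ = E' := by
    have h := hmid0
    rw [hS0, mul_sub, sub_mul, hrE', hE'r', sub_eq_zero] at h
    exact h
  set z := S - E' - S * E' with hz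
  have hzU : T.Upper i e f₀ z := by
    refine ⟨?_, ?_, ?_⟩
    · rw [hz, sub_mul, sub_mul, hSr, hE'r, mul_assoc, hE'r]; simp
    · rw [hz, mul_sub, mul_sub, hSl, hE'l, ← mul_assoc, hSl]; simp
    · rw [hz, mul_sub, sub_mul, ← hS0, hmid0, zero_sub, neg_eq_zero, ← mul_assoc, mul_assoc _ E',
        hE'r', ← hrE', ← mul_assoc, hmid, hE', T.n_mul_self]
  have hzH : InH H (1 + z) := by
    obtain ⟨a, ha, haw⟩ := G.root i w 1
    obtain ⟨b, hb, hbw⟩ := G.root i w' (-1)
    refine ⟨g * a * g⁻¹ * b, mul_mem (mul_mem (mul_mem hg ha) (inv_mem hg)) hb, ?_⟩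
    rw [Units.val_mul, Units.val_mul, Units.val_mul, haw, hbw, hz, one_smul, neg_smul, one_smul,
      show (g : R) * (1 + T.E i w w) * (↑g⁻¹ : R) = 1 + S by rw [mul_add, mul_one, add_mul, Units.mul_inv],
      add_mul, one_mul, mul_add, mul_one, mul_neg, ← hE']
    abel
  obtain ⟨vz, cz, -, -, hzphi⟩ := G.radical Z h2 hef hzU hzH
  have hzm : z ∈ T.phi i := by
    rw [hzphi]
    exact add_mem (add_mem (T.E_mem_phi i _ _) (T.E_mem_phi i _ _)) ((T.phi i).smul_mem _ (T.E_mem_phi i e e))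
  have hSm : S ∈ T.phi i := by
    have e1 : S = z + E' + z * E' := by
      rw [hz, sub_mul, sub_mul, mul_assoc S E', hE', T.n_mul_self, mul_zero]
      abel
    rw [e1]
    exact add_mem (add_mem hzm (T.E_mem_phi i _ _)) (T.mul_mem_phi hzm (T.E_mem_phi i _ _))
  have hroot : IsRoot T H S := (IsPure.isRoot ⟨i, w, hw, 1, one_ne_zero, (one_smul _ _).symm⟩).conj hg
  obtain ⟨a, ha, c, hc, hSa⟩ := (G.pure_of_phi h2 hroot hSm).of_mem_phi hSm
  -- the coefficient is a square
  obtain ⟨p, hp⟩ := T.exists_partner hw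
  have hpe := T.proj_e hef p
  have hpf := T.proj_f hef p
  have hwp : T.f w (T.proj e f₀ p) = 1 := by
    rw [T.proj_apply]; simp [hwe, hwf, hp]
  obtain ⟨p', cp, hp'e, hp'f, hgp⟩ := G.conj_yv Z h2 hef hg hgn hpe hpf
  have hwp' : T.f w' p' = 1 := by
    have h := congrArg (fun t => (g : R) * t * (↑g⁻¹ : R)) (T.yv_mul_yv (i := i) hpe hwe)
    simp only [mul_smul_comm, smul_mul_assoc, hgEg] at h
    rw [show (g : R) * (T.yv i e (T.proj e f₀ p) * T.yv i e w) * (↑g⁻¹ : R) =
        ((g : R) * T.yv i e (T.proj e f₀ p) * (↑g⁻¹ : R)) * ((g : R) * T.yv i e w * (↑g⁻¹ : R)) by simp [mul_assoc],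
      hgp, hgw, Sys.yv_prod hp'e hw'e, hwp] at h
    exact smul_left_injective F hn0 h
  obtain ⟨μ, hμ⟩ : ∃ μ : F, c = μ * μ := by
    have h := hmid
    rw [hSa, mul_smul_comm, smul_mul_assoc, T.rI_E, T.E_rI, hE'] at h
    have h' := congrArg (T.blk i p' p') h
    rw [T.blk_smul, ← mul_one (T.E i (T.proj e f₀ a) (T.proj e f₀ a)), ← mul_one (T.E i w' w'),
      T.blk_E_mul (T.cen_one i), T.blk_E_mul (T.cen_one i), smul_smul] at h'
    have h'' := smul_left_injective F (one_ne_zero (α := R)) h'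
    simp only [T.swap _ p', T.swap w' p'] at h''
    rw [hwp'] at h''
    refine ⟨(T.f (T.proj e f₀ a) p')⁻¹, ?_⟩
    have h0 : T.f (T.proj e f₀ a) p' ≠ 0 := fun h0 => by rw [h0] at h''; simp at h''
    field_simp
    linear_combination -h''
  refine ⟨μ • a, smul_ne_zero (fun h0 => hc (by rw [hμ, h0, zero_mul])) ha, ?_⟩
  simp only [hSa, map_smul, LinearMap.smul_apply, smul_smul, hμ]

/-- a member commuting with a root element of a factor normalises it -/
theorem Grp.conj_phi [Finite R] (G : Grp T H) (Z : Ctr T H) (h2 : (2 : F) ≠ 0) (hw4 : T.Wide) (he : e ≠ 0)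
    {g : Rˣ} (hg : g ∈ H) (hgn : T.E i e e * (g : R) = (g : R) * T.E i e e) (u : A) :
    (g : R) * T.E i u u * (↑g⁻¹ : R) ∈ T.phi i := by
  obtain ⟨f₀, hef⟩ := T.exists_partner he
  obtain ⟨w, hw, hwe, hwf, hwu⟩ : ∃ w, w ≠ 0 ∧ T.f w e = 0 ∧ T.f w f₀ = 0 ∧ T.f w u = 0 := by
    rcases eq_or_ne (T.proj e f₀ u) 0 with h0 | h0
    · obtain ⟨w, hw, hwe, hwf⟩ := hw4 e f₀ hef
      refine ⟨w, hw, hwe, hwf, ?_⟩
      rw [T.proj_apply, sub_add, sub_eq_zero] at h0
      rw [h0]
      simp [hwe, hwf]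
    · refine ⟨T.proj e f₀ u, h0, T.proj_e hef u, T.proj_f hef u, ?_⟩
      have h := T.alt (T.proj e f₀ u)
      conv_lhs at h => arg 2; rw [T.proj_apply]
      simpa [T.proj_e hef, T.proj_f hef] using h
  obtain ⟨a, ha, hga⟩ := G.conj_perp Z h2 hef hg hgn hw hwe hwf
  obtain ⟨k, hk, hka, -, hkphi⟩ := G.exists_move i ha hw
  have hkg : T.E i w w * ((k * g : Rˣ) : R) = ((k * g : Rˣ) : R) * T.E i w w := by
    rw [Units.val_mul]
    calc T.E i w w * ((k : R) * (g : R))
        = (k : R) * ((g : R) * T.E i w w * (↑g⁻¹ : R)) * (↑k⁻¹ : R) * ((k : R) * (g : R)) := by rw [hga, hka]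
      _ = (k : R) * (g : R) * T.E i w w := by simp [mul_assoc]
  obtain ⟨f₁, hwf₁⟩ := T.exists_partner hw
  have hgoal : ((k * g : Rˣ) : R) * T.E i u u * (↑(k * g)⁻¹ : R) ∈ T.phi i := by
    set u₀ := T.proj w f₁ u with hu₀
    have hu : u = T.f u f₁ • w + u₀ := by
      rw [hu₀, T.proj_apply, T.swap w u, hwu]
      simp
    rw [hu, T.sum_sq_expand, mul_add, mul_add, add_mul, add_mul, mul_smul_comm, smul_mul_assoc, mul_smul_comm,
      smul_mul_assoc]
    refine add_mem (add_mem ((T.phi i).smul_mem _ ?_) ((T.phi i).smul_mem _ ?_)) ?_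
    · rw [← hkg, mul_assoc, Units.mul_inv, mul_one]
      exact T.E_mem_phi i w w
    · obtain ⟨v', c', -, -, h⟩ := G.conj_yv Z h2 hwf₁ (mul_mem hk hg) hkg (T.proj_e hwf₁ u) (T.proj_f hwf₁ u)
      rw [h]
      exact add_mem (add_mem (T.E_mem_phi i _ _) (T.E_mem_phi i _ _)) ((T.phi i).smul_mem _ (T.E_mem_phi i w w))
    · rcases eq_or_ne u₀ 0 with h0 | h0
      · rw [h0]; simp
      · obtain ⟨b, -, hb⟩ := G.conj_perp Z h2 hwf₁ (mul_mem hk hg) hkg h0 (T.proj_e hwf₁ u) (T.proj_f hwf₁ u)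
        rw [hb]
        exact T.E_mem_phi i b b
  have := hkphi _ hgoal
  convert this using 1
  simp [mul_assoc]

/-- a root whose root elements conjugate a factor into itself is pure or commutes with it -/
theorem Grp.pure_or_cen_of_conj [Finite R] (G : Grp T H) (h2 : (2 : F) ≠ 0) {d : R} (hd : IsRoot T H d)
    (hef : T.f e f₀ = 1) (hp : ∀ u, (1 + d) * T.E i u u * (1 - d) ∈ T.phi i)
    (hm : ∀ u, (1 - d) * T.E i u u * (1 + d) ∈ T.phi i) : IsPure T d ∨ T.Cen i d := by
  have hy : ∀ u, d * T.E i u u - T.E i u u * d ∈ T.phi i := by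
    intro u
    rw [← inv_smul_smul₀ h2 (d * T.E i u u - T.E i u u * d)]
    refine (T.phi i).smul_mem _ ?_
    convert sub_mem (hp u) (hm u) using 1
    simp only [add_mul, sub_mul, mul_add, mul_sub, one_mul, mul_one, two_smul]
    abel
  have hne : ∀ p q, T.f q p ≠ 0 → d * T.E i p q - T.E i p q * d ∈ T.phi i := by
    intro p q hpq
    rw [← inv_smul_smul₀ hpq (d * T.E i p q - T.E i p q * d)]
    refine (T.phi i).smul_mem _ ?_
    convert add_mem (T.mul_mem_phi (hy p) (T.E_mem_phi i q q)) (T.mul_mem_phi (T.E_mem_phi i p p) (hy q)) using 1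
    rw [smul_sub, ← mul_smul_comm, ← smul_mul_assoc, ← T.mul i p p q q]
    simp only [sub_mul, mul_sub, mul_assoc]
    abel
  have hall : ∀ p q, d * T.E i p q - T.E i p q * d ∈ T.phi i := by
    intro p q
    rcases eq_or_ne p 0 with rfl | hp0
    · simp
    by_cases hpq : T.f q p = 0
    · obtain ⟨z, hz⟩ := T.exists_partner hp0
      have hzp : T.f z p ≠ 0 := by rw [T.swap p z, hz]; simp
      have hqz : T.f (q + z) p ≠ 0 := by rwa [map_add, LinearMap.add_apply, hpq, zero_add]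
      convert sub_mem (hne p _ hqz) (hne p z hzp) using 1
      simp only [map_add, mul_add, add_mul]
      abel
    · exact hne p q hpq
  rcases T.phi_or_cen hef h2 hd.sq (T.sub_mem_phi_of_deriv hef hall) with h | h
  · exact Or.inl (G.pure_of_phi h2 hd h)
  · exact Or.inr h

/-- **a root commuting with a root element of the factor `i` is pure or commutes with the factor** -/
theorem Grp.pure_or_cen_four [Finite R] (G : Grp T H) (Z : Ctr T H) (h2 : (2 : F) ≠ 0) (hw4 : T.Wide)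
    (he : e ≠ 0) {d : R} (hd : IsRoot T H d) (hNd : T.E i e e * d = d * T.E i e e) :
    IsPure T d ∨ T.Cen i d := by
  obtain ⟨f₀, hef⟩ := T.exists_partner he
  obtain ⟨g, hg, hgd⟩ := hd.mem G 1
  rw [one_smul] at hgd
  have hgi := inv_one_add hd.sq hgd
  have hgn : T.E i e e * (g : R) = (g : R) * T.E i e e := by rw [hgd, mul_add, add_mul, mul_one, one_mul, hNd]
  refine G.pure_or_cen_of_conj h2 hd hef (fun u => ?_) fun u => ?_
  · have := G.conj_phi Z h2 hw4 he hg hgn u
    rwa [hgd, hgi] at this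
  · have := G.conj_phi Z h2 hw4 he (inv_mem hg) (comm_inv hgn) u
    rwa [inv_inv, hgd, hgi] at this

end CfsgLib.MaxSub.SpPow
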