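import Cfsg.Agent.Lib.MaxSub.SpPow.Tens

/-!
Tensor powers of a symplectic space: if the centre of a root parabolic meets the group in more than the root
group, it contains a monomial in the slots of several factors.
-/

set_option autoImplicit false
set_option linter.unusedSectionVars false

namespace CfsgLib.MaxSub.SpPow

variable {F A R ι κ : Type*} [Field F] [AddCommGroup A] [Module F A] [Ring R] [Algebra F R] [Fintype κ]
  [Fintype ι] [DecidableEq ι]
variable {T : Sys F A R ι κ} {H : Subgroup Rˣ}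

/-- all scalar multiples of `x` give members of `H` -/
def InL (F : Type*) {R : Type*} [Field F] [Ring R] [Algebra F R] (H : Subgroup Rˣ) (x : R) : Prop :=
  ∀ c : F, InH H (1 + c • x)

theorem InL.smul {x : R} (h : InL F H x) (c : F) : InL F H (c • x) := fun a => by rw [smul_smul]; exact h _

theorem InL.conj {x : R} (h : InL F H x) {g : Rˣ} (hg : g ∈ H) : InL F H ((g : R) * x * (↑g⁻¹ : R)) := fun c => by
  convert (h c).conj hg using 1
  rw [mul_add, mul_one, add_mul, Units.mul_inv, mul_smul_comm, smul_mul_assoc]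

theorem InL.add {x y : R} (hxy : x * y = 0) (hx : InL F H x) (hy : InL F H y) : InL F H (x + y) := fun c => by
  convert (hx c).mul (hy c) using 1
  simp only [mul_add, add_mul, mul_one, one_mul, smul_mul_smul, hxy, smul_zero, smul_add]
  abel

/-- the commutator of two root groups -/
theorem InL.comm {x y : R} (hx2 : x * x = 0) (hy2 : y * y = 0) (h1 : x * y * x = 0) (h2 : y * x * y = 0)
    (hx : InL F H x) (hy : InL F H y) : InL F H (x * y - y * x) := fun c => by
  have h := (((hx c).mul (hy 1)).mul (hx (-c))).mul (hy (-1))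
  have key : ∀ a b : R, a * a = 0 → b * b = 0 → a * b * a = 0 → b * a * b = 0 →
      (1 + a) * (1 + b) * (1 - a) * (1 - b) = 1 + (a * b - b * a) := by
    intro a b ha hb hab hba
    have e1 : (1 + a) * (1 + b) * (1 - a) = 1 + b + a * b - b * a := by
      simp only [add_mul, mul_add, mul_sub, one_mul, mul_one, ha, hab]
      abel
    rw [e1]
    simp only [add_mul, sub_mul, mul_sub, one_mul, mul_one, hb, hba, mul_assoc a b b, mul_zero]
    abel
  have e := key (c • x) y (by rw [smul_mul_smul, hx2, smul_zero]) hy2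
    (by simp only [smul_mul_assoc, mul_smul_comm, h1, smul_zero]) (by simp only [smul_mul_assoc, mul_smul_comm, h2, smul_zero])
  rw [one_smul, neg_smul, ← sub_eq_add_neg, neg_one_smul, ← sub_eq_add_neg, e] at h
  rwa [smul_sub, ← smul_mul_assoc, ← mul_smul_comm c y x]

/-- the centre of the root parabolic of `e` in the factor `i`, inside `H` -/
def Zs (T : Sys F A R ι κ) (H : Subgroup Rˣ) (i : ι) (e : A) : Submodule F R where
  carrier := {w | T.Cen i w ∧ InL F H (T.E i e e * w)}
  add_mem' {w w'} hw hw' := ⟨hw.1.add hw'.1, by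
    rw [mul_add]
    refine hw.2.add ?_ hw'.2
    rw [mul_assoc, ← mul_assoc w, hw.1, mul_assoc, ← mul_assoc, T.n_mul_self, zero_mul]⟩
  zero_mem' := ⟨T.cen_zero i, fun c => by simpa using (InH.one : InH H (1 : R))⟩
  smul_mem' c w hw := ⟨hw.1.smul c, by rw [mul_smul_comm]; exact hw.2.smul c⟩

theorem mem_Zs {i : ι} {e : A} {w : R} : w ∈ Zs T H i e ↔ T.Cen i w ∧ InL F H (T.E i e e * w) := Iff.rfl

variable {i : ι}

theorem Zs.conj {e : A} {w : R} (hw : w ∈ Zs T H i e) {g : Rˣ} (hg : g ∈ H) (hgi : T.Cen i (g : R)) :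
    (g : R) * w * (↑g⁻¹ : R) ∈ Zs T H i e := by
  have hgi' : T.Cen i (↑g⁻¹ : R) := fun u v =>
    (Commute.units_inv_left (hgi u v : Commute (g : R) (T.E i u v))).eq
  refine ⟨(hgi.mul hw.1).mul hgi', ?_⟩
  rw [← mul_assoc, ← mul_assoc, ← hgi, mul_assoc (g : R)]
  exact hw.2.conj hg

theorem Zs.root_mem (G : Grp T H) (h2 : (2 : F) ≠ 0) {e : A} {l : ι} (hl : l ≠ i) (a : A) {w : R}
    (hw : w ∈ Zs T H i e) :
    T.E l a a * w * T.E l a a ∈ Zs T H i e ∧ T.E l a a * w - w * T.E l a a ∈ Zs T H i e := by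
  set N := T.E l a a
  have key : ∀ c : F, (1 + c • N) * w * (1 - c • N) ∈ Zs T H i e := fun c => by
    obtain ⟨g, hg, hgc⟩ := G.root l a c
    have hh : (c • N) * (c • N) = 0 := by rw [smul_mul_smul, T.n_mul_self, smul_zero]
    have := Zs.conj hw hg (by rw [hgc]; exact (T.cen_one i).add ((T.cen_E hl.symm a a).smul c))
    rwa [inv_one_add hh hgc, hgc] at this
  have ha := key 1
  have hb := key (-1)
  have h1 : N * w * N ∈ Zs T H i e := by
    rw [← inv_smul_smul₀ h2 (N * w * N)]
    refine Submodule.smul_mem _ _ ?_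
    convert sub_mem (add_mem hw hw) (add_mem ha hb) using 1
    simp only [one_smul, neg_smul, two_smul, add_mul, mul_add, sub_mul, mul_sub, one_mul, mul_one, neg_mul,
      mul_neg, mul_assoc, sub_neg_eq_add]
    abel
  refine ⟨h1, ?_⟩
  convert add_mem (sub_mem ha hw) h1 using 1
  simp only [one_smul, add_mul, mul_sub, one_mul, mul_one, mul_assoc]
  abel

/-- the centre does not depend on the vector -/
theorem Zs.move (G : Grp T H) {e b : A} (he : e ≠ 0) (hb : b ≠ 0) {w : R} (hw : w ∈ Zs T H i e) :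
    w ∈ Zs T H i b := by
  have step : ∀ {e b : A}, T.f e b ≠ 0 → w ∈ Zs T H i e → w ∈ Zs T H i b := by
    intro e b h hw
    obtain ⟨g, hg, hgv⟩ := G.root i (b - e) (T.f e b)⁻¹
    refine ⟨hw.1, ?_⟩
    have h2 := hw.2.conj hg
    set z := (T.f e b)⁻¹ • T.E i (b - e) (b - e) with hz
    have hzz : z * z = 0 := by rw [hz, smul_mul_smul, T.n_mul_self, smul_zero]
    have hiv := inv_one_add hzz hgv
    rw [hgv, hiv] at h2
    have hzw : z * w = w * z := by rw [hz, smul_mul_assoc, mul_smul_comm, hw.1]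
    have e1 : (1 + z) * T.E i e e * (1 - z) = T.E i b b := by
      have hb' : b = e + ((T.f e b)⁻¹ * T.f e (b - e)) • (b - e) := by
        rw [map_sub, T.alt, sub_zero, inv_mul_cancel₀ h, one_smul, add_sub_cancel]
      conv_rhs => rw [hb']
      rw [hz]
      simp only [add_mul, mul_sub, one_mul, mul_one, smul_mul_assoc, mul_smul_comm, T.mul, map_add,
        map_smul, LinearMap.add_apply, LinearMap.smul_apply, smul_smul, smul_add, T.swap e (b - e)]
      module
    convert h2 using 1
    rw [← e1]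
    simp only [mul_assoc]
    rw [show w * (1 - z) = (1 - z) * w by rw [mul_sub, sub_mul, mul_one, one_mul, hzw]]
  obtain ⟨z, hz1, hz2⟩ : ∃ z, T.f e z ≠ 0 ∧ T.f z b ≠ 0 := by
    obtain ⟨z, hz⟩ := T.exists_partner he
    obtain ⟨z', hz'⟩ := T.exists_partner hb
    by_cases h : T.f z b = 0
    · by_cases h' : T.f e z' = 0
      · refine ⟨z + z', by rw [map_add, hz, h', add_zero]; exact one_ne_zero, ?_⟩
        rw [map_add, LinearMap.add_apply, h, zero_add, T.swap b z', hz']
        exact neg_ne_zero.2 one_ne_zero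
      · exact ⟨z', h', by rw [T.swap b z', hz']; exact neg_ne_zero.2 one_ne_zero⟩
    · exact ⟨z, by rw [hz]; exact one_ne_zero, h⟩
  exact step hz2 (step hz1 hw)

/-- one member of the centre gives all its multiples -/
theorem scal_mem (G : Grp T H) (h2 : (2 : F) ≠ 0) {e : A} (he : e ≠ 0) {y : R} (hy : T.Cen i y)
    (h : InH H (1 + T.E i e e * y)) : InL F H (T.E i e e * y) := by
  obtain ⟨f₀, hef⟩ := T.exists_partner he
  set x := T.E i e e * y with hx
  have hxx : x * x = 0 := by
    rw [hx, mul_assoc, ← mul_assoc y, hy, mul_assoc, ← mul_assoc, T.n_mul_self, zero_mul]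
  have hsq : ∀ a : F, a ≠ 0 → InH H (1 + (a * a) • x) := by
    intro a ha
    have hm := ((G.tau_mem (i := i) hef ha).mul h).mul (G.tau_mem (i := i) hef (inv_ne_zero ha))
    convert hm using 1
    have h1 : T.tau i e f₀ a * T.E i e e = a • T.E i e e := by
      simp only [Sys.tau, add_mul, smul_mul_assoc, T.rI_E, T.pI_E, T.qI_E, T.proj_self_e hef, hef, T.alt, zero_smul,
        one_smul, neg_zero, smul_zero, map_zero, LinearMap.zero_apply, zero_add, add_zero]
    have h2' : y * T.tau i e f₀ a⁻¹ = T.tau i e f₀ a⁻¹ * y :=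
      (T.commute_phi (add_mem (add_mem (T.rI_mem_phi i e f₀) ((T.phi i).smul_mem _ (T.pI_mem_phi i e f₀)))
        ((T.phi i).smul_mem _ (T.qI_mem_phi i e f₀))) hy).symm
    have h3 : T.E i e e * T.tau i e f₀ a⁻¹ = a • T.E i e e := by
      simp only [Sys.tau, mul_add, mul_smul_comm, T.E_rI, T.E_pI, T.E_qI, T.proj_self_e hef, T.alt, zero_smul,
        T.swap e f₀, hef, neg_smul, one_smul, neg_neg, smul_zero, map_zero, inv_inv, zero_add]
    rw [mul_add, mul_one, add_mul, T.tau_mul hef ha, hx]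
    congr 1
    rw [← mul_assoc (T.tau i e f₀ a), h1, smul_mul_assoc, smul_mul_assoc, mul_assoc, h2', ← mul_assoc, h3,
      smul_mul_assoc, smul_smul]
  have hsq' : ∀ a : F, InH H (1 + (a * a) • x) ∧ InH H (1 - (a * a) • x) := by
    intro a
    rcases eq_or_ne a 0 with rfl | ha
    · simp [InH.one]
    · exact ⟨hsq a ha, InH.inv (by rw [smul_mul_smul, hxx, smul_zero]) (hsq a ha)⟩
  intro c
  convert (hsq' ((c + 1) / 2)).1.mul (hsq' ((c - 1) / 2)).2 using 1
  simp only [mul_sub, mul_one, add_mul, one_mul, smul_mul_smul, hxx, smul_zero]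
  rw [show c = (c + 1) / 2 * ((c + 1) / 2) - (c - 1) / 2 * ((c - 1) / 2) by
    have h4 : (4 : F) ≠ 0 := by
      rw [show (4 : F) = 2 * 2 by norm_num]; exact mul_ne_zero h2 h2
    field_simp; ring]
  rw [sub_smul]
  simp only [add_zero]
  have e1 : ∀ c : F, ((c + 1) / 2 * ((c + 1) / 2) - (c - 1) / 2 * ((c - 1) / 2)) = c := fun c => by
    field_simp; ring
  simp only [e1]
  abel

namespace Sys

variable (T)

/-- antisymmetric blocks vanishing on orthogonal pairs: the operator commutes with the factor -/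
theorem cen_of_blk_orth {l : ι} {x : R} (hdiag : ∀ a, T.blk l a a x = 0)
    (h : ∀ a v, T.f a v = 0 → T.blk l a v x = 0) : T.Cen l x := by
  by_cases hA : ∀ a : A, a = 0
  · intro u v; rw [hA u]; simp
  simp only [not_forall] at hA
  obtain ⟨e, he⟩ := hA
  obtain ⟨f₀, hef⟩ := T.exists_partner he
  set C := T.blk l f₀ e x with hC
  have hCc : T.Cen l C := T.cen_blk _ _ _ _
  suffices hx : x = C by rw [hx]; exact hCc
  refine sub_eq_zero.1 (T.eq_zero_of_blk l ?_)
  set D := fun u v => T.blk l u v (x - C)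
  have hD0 : ∀ u v, T.f u v = 0 → D u v = 0 := fun u v huv => by
    show T.blk l u v (x - C) = 0
    rw [T.blk_sub, h u v huv, T.blk_cen hCc, T.swap, huv, neg_zero, zero_smul, sub_zero]
  have hfe : D f₀ e = 0 := by
    show T.blk l f₀ e (x - C) = 0
    rw [T.blk_sub, T.blk_cen hCc, hef, one_smul, sub_self]
  have haddl : ∀ u u' v, D (u + u') v = D u v + D u' v := fun u u' v => by
    simp [D, Sys.blk, map_add, mul_add, add_mul, Finset.sum_add_distrib]
  have haddr : ∀ u v v', D u (v + v') = D u v + D u v' := fun u v v' => by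
    simp [D, Sys.blk, map_add, mul_add, Finset.sum_add_distrib, add_mul]
  have hsl : ∀ (c : F) u v, D (c • u) v = c • D u v := fun c u v => by
    simp [D, Sys.blk, map_smul, Finset.smul_sum]
  have hsr : ∀ (c : F) u v, D u (c • v) = c • D u v := fun c u v => by
    simp [D, Sys.blk, map_smul, Finset.smul_sum]
  have hef' : D e f₀ = 0 := by
    have h2 := hD0 (e + f₀) (e + f₀) (T.alt _)
    rw [haddl, haddr, haddr, hD0 e e (T.alt _), hD0 f₀ f₀ (T.alt _), hfe] at h2
    simpa using h2
  intro u v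
  show D u v = 0
  set r := T.proj e f₀ u with hr
  set r' := T.proj e f₀ v with hr'
  have hre : T.f r e = 0 := T.proj_e hef u
  have hrf : T.f r f₀ = 0 := T.proj_f hef u
  have hre' : T.f r' e = 0 := T.proj_e hef v
  have hrf' : T.f r' f₀ = 0 := T.proj_f hef v
  have hrr : D r r' = 0 := by
    have h2 := hD0 (r + e) (r' + (-T.f r r') • f₀) (by
      simp only [map_add, map_smul, LinearMap.add_apply, smul_eq_mul, hrf, T.perp_left hre', hef]
      ring)
    rw [haddl, haddr, haddr, hsr, hsr, hD0 r f₀ hrf, hD0 e r' (T.perp_left hre'), hef'] at h2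
    simpa using h2
  have hu : u = r + (T.f u f₀ • e + (-T.f u e) • f₀) := by rw [hr, T.proj_apply]; module
  have hv : v = r' + (T.f v f₀ • e + (-T.f v e) • f₀) := by rw [hr', T.proj_apply]; module
  rw [hu, hv]
  simp only [haddl, haddr, hsl, hsr, hrr, hD0 r e hre, hD0 r f₀ hrf, hD0 e r' (T.perp_left hre'),
    hD0 f₀ r' (T.perp_left hrf'), hD0 e e (T.alt _), hD0 f₀ f₀ (T.alt _), hfe, hef', smul_zero, add_zero]

end Sys

/-- the product of the operators of the slots -/
def pv (T : Sys F A R ι κ) (s : ι → Sl A) : (l : ι) → T.phiA l := fun l => T.op l (s l)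

theorem pv_update (s : ι → Sl A) (l : ι) (x : Sl A) :
    pv T (Function.update s l x) = Function.update (pv T s) l (T.op l x) := by
  funext m
  rcases eq_or_ne m l with rfl | h <;> simp [pv, *]

theorem pv_one {s : ι → Sl A} {l : ι} (h : s l = .one) : pv T s l = 1 := by simp [pv, h, Sys.op]

/-- one step of the descent -/
theorem descend_step (G : Grp T H) (h2 : (2 : F) ≠ 0) {e : A} {J : Finset ι} {l : ι} (hl : l ∈ J) (hli : l ≠ i)
    {s : ι → Sl A} (hs : s l = .one) {w : R} (hw : T.CenOut J w) (hwl : ¬ T.Cen l w)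
    (hmem : T.tens (pv T s) * w ∈ Zs T H i e) :
    ∃ x : Sl A, x ≠ .one ∧ Sl.Ok T x ∧ ∃ w', w' ≠ 0 ∧ T.CenOut (J.erase l) w' ∧
      T.tens (pv T (Function.update s l x)) * w' ∈ Zs T H i e := by
  set P := T.tens (pv T s) with hP
  have hPl : T.Cen l P := Sys.cen_tens (pv_one hs)
  have hupd : ∀ x : Sl A, T.tens (pv T (Function.update s l x)) = (T.op l x : R) * P := fun x => by
    rw [pv_update, Sys.tens_update, ← pv_one (T := T) hs, Function.update_eq_self]
  have hsand : ∀ a b : A, T.E l a a * (P * w) * T.E l b b = T.E l a b * P * T.blk l a b w := by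
    intro a b
    calc T.E l a a * (P * w) * T.E l b b = P * (T.E l a a * w * T.E l b b) := by
          rw [← mul_assoc, ← hPl, mul_assoc, mul_assoc]; simp [mul_assoc]
      _ = P * (T.E l a b * T.blk l a b w) := by rw [T.E_blk]
      _ = _ := by rw [← mul_assoc, hPl]
  by_cases hA : ∃ a, T.blk l a a w ≠ 0
  · obtain ⟨a, ha⟩ := hA
    have ha0 : a ≠ 0 := fun h => ha (by simp [h, Sys.blk])
    obtain ⟨b, hab⟩ := T.exists_partner ha0
    refine ⟨.nn a b, by simp, hab, T.blk l a a w, ha, T.cenOut_blk a a hw, ?_⟩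
    rw [hupd]
    show T.E l a a * P * _ ∈ _
    rw [← hsand]
    exact (Zs.root_mem G h2 hli a hmem).1
  simp only [not_exists, not_not] at hA
  obtain ⟨a, v, hav, hne⟩ : ∃ a v, T.f a v = 0 ∧ T.blk l a v w ≠ 0 := by
    by_contra h
    simp only [not_exists, not_and, not_not] at h
    exact hwl (T.cen_of_blk_orth hA h)
  have ha0 : a ≠ 0 := fun h => hne (by simp [h, Sys.blk])
  obtain ⟨b, hab⟩ := T.exists_partner ha0
  set v' := v + (-T.f v b) • a with hv'
  have hne' : T.blk l a v' w ≠ 0 := by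
    have : T.blk l a v' w = T.blk l a v w + (-T.f v b) • T.blk l a a w := by
      simp [hv', Sys.blk, map_add, map_smul, mul_add, add_mul, Finset.sum_add_distrib, Finset.smul_sum,
        Finset.sum_neg_distrib]
    rwa [this, hA, smul_zero, add_zero]
  have hav' : T.f a v' = 0 := by rw [hv', map_add, hav, map_smul, T.alt, smul_zero, add_zero]
  have hvb : T.f v' b = 0 := by simp [hv', hab]
  have hv0 : v' ≠ 0 := fun h => hne' (by simp [h, Sys.blk])
  obtain ⟨u₀, hu₀⟩ := T.exists_partner hv0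
  set u := T.proj a b u₀ with hu
  have hvu : T.f v' u = 1 := by
    rw [hu, T.proj_apply]
    simp [hu₀, T.swap a v', hav', hvb]
  have hau : T.f a u = 0 := T.perp_left (T.proj_e hab u₀)
  have hbu : T.f b u = 0 := T.perp_left (T.proj_f hab u₀)
  refine ⟨.xx a v' b u, by simp, ⟨hab, hvu, hav', hau, hvb, hbu⟩, T.blk l a v' w, hne', T.cenOut_blk a v' hw, ?_⟩
  rw [hupd]
  show T.xop l a v' * P * _ ∈ _
  have h1 := (Zs.root_mem G h2 hli v' (Zs.root_mem G h2 hli a hmem).2).2
  have hanti : T.blk l v' a w = -T.blk l a v' w := by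
    have h3 := hA (a + v')
    have e1 : T.blk l (a + v') (a + v') w = T.blk l a a w + T.blk l v' v' w + (T.blk l a v' w + T.blk l v' a w) := by
      simp only [Sys.blk, map_add, LinearMap.add_apply, mul_add, add_mul, Finset.sum_add_distrib]
      abel
    rw [e1, hA, hA, zero_add, zero_add] at h3
    exact eq_neg_of_add_eq_zero_right h3
  have e2 : T.xop l a v' * P * T.blk l a v' w = -(T.E l v' v' * (T.E l a a * (P * w) - P * w * T.E l a a) -
      (T.E l a a * (P * w) - P * w * T.E l a a) * T.E l v' v') := by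
    have z1 : T.E l v' v' * T.E l a a = 0 := by rw [T.mul, hav', zero_smul]
    have z2 : T.E l a a * T.E l v' v' = 0 := by rw [T.mul, T.swap a v', hav', neg_zero, zero_smul]
    simp only [mul_sub, sub_mul, ← mul_assoc, z1, zero_mul]
    rw [mul_assoc (P * w) (T.E l a a), z2, mul_zero, mul_assoc (T.E l v' v') P w, mul_assoc (T.E l a a) P w,
      hsand, hsand, hanti, Sys.xop, sub_mul, sub_mul]
    simp only [mul_neg, sub_zero, zero_sub]
    abel
  rw [e2]
  exact neg_mem h1

/-- **descent**: a monomial in the centre -/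
theorem descend (G : Grp T H) (h2 : (2 : F) ≠ 0) {e : A} {w : R} (hw : w ∈ Zs T H i e)
    (hns : ¬ ∃ c : F, w = c • 1) :
    ∃ s : ι → Sl A, (∀ l, Sl.Ok T (s l)) ∧ s i = .one ∧ (∃ l, s l ≠ .one) ∧
      T.tens (pv T s) ∈ Zs T H i e := by
  obtain ⟨l₀, hl₀⟩ : ∃ l, ¬ T.Cen l w := by
    by_contra h
    simp only [not_exists, not_not] at h
    exact hns (T.scal w fun l => h l)
  have hli : l₀ ≠ i := fun h => hl₀ (h ▸ hw.1)
  have key : ∀ J : Finset ι, ∀ (s : ι → Sl A) (w : R), i ∉ J → (∀ l ∈ J, s l = .one) → (∀ l, Sl.Ok T (s l)) →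
      s i = .one → (∃ l, s l ≠ .one) → w ≠ 0 → T.CenOut J w → T.tens (pv T s) * w ∈ Zs T H i e →
      ∃ s' : ι → Sl A, (∀ l, Sl.Ok T (s' l)) ∧ s' i = .one ∧ (∃ l, s' l ≠ .one) ∧
        T.tens (pv T s') ∈ Zs T H i e := by
    intro J
    induction J using Finset.strongInduction with
    | H J ih =>
      intro s w hiJ hJs hok hsi hne hw0 hwJ hmem
      rcases J.eq_empty_or_nonempty with rfl | ⟨l, hl⟩
      · obtain ⟨c, rfl⟩ := T.cenOut_empty hwJ
        have hc : c ≠ 0 := fun h => hw0 (by rw [h, zero_smul])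
        refine ⟨s, hok, hsi, hne, ?_⟩
        have := Submodule.smul_mem _ c⁻¹ hmem
        rwa [mul_smul_comm, mul_one, inv_smul_smul₀ hc] at this
      by_cases hwl : T.Cen l w
      · refine ih _ (Finset.erase_ssubset hl) s w (fun h => hiJ (Finset.mem_of_mem_erase h))
          (fun m hm => hJs m (Finset.mem_of_mem_erase hm)) hok hsi hne hw0 (fun m hm => ?_) hmem
        rcases eq_or_ne m l with rfl | hml
        · exact hwl
        · exact hwJ m fun h => hm (Finset.mem_erase.2 ⟨hml, h⟩)
      have hli' : l ≠ i := fun h => hiJ (h ▸ hl)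
      obtain ⟨x, hx1, hx, w', hw'0, hw'J, hmem'⟩ := descend_step G h2 hl hli' (hJs l hl) hwJ hwl hmem
      refine ih _ (Finset.erase_ssubset hl) (Function.update s l x) w' (fun h => hiJ (Finset.mem_of_mem_erase h))
        (fun m hm => ?_) (fun m => ?_) ?_ ⟨l, by simpa using hx1⟩ hw'0 hw'J hmem'
      · rw [Function.update_of_ne (Finset.mem_erase.1 hm).1]; exact hJs m (Finset.mem_of_mem_erase hm)
      · rcases eq_or_ne m l with rfl | hml
        · simpa using hx
        · simpa [hml] using hok m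
      · rw [Function.update_of_ne hli'.symm]; exact hsi
  obtain ⟨x, hx1, hx, w', hw'0, hw'J, hmem'⟩ := descend_step (J := Finset.univ.erase i) G h2
    (Finset.mem_erase.2 ⟨hli, Finset.mem_univ l₀⟩) hli (s := fun _ => Sl.one) rfl
    (fun m hm => by
      have : m = i := by simpa using hm
      exact this ▸ hw.1)
    hl₀ (by rw [show pv T (fun _ => Sl.one) = 1 from funext fun l => rfl, map_one, one_mul]; exact hw)
  refine key _ (Function.update (fun _ => Sl.one) l₀ x) w' (by simp) (fun m hm => ?_) (fun m => ?_) ?_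
    ⟨l₀, by simpa using hx1⟩ hw'0 hw'J hmem'
  · rw [Function.update_of_ne (Finset.mem_erase.1 hm).1]
  · rcases eq_or_ne m l₀ with rfl | hml
    · simpa using hx
    · simp [hml, Sl.Ok]
  · rw [Function.update_of_ne hli.symm]

end CfsgLib.MaxSub.SpPow
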