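import Cfsg.Agent.Lib.Chev.SubFin.SL2
import Cfsg.Agent.Lib.ClassK.SmallSimple

/-!
A finite group of two-by-two matrices with two opposite groups of transvections over a field of at least four
elements contains SL₂ of a subfield containing the product of the parameters; two facts on SL₂.
-/

set_option autoImplicit false
set_option linter.unusedSectionVars false

namespace CfsgLib.MaxSub.SpPow

open CfsgLib.Geom CfsgLib.Chev
open Matrix (SpecialLinearGroup)

variable {K : Type*} [Field K] [Fintype K]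

theorem mem_of_neg_mem (h2 : (2 : K) ≠ 0) (Γ : Subgroup (SpecialLinearGroup (Fin 2) K))
    {y z : SpecialLinearGroup (Fin 2) K} (p : ℕ) (hp : Odd p) (hy : y ^ p = 1)
    (hz : z ∈ Γ) (hc : z⁻¹ * y ∈ Subgroup.center (SpecialLinearGroup (Fin 2) K)) : y ∈ Γ := by
  rcases (SL2Anti.mem_center_iff_sign h2).1 hc with e | e
  · rw [show y = z * (z⁻¹ * y) by group, e, mul_one]; exact hz
  · have ey : y = -z := by rw [show y = z * (z⁻¹ * y) by group, e, mul_neg, mul_one]
    have hm : (-1 : SpecialLinearGroup (Fin 2) K) ∈ Γ := by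
      have hzy : z = -y := by rw [ey, neg_neg]
      have ezp : z ^ p = -1 := by rw [hzy, hp.neg_pow, hy]
      exact ezp ▸ pow_mem hz p
    rw [ey, show -z = -1 * z by rw [neg_one_mul]]
    exact mul_mem hm hz

theorem slU_pow_char (p : ℕ) [CharP K p] (x : K) : (slU x : SpecialLinearGroup (Fin 2) K) ^ p = 1 := by
  have : ∀ m : ℕ, ((slU x : SpecialLinearGroup (Fin 2) K) ^ m : Matrix (Fin 2) (Fin 2) K) = !![1, (m : K) * x; 0, 1] := by
    intro m
    induction m with
    | zero => simp [Matrix.one_fin_two]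
    | succ m ih =>
      rw [pow_succ, ih]
      simp [slU, Matrix.mul_fin_two, add_mul, add_comm]
  refine Subtype.ext ?_
  rw [Matrix.SpecialLinearGroup.coe_pow, this, CharP.cast_eq_zero, zero_mul]
  simp [Matrix.one_fin_two]

theorem slL_pow_char (p : ℕ) [CharP K p] (x : K) : (slL x : SpecialLinearGroup (Fin 2) K) ^ p = 1 := by
  have : ∀ m : ℕ, ((slL x : SpecialLinearGroup (Fin 2) K) ^ m : Matrix (Fin 2) (Fin 2) K) = !![1, 0; (m : K) * x, 1] := by
    intro m
    induction m with
    | zero => simp [Matrix.one_fin_two]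
    | succ m ih =>
      rw [pow_succ, ih]
      simp [slL, Matrix.mul_fin_two, add_mul]
  refine Subtype.ext ?_
  rw [Matrix.SpecialLinearGroup.coe_pow, this, CharP.cast_eq_zero, zero_mul]
  simp [Matrix.one_fin_two]

/-- lower root group over a field of at least four elements and upper one over `mu` times it -/
theorem sl2_subfield (h2 : (2 : K) ≠ 0) (F0 : Subfield K) (h4 : 4 ≤ Nat.card F0)
    (Γ : Subgroup (SpecialLinearGroup (Fin 2) K)) {mu : K} (hmu : mu ≠ 0) (hL : ∀ t ∈ F0, slL t ∈ Γ)
    (hU : ∀ t ∈ F0, slU (mu * t) ∈ Γ) :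
    ∃ F1 : Subfield K, F0 ≤ F1 ∧ mu ∈ F1 ∧ (∀ x ∈ F1, slU x ∈ Γ) ∧ ∀ x ∈ F1, slL x ∈ Γ := by
  classical
  obtain ⟨p, hp⟩ := CharP.exists K
  obtain ⟨n, hprime, hq⟩ := FiniteField.card K p
  have := Fact.mk hprime
  have hp2 : p ≠ 2 := fun e => h2 (by
    subst e
    exact_mod_cast CharP.cast_eq_zero K 2)
  set Ex := FiniteField.Extension K p 2
  set f := algebraMap K Ex
  have : CharP Ex p := charP_of_injective_ringHom f.injective p
  let _ : Fintype (Moebius.Line Ex) := Fintype.ofFinite _
  let pr : SpecialLinearGroup (Fin 2) K →* Matrix.ProjectiveSpecialLinearGroup (Fin 2) K :=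
    QuotientGroup.mk' (Subgroup.center _)
  set G := (Γ.map pr).map (Moebius.pslExt f)
  have : Finite G := Finite.of_equiv _ ((Γ.map pr).equivMapOfInjective _ (Moebius.pslExt_injective f)).toEquiv
  have hfix : ∀ g ∈ G, ∃ P : Moebius.Line Ex, g • P = P := by
    rintro _ ⟨x, -, rfl⟩
    exact Moebius.exists_fixed f (Moebius.quadClosed_extension p) _
  have eup : ∀ c, Moebius.pslExt f (pr (slU c)) = Moebius.aff 1 (f c) := fun c => by
    show Moebius.extHom f (Matrix.ProjGenLinGroup.mk (SpecialLinearGroup.toGL (slU c))) = _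
    rw [show slU c = SpecialLinearGroup.transvection (show (0 : Fin 2) ≠ 1 by decide) c from Subtype.ext (by
      ext i j
      fin_cases i <;> fin_cases j <;> simp [slU, SpecialLinearGroup.transvection, Matrix.transvection]),
      Moebius.mk_transvection_zero_one, Moebius.extHom_aff, map_one]
  have elo : ∀ c, Moebius.pslExt f (pr (slL c)) = Moebius.low (f c) := fun c => by
    show Moebius.extHom f (Matrix.ProjGenLinGroup.mk (SpecialLinearGroup.toGL (slL c))) = _
    rw [show slL c = SpecialLinearGroup.transvection (show (1 : Fin 2) ≠ 0 by decide) c from Subtype.ext (by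
      ext i j
      fin_cases i <;> fin_cases j <;> simp [slL, SpecialLinearGroup.transvection, Matrix.transvection]),
      Moebius.mk_transvection_one_zero, Moebius.extHom_low]
  have hUp : slU mu ∈ Γ := by simpa using hU 1 F0.one_mem
  have hgt : Moebius.aff 1 (f mu) ∈ G := ⟨_, ⟨_, hUp, rfl⟩, eup mu⟩
  have hg1 : Moebius.low (1 : Ex) ∈ G := ⟨_, ⟨_, hL 1 F0.one_mem, rfl⟩, by rw [elo, map_one]⟩
  rcases Moebius.two_para_cases G p hp2 hfix ((map_ne_zero f).2 hmu) hgt hg1 with
    ⟨u, k, d, h0, h1⟩ | ⟨h60, rfl, -⟩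
  · obtain ⟨F, hF, -, -, hlow⟩ := Moebius.exists_subfield (G := G) p d h0 h1
    have hmuF : f mu ∈ F := (hF _).2 hgt
    refine ⟨F.comap f, fun t ht => ?_, hmuF, fun x hx => ?_, fun x hx => ?_⟩
    · have h : f (mu * t) ∈ F := (hF _).2 (by exact ⟨_, ⟨_, hU t ht, rfl⟩, eup _⟩)
      rw [map_mul] at h
      rw [Subfield.mem_comap]
      rw [show f t = (f mu)⁻¹ * (f mu * f t) by rw [inv_mul_cancel_left₀ ((map_ne_zero f).2 hmu)]]
      exact F.mul_mem (F.inv_mem hmuF) h
    · obtain ⟨_, ⟨z, hz, rfl⟩, hx'⟩ : Moebius.aff 1 (f x) ∈ G := (hF _).1 hx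
      rw [← eup x] at hx'
      exact mem_of_neg_mem h2 Γ p (hprime.odd_of_ne_two hp2) (slU_pow_char p x) hz
        (QuotientGroup.eq.1 (Moebius.pslExt_injective f hx'))
    · obtain ⟨_, ⟨z, hz, rfl⟩, hx'⟩ : Moebius.low (f x) ∈ G := hlow _ hx
      rw [← elo x] at hx'
      exact mem_of_neg_mem h2 Γ p (hprime.odd_of_ne_two hp2) (slL_pow_char p x) hz
        (QuotientGroup.eq.1 (Moebius.pslExt_injective f hx'))
  · exfalso
    let φ : Multiplicative F0 →* G :=
      { toFun := fun t => ⟨Moebius.aff 1 (f (mu * (Multiplicative.toAdd t : F0))),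
          _, ⟨_, hU _ (Multiplicative.toAdd t : F0).2, rfl⟩, eup _⟩
        map_one' := Subtype.ext (by simp [Moebius.aff_one])
        map_mul' := fun s t => Subtype.ext (by
          show Moebius.aff 1 _ = Moebius.aff 1 _ * Moebius.aff 1 _
          rw [Moebius.aff_mul, mul_one, Units.val_one, one_mul, ← map_add, ← mul_add]
          rw [toAdd_mul, Subfield.coe_add, add_comm]) }
    have hφ : Function.Injective φ := by
      intro s t hst
      have := (Moebius.aff_inj (congrArg Subtype.val hst)).2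
      exact Multiplicative.toAdd.injective (Subtype.ext (mul_left_cancel₀ hmu (f.injective this)))
    have hdvd : Nat.card F0 ∣ 60 := by
      rw [← h60, show Nat.card F0 = Nat.card (Multiplicative F0) from Nat.card_congr Multiplicative.ofAdd]
      exact Subgroup.card_dvd_of_injective φ hφ
    let _ : Fintype F0 := Fintype.ofFinite _
    have : CharP F0 3 := (RingHom.charP_iff F0.subtype F0.subtype.injective 3).2 hp
    obtain ⟨m, -, hm⟩ := FiniteField.card F0 3
    rw [Nat.card_eq_fintype_card, hm] at hdvd h4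
    rcases lt_or_ge (m : ℕ) 2 with hm2 | hm2
    · have : (3 : ℕ) ^ (m : ℕ) ≤ 3 ^ 1 := Nat.pow_le_pow_right (by norm_num) (by omega)
      omega
    · exact absurd ((Nat.pow_dvd_pow 3 hm2).trans hdvd) (by norm_num)

/-- the group of a subfield with both root groups in `Γ` -/
theorem sl2_map_le (F1 : Subfield K) (Γ : Subgroup (SpecialLinearGroup (Fin 2) K))
    (hU : ∀ x ∈ F1, slU x ∈ Γ) (hL : ∀ x ∈ F1, slL x ∈ Γ) :
    (⊤ : Subgroup (SpecialLinearGroup (Fin 2) F1)).map (SpecialLinearGroup.map F1.subtype) ≤ Γ := by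
  rw [Subgroup.map_le_iff_le_comap, CfsgLib.Classical.sl_transvection_induction
    (Γ.comap (SpecialLinearGroup.map F1.subtype)) fun i j hij c => ?_]
  rw [Subgroup.mem_comap]
  have e01 : ∀ h : (0 : Fin 2) ≠ 1, SpecialLinearGroup.map F1.subtype (SpecialLinearGroup.transvection h c) = slU (c : K) :=
    fun h => Subtype.ext (by
      ext a b
      show F1.subtype ((1 + Matrix.single 0 1 c : Matrix (Fin 2) (Fin 2) F1) a b) = _
      fin_cases a <;> fin_cases b <;> simp [slU])
  have e10 : ∀ h : (1 : Fin 2) ≠ 0, SpecialLinearGroup.map F1.subtype (SpecialLinearGroup.transvection h c) = slL (c : K) :=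
    fun h => Subtype.ext (by
      ext a b
      show F1.subtype ((1 + Matrix.single 1 0 c : Matrix (Fin 2) (Fin 2) F1) a b) = _
      fin_cases a <;> fin_cases b <;> simp [slL])
  fin_cases i <;> fin_cases j <;> first | exact absurd rfl hij | skip
  · rw [e01]; exact hU _ c.2
  · rw [e10]; exact hL _ c.2

/-- the image of SL₂ of a subfield of at least four elements lies in every term of the derived series -/
theorem sl2_map_le_derived (F1 : Subfield K) (h4 : 4 ≤ Nat.card F1) (Γ : Subgroup (SpecialLinearGroup (Fin 2) K))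
    (hU : ∀ x ∈ F1, slU x ∈ Γ) (hL : ∀ x ∈ F1, slL x ∈ Γ) (n : ℕ) :
    (⊤ : Subgroup (SpecialLinearGroup (Fin 2) F1)).map (SpecialLinearGroup.map F1.subtype) ≤
      (derivedSeries Γ n).map Γ.subtype := by
  classical
  let _ : Fintype F1 := Fintype.ofFinite _
  obtain ⟨a, ha, ha2⟩ : ∃ a : F1, a ≠ 0 ∧ a ^ 2 ≠ 1 := by
    by_contra hcon
    simp only [not_exists, not_and, not_not] at hcon
    have hsub : (Finset.univ : Finset F1) ⊆ {0, 1, -1} := fun a _ => by
      by_cases ha : a = 0
      · simp [ha]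
      · rcases sq_eq_one_iff.1 (hcon a ha) with h | h <;> simp [h]
    have := (Finset.card_le_card hsub).trans Finset.card_le_three
    rw [Finset.card_univ, ← Nat.card_eq_fintype_card] at this
    omega
  have hperf := Matrix.SL2.commutator_eq_top ha ha2
  induction n with
  | zero =>
    rw [derivedSeries_zero, ← MonoidHom.range_eq_map Γ.subtype, Subgroup.range_subtype]
    exact sl2_map_le F1 Γ hU hL
  | succ n ih =>
    rw [derivedSeries_succ, Subgroup.map_commutator, ← hperf, commutator_def, Subgroup.map_commutator]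
    exact Subgroup.commutator_mono ih ih

/-- a normal subgroup of order prime to the characteristic is central -/
theorem sl2_normal_central (p : ℕ) [Fact p.Prime] [CharP K p] (h4 : 4 ≤ Fintype.card K)
    (N : Subgroup (SpecialLinearGroup (Fin 2) K)) [N.Normal] (hN : ¬ p ∣ Nat.card N) :
    N ≤ Subgroup.center (SpecialLinearGroup (Fin 2) K) := by
  classical
  set π := QuotientGroup.mk' (Subgroup.center (SpecialLinearGroup (Fin 2) K))
  have hs : IsSimpleGroup (Matrix.ProjectiveSpecialLinearGroup (Fin 2) K) := CfsgLib.ClassK.isSimpleGroup_psl_two h4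
  have hn : (N.map π).Normal := Subgroup.Normal.map inferInstance π (QuotientGroup.mk'_surjective _)
  rcases hs.eq_bot_or_eq_top_of_normal (N.map π) hn with h | h
  · intro x hx
    exact (QuotientGroup.eq_one_iff x).1 ((Subgroup.eq_bot_iff_forall _).1 h _ ⟨x, hx, rfl⟩)
  · exfalso
    have h1 : π (slU 1) ∈ N.map π := h ▸ Subgroup.mem_top _
    have hne : π (slU 1) ≠ 1 := fun e => by
      have hc := Matrix.SpecialLinearGroup.mem_center_iff.1 ((QuotientGroup.eq_one_iff _).1 e)
      obtain ⟨r, -, hr⟩ := hc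
      have := congrArg (fun A : Matrix (Fin 2) (Fin 2) K => A 0 1) hr
      simp [slU] at this
    have hord : orderOf (π (slU 1)) = p :=
      orderOf_eq_prime (by rw [← map_pow, slU_pow_char p, map_one]) hne
    refine hN ((hord ▸ ?_ : p ∣ Nat.card (N.map π)).trans (N.card_map_dvd π))
    rw [← Subgroup.orderOf_mk (π (slU 1)) h1]
    exact orderOf_dvd_natCard _

end CfsgLib.MaxSub.SpPow
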