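import Cfsg.Agent.Lib.MaxSub.SpPow.Descend

/-!
Tensor powers of a symplectic space: with the exchanges of the factors, monomials in the centres grow to the full
product of root elements of all factors, a transvection at a pure tensor.
-/

set_option autoImplicit false
set_option linter.unusedSectionVars false

namespace CfsgLib.MaxSub.SpPow

variable {F A R ι κ : Type*} [Field F] [AddCommGroup A] [Module F A] [Ring R] [Algebra F R] [Fintype κ]
  [Fintype ι] [DecidableEq ι]
variable {T : Sys F A R ι κ} {H : Subgroup Rˣ}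

/-- the group contains the exchanges of two factors -/
def Perms (T : Sys F A R ι κ) (H : Subgroup Rˣ) : Prop :=
  ∀ i j, ∃ g ∈ H, ∀ l u v, (g : R) * T.E l u v * (↑g⁻¹ : R) = T.E (Equiv.swap i j l) u v

theorem conj_op {g : Rˣ} {σ : Equiv.Perm ι}
    (hg : ∀ l u v, (g : R) * T.E l u v * (↑g⁻¹ : R) = T.E (σ l) u v) (l : ι) (x : Sl A) :
    (g : R) * (T.op l x : R) * (↑g⁻¹ : R) = (T.op (σ l) x : R) := by
  cases x with
  | one => simp [Sys.op]
  | nn a b => exact hg l a a
  | xx a v b u => simp only [Sys.op, Sys.xop, mul_sub, sub_mul, hg]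

/-- exchanges permute the slots -/
theorem conj_pv {g : Rˣ} {σ : Equiv.Perm ι}
    (hg : ∀ l u v, (g : R) * T.E l u v * (↑g⁻¹ : R) = T.E (σ l) u v) (s : ι → Sl A) :
    (g : R) * T.tens (pv T s) * (↑g⁻¹ : R) = T.tens (pv T (s ∘ σ.symm)) := by
  classical
  suffices key : ∀ S : Finset ι,
      (g : R) * T.tens (pv T (fun l => if l ∈ S then s l else .one)) * (↑g⁻¹ : R) =
        T.tens (pv T ((fun l => if l ∈ S then s l else .one) ∘ σ.symm)) by simpa using key Finset.univ
  intro S
  induction S using Finset.induction_on with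
  | empty =>
    have e : ∀ τ : ι → ι, pv T ((fun l => if l ∈ (∅ : Finset ι) then s l else .one) ∘ τ) = 1 := fun τ => by
      funext l; simp [pv, Sys.op]
    have h0 := e id
    rw [Function.comp_id] at h0
    rw [h0, e, map_one, mul_one, Units.mul_inv]
  | insert l S hl ih =>
    set t := fun m => if m ∈ S then s m else Sl.one with ht
    have htl : t l = .one := if_neg hl
    have e1 : (fun m => if m ∈ insert l S then s m else Sl.one) = Function.update t l (s l) := by
      funext m
      rcases eq_or_ne m l with rfl | h <;> simp [ht, *]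
    have e2 : Function.update t l (s l) ∘ σ.symm = Function.update (t ∘ σ.symm) (σ l) (s l) := by
      funext m
      rcases eq_or_ne m (σ l) with rfl | h
      · simp
      · have : σ.symm m ≠ l := fun h' => h (by rw [← h']; simp)
        simp [h, this]
    rw [e1, e2, pv_update, pv_update, Sys.tens_update (pv T t) l, Sys.tens_update (pv T (t ∘ σ.symm)) (σ l)]
    rw [show Function.update (pv T t) l 1 = pv T t by rw [← pv_one (T := T) htl, Function.update_eq_self],
      show Function.update (pv T (t ∘ σ.symm)) (σ l) 1 = pv T (t ∘ σ.symm) by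
        rw [← pv_one (T := T) (s := t ∘ σ.symm) (l := σ l) (by simp [htl]), Function.update_eq_self],
      ← ih, ← conj_op hg]
    simp [mul_assoc]

/-- the signed flips of the slots in `C` -/
def flipPv (T : Sys F A R ι κ) (C : Finset ι) (s : ι → Sl A) : (l : ι) → T.phiA l :=
  fun l => if l ∈ C then Sl.sgn T (s l) • T.op l (s l).flip else T.op l (s l)

/-- flipping by members of `H` of the factors in `C` -/
theorem flip_mem (G : Grp T H) {s : ι → Sl A} (hs : ∀ l, Sl.Ok T (s l)) (C : Finset ι) {P : R → Prop}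
    (hP : ∀ x, P x → ∀ g ∈ H, (∀ m ∉ C, T.Cen m (g : Rˣ)) → P ((g : R) * x * (↑g⁻¹ : R)))
    (hsm : ∀ x, P x → ∀ c : F, P (c • x)) (h : P (T.tens (pv T s))) : P (T.tens (flipPv T C s)) := by
  suffices key : ∀ D ⊆ C, P (T.tens (flipPv T D s)) from key C subset_rfl
  intro D
  induction D using Finset.induction_on with
  | empty =>
    intro _
    have e : flipPv T ∅ s = pv T s := by funext l; simp [flipPv, pv]
    rwa [e]
  | insert l D hl ih =>
    intro hD
    have hlC : l ∈ C := hD (Finset.mem_insert_self _ _)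
    have hDC : D ⊆ C := fun m hm => hD (Finset.mem_insert_of_mem hm)
    obtain ⟨g, hg, hgc, hgv⟩ := G.exists_flip (hs l) l
    have h1 := hP _ (ih hDC) g hg fun m hm => hgc m fun hml => hm (hml ▸ hlC)
    rw [Sys.tens_conj (flipPv T D s) l hgc (T.op l (s l).flip) (by simpa [flipPv, hl] using hgv)] at h1
    have h2 := hsm _ h1 (Sl.sgn T (s l))
    rw [← Sys.tens_update_smul] at h2
    convert h2 using 2
    congr 1
    funext m
    rcases eq_or_ne m l with rfl | h' <;> simp [flipPv, *]

/-- sandwiches separate the two orders -/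
theorem comb {Q : Submodule F R} (C : Finset ι) (M : (l : ι) → T.phiA l)
    (hQ : ∀ l ∈ C, ∀ x ∈ Q, (M l : R) * x * M l ∈ Q) :
    ∀ (g h : (l : ι) → T.phiA l) (ε : F), (∀ l ∈ C, M l * g l * M l = M l) →
      (∀ l ∈ C, M l * h l * M l = -M l) → (∀ l ∉ C, g l = h l) → T.tens g + ε • T.tens h ∈ Q →
      (1 + ε * (-1) ^ C.card) • T.tens (fun l => if l ∈ C then M l else g l) ∈ Q := by
  induction C using Finset.induction_on with
  | empty =>
    intro g h ε _ _ heq hmem
    have e : g = h := funext fun l => heq l (Finset.notMem_empty l)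
    subst e
    simp only [Finset.card_empty, pow_zero, mul_one, add_smul, one_smul, Finset.notMem_empty, if_false]
    exact hmem
  | insert l C hl ih =>
    intro g h ε hg hh heq hmem
    have h1 := hQ l (Finset.mem_insert_self _ _) _ hmem
    rw [mul_add, add_mul, mul_smul_comm, smul_mul_assoc, Sys.sandwich_tens, Sys.sandwich_tens,
      hg l (Finset.mem_insert_self _ _), hh l (Finset.mem_insert_self _ _), ← neg_one_smul F (M l),
      Sys.tens_update_smul, smul_smul] at h1
    have h2 := ih (fun m hm => hQ m (Finset.mem_insert_of_mem hm)) (Function.update g l (M l))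
      (Function.update h l (M l)) (ε * -1)
      (fun m hm => by rw [Function.update_of_ne (fun e : m = l => hl (e ▸ hm))]; exact hg m (Finset.mem_insert_of_mem hm))
      (fun m hm => by rw [Function.update_of_ne (fun e : m = l => hl (e ▸ hm))]; exact hh m (Finset.mem_insert_of_mem hm))
      (fun m hm => by
        rcases eq_or_ne m l with rfl | hml
        · rw [Function.update_self, Function.update_self]
        · rw [Function.update_of_ne hml, Function.update_of_ne hml]
          exact heq m fun h' => (Finset.mem_insert.1 h').elim hml hm) h1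
    convert h2 using 2
    · rw [Finset.card_insert_of_notMem hl, pow_succ]; ring
    · congr 1
      funext m
      rcases eq_or_ne m l with rfl | hml <;> simp [*]

/-- a monomial in root elements supported on `K` -/
def AllN (T : Sys F A R ι κ) (H : Subgroup Rˣ) (s : ι → Sl A) (K : Finset ι) : Prop :=
  (∀ l, Sl.Ok T (s l)) ∧ (∀ l ∉ K, s l = .one) ∧ (∀ l ∈ K, ∃ a b, s l = .nn a b) ∧ InL F H (T.tens (pv T s))

theorem sq_zero {s : ι → Sl A} {l : ι} (hl : Sl.Ok T (s l)) (h : s l ≠ .one) :
    T.tens (pv T s) * T.tens (pv T s) = 0 := by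
  rw [← map_mul, Sys.tens_split _ l, Pi.mul_apply, show pv T s l * pv T s l = 0 from Sl.op_sq hl h l]
  simp

theorem zero_of_slot (g : (l : ι) → T.phiA l) (l : ι) (h : g l = 0) : T.tens g = 0 := by
  rw [Sys.tens_split g l, h]; simp

/-- **the commutator of two monomials with an odd overlap** -/
theorem grow (G : Grp T H) (h2 : (2 : F) ≠ 0) {s : ι → Sl A} (hs : ∀ l, Sl.Ok T (s l))
    (hmem : InL F H (T.tens (pv T s))) {g : Rˣ} (hg : g ∈ H) {σ : Equiv.Perm ι}
    (hgE : ∀ l u v, (g : R) * T.E l u v * (↑g⁻¹ : R) = T.E (σ l) u v) (C : Finset ι) (hCodd : Odd C.card)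
    (hC1 : ∀ l ∈ C, s l ≠ .one ∧ σ.symm l = l) (hC2 : ∀ l ∉ C, s l = .one ∨ s (σ.symm l) = .one)
    (hN : ∀ l ∉ C, s l ≠ .one → ∃ a b, s l = .nn a b)
    (hN' : ∀ l ∉ C, s (σ.symm l) ≠ .one → ∃ a b, s (σ.symm l) = .nn a b)
    {i j : ι} (hiC : i ∉ C) (hi : s i ≠ .one) (hjC : j ∉ C) (hj : s (σ.symm j) ≠ .one)
    (K : Finset ι) (hK : ∀ l, l ∈ K ↔ s l ≠ .one ∨ s (σ.symm l) ≠ .one) :
    ∃ s', AllN T H s' K := by
  classical
  set t := s ∘ σ.symm with ht
  have htok : ∀ l, Sl.Ok T (t l) := fun l => hs _
  have htmem : InL F H (T.tens (pv T t)) := by rw [ht, ← conj_pv hgE]; exact hmem.conj hg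
  set a := T.tens (pv T s) with ha
  set b := T.tens (flipPv T C t) with hb
  have hbmem : InL F H b := flip_mem G htok C (P := InL F H) (fun x hx g hg _ => hx.conj hg) (fun x hx c => hx.smul c) htmem
  have hsi1 : t i = .one := (hC2 i hiC).resolve_left hi
  have hsj1 : s j = .one := (hC2 j hjC).resolve_right hj
  have hbi : flipPv T C t i = 1 := by simp [flipPv, hiC, hsi1, Sys.op]
  have hbj : flipPv T C t j = T.op j (t j) := by simp [flipPv, hjC]
  have hai : pv T s i = T.op i (s i) := rfl
  have haj : pv T s j = 1 := pv_one hsj1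
  have haa : a * a = 0 := sq_zero (hs i) hi
  have hbb : b * b = 0 := by
    rw [hb, ← map_mul]
    exact zero_of_slot _ j (by rw [Pi.mul_apply, hbj]; exact Sl.op_sq (htok j) hj j)
  have haba : a * b * a = 0 := by
    rw [ha, hb, ← map_mul, ← map_mul]
    exact zero_of_slot _ i (by rw [Pi.mul_apply, Pi.mul_apply, hbi, mul_one, hai]; exact Sl.op_sq (hs i) hi i)
  have hbab : b * a * b = 0 := by
    rw [ha, hb, ← map_mul, ← map_mul]
    exact zero_of_slot _ j (by rw [Pi.mul_apply, Pi.mul_apply, haj, mul_one, hbj]; exact Sl.op_sq (htok j) hj j)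
  have hz := InL.comm haa hbb haba hbab hmem hbmem
  -- the factor `i` is the centre
  obtain ⟨e, e', hie⟩ := hN i hiC hi
  set N := T.E i e e with hN0
  have hsplit : ∀ g : (l : ι) → T.phiA l, g i = T.op i (s i) → T.tens g = N * T.tens (Function.update g i 1) := by
    intro g hgi
    rw [Sys.tens_split g i, hgi, hie]
    rfl
  set gab := pv T s * flipPv T C t with hgab
  set gba := flipPv T C t * pv T s with hgba
  have hgab_i : gab i = T.op i (s i) := by rw [hgab, Pi.mul_apply, hbi, mul_one, hai]
  have hgba_i : gba i = T.op i (s i) := by rw [hgba, Pi.mul_apply, hbi, one_mul, hai]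
  let Q : Submodule F R := (Zs T H i e).map (LinearMap.mulLeft F N)
  have hQmem : T.tens gab + (-1 : F) • T.tens gba ∈ Q := by
    refine ⟨T.tens (Function.update gab i 1) - T.tens (Function.update gba i 1), ⟨?_, ?_⟩, ?_⟩
    · exact (Sys.cen_rest gab i).sub (Sys.cen_rest gba i)
    · rw [mul_sub, ← hsplit _ hgab_i, ← hsplit _ hgba_i, hgab, hgba, map_mul, map_mul]
      exact hz
    · rw [LinearMap.mulLeft_apply, mul_sub, ← hsplit _ hgab_i, ← hsplit _ hgba_i, neg_one_smul, sub_eq_add_neg]
  set M : (l : ι) → T.phiA l := fun l => T.op l (s l).cut with hM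
  have hflip : ∀ l ∈ C, flipPv T C t l = Sl.sgn T (s l) • T.op l (s l).flip := fun l hl => by
    simp [flipPv, hl, ht, (hC1 l hl).2]
  have hres := comb (Q := Q) C M (fun l hl x hx => ?_) gab gba (-1)
    (fun l hl => by rw [hgab, Pi.mul_apply, hflip l hl]; exact (Sl.separate (hs l) (hC1 l hl).1 l).1)
    (fun l hl => by rw [hgba, Pi.mul_apply, hflip l hl]; exact (Sl.separate (hs l) (hC1 l hl).1 l).2)
    (fun l hl => by
      rcases hC2 l hl with h | h
      · rw [hgab, hgba, Pi.mul_apply, Pi.mul_apply, pv_one h, one_mul, mul_one]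
      · have : flipPv T C t l = 1 := by simp [flipPv, hl, ht, h, Sys.op]
        rw [hgab, hgba, Pi.mul_apply, Pi.mul_apply, this, one_mul, mul_one])
    hQmem
  swap
  · obtain ⟨w, hw, rfl⟩ := hx
    have hli : l ≠ i := fun h => hiC (h ▸ hl)
    rcases hsl : s l with _ | ⟨a', b'⟩ | ⟨a', v', b', u'⟩
    · exact absurd hsl (hC1 l hl).1
    all_goals
      refine ⟨T.E l (a' + b') (a' + b') * w * T.E l (a' + b') (a' + b'), (Zs.root_mem G h2 hli _ hw).1, ?_⟩
      simp only [LinearMap.mulLeft_apply, hM, hsl, Sl.cut, Sys.op]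
      rw [← mul_assoc (T.E l (a' + b') (a' + b')) N, T.cen_E hli.symm (a' + b') (a' + b') e e]
      simp [mul_assoc, hN0]
  rw [hCodd.neg_one_pow, neg_mul_neg, one_mul, ← two_smul F (1 : F), smul_eq_mul, mul_one] at hres
  have hres' := Q.smul_mem (2 : F)⁻¹ hres
  rw [inv_smul_smul₀ h2] at hres'
  set s' : ι → Sl A := fun l => if l ∈ C then (s l).cut else if s l = .one then t l else s l with hs'
  refine ⟨s', fun l => ?_, fun l hl => ?_, fun l hl => ?_, ?_⟩
  · rw [hs']
    dsimp only
    split_ifs
    exacts [(hs l).cut, htok l, hs l]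
  · rw [hK, not_or, not_not, not_not] at hl
    have : l ∉ C := fun h => (hC1 l h).1 hl.1
    simp [hs', this, hl.1, ht, hl.2]
  · rw [hs']
    dsimp only
    split_ifs with hlC h1
    · have := (hC1 l hlC).1
      rcases hsl : s l with _ | ⟨a', b'⟩ | ⟨a', v', b', u'⟩
      · exact absurd hsl this
      all_goals exact ⟨_, _, rfl⟩
    · exact hN' l hlC (((hK l).1 hl).resolve_left (not_not.2 h1))
    · exact hN l hlC h1
  · obtain ⟨w, hw, hwe⟩ := hres'
    rw [LinearMap.mulLeft_apply] at hwe
    have : pv T s' = fun l => if l ∈ C then M l else gab l := by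
      funext l
      by_cases hlC : l ∈ C
      · simp [pv, hs', hlC, hM]
      · rcases hC2 l hlC with h | h
        · simp [pv, hs', hlC, h, hgab, flipPv, Sys.op]
        · by_cases h1 : s l = .one
          · simp [pv, hs', hlC, h1, hgab, flipPv, Sys.op]
          · simp [pv, hs', hlC, h1, hgab, flipPv, Sys.op, ht, h]
    rw [this, ← hwe]
    exact hw.2

/-- the Jordan product in a centre -/
theorem Zs.jordan (G : Grp T H) {i : ι} {a v b u : A} (h : Sl.Ok T (Sl.xx a v b u)) {w w' : R}
    (hw : w ∈ Zs T H i a) (hw' : w' ∈ Zs T H i a) : w * w' + w' * w ∈ Zs T H i a := by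
  obtain ⟨hab, hvu, hav, hau, -, -⟩ := h
  refine ⟨(hw.1.mul hw'.1).add (hw'.1.mul hw.1), ?_⟩
  have hva : T.f v a = 0 := by rw [T.swap, hav, neg_zero]
  have hua : T.f u a = 0 := by rw [T.swap, hau, neg_zero]
  have ha : a ≠ 0 := by rintro rfl; simp at hab
  have hy : ∀ (x : A), T.f x a = 0 → x ≠ 0 → ∀ w, w ∈ Zs T H i a → InL F H (T.yv i a x * w) := by
    intro x hx hx0 w hw
    have hax : T.f a x = 0 := T.perp_left hx
    rcases eq_or_ne (a + x) 0 with h0 | h0
    · rw [eq_neg_of_add_eq_zero_right h0]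
      have e : T.yv i a (-a) = (-2 : F) • T.E i a a := by simp [Sys.yv, two_smul, neg_smul]
      rw [e, smul_mul_assoc]
      exact hw.2.smul _
    have h1 := (Zs.move G ha h0 hw).2
    have h2 := (Zs.move G ha hx0 hw).2.smul (-1)
    have h3 := hw.2.smul (-1)
    have e : T.yv i a x * w = T.E i (a + x) (a + x) * w + (-1 : F) • (T.E i a a * w) + (-1 : F) • (T.E i x x * w) := by
      simp only [Sys.yv, map_add, LinearMap.add_apply, add_mul, neg_smul, one_smul]
      abel
    rw [e]
    have z : ∀ p q : A, T.f q p = 0 → T.E i p p * w * (T.E i q q * w) = 0 := fun p q hpq => by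
      rw [mul_assoc, ← mul_assoc w, hw.1, mul_assoc, ← mul_assoc, T.mul, hpq, zero_smul, zero_mul]
    refine (h1.add ?_ h3).add ?_ h2
    · rw [mul_smul_comm, z _ _ (by simp [T.alt, hax]), smul_zero]
    · rw [mul_smul_comm, add_mul, smul_mul_assoc, z _ _ (by simp [T.alt, hx]), z _ _ hx]
      simp
  have hv0 : v ≠ 0 := by rintro rfl; simp at hvu
  have hu0 : u ≠ 0 := by rintro rfl; simp at hvu
  set y := T.yv i a v
  set y' := T.yv i a u
  have hyc : ∀ {z x : R}, T.Cen i z → x ∈ T.phi i → z * x = x * z := fun hz hx => (T.commute_phi hx hz).symm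
  have hyphi : ∀ x, T.yv i a x ∈ T.phi i := fun x => add_mem (T.E_mem_phi i _ _) (T.E_mem_phi i _ _)
  have m : ∀ {p q : A} {z z' : R}, T.Cen i z →
      T.yv i a p * z * (T.yv i a q * z') = T.yv i a p * T.yv i a q * (z * z') := fun {p q z z'} hz => by
    rw [mul_assoc, ← mul_assoc z, hyc hz (hyphi q)]; simp [mul_assoc]
  have yy : y * y' = T.f u v • T.E i a a := T.yv_mul_yv hva hua
  have y'y : y' * y = T.f v u • T.E i a a := T.yv_mul_yv hua hva
  have h := InL.comm
    (by rw [m hw.1, T.yv_mul_self hva, zero_mul])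
    (by rw [m hw'.1, T.yv_mul_self hua, zero_mul])
    (by rw [m hw.1, yy, mul_assoc, ← mul_assoc (w * w'), hyc (hw.1.mul hw'.1) (hyphi v), mul_assoc,
          ← mul_assoc (T.f u v • T.E i a a), smul_mul_assoc, T.n_mul_yv hva, smul_zero, zero_mul])
    (by rw [m hw'.1, y'y, mul_assoc, ← mul_assoc (w' * w), hyc (hw'.1.mul hw.1) (hyphi u), mul_assoc,
          ← mul_assoc (T.f v u • T.E i a a), smul_mul_assoc, T.n_mul_yv hua, smul_zero, zero_mul])
    (hy v hva hv0 w hw) (hy u hua hu0 w' hw')
  rw [m hw.1, m hw'.1, yy, y'y, T.swap v u, hvu] at h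
  have := h.smul (-1)
  convert this using 1
  simp only [neg_smul, one_smul, neg_mul, smul_mul_assoc, mul_add]
  abel

/-- **no self-adjoint slots** in a monomial of odd size -/
theorem jordan_step (G : Grp T H) (h2 : (2 : F) ≠ 0) {i : ι} {e : A} (he : e ≠ 0) {s : ι → Sl A}
    (hs : ∀ l, Sl.Ok T (s l)) (hsi : s i = .one) {r : ι} {a v b u : A} (hr : s r = .xx a v b u)
    (C : Finset ι) (hC : ∀ l, l ∈ C ↔ s l ≠ .one) (hCe : Even C.card) (hmem : T.tens (pv T s) ∈ Zs T H i e) :
    ∃ s', AllN T H s' (insert i C) := by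
  classical
  have hok : Sl.Ok T (Sl.xx a v b u) := hr ▸ hs r
  have hab : T.f a b = 1 := hok.1
  have ha : a ≠ 0 := by rintro rfl; simp at hab
  have hiC : i ∉ C := fun h => (hC i).1 h hsi
  have hw : T.tens (pv T s) ∈ Zs T H i a := Zs.move G he ha hmem
  have hw' : T.tens (flipPv T C s) ∈ Zs T H i a :=
    flip_mem G hs C (P := fun x => x ∈ Zs T H i a) (fun x hx g hg hgc => Zs.conj hx hg (hgc i hiC))
      (fun x hx c => Submodule.smul_mem _ c hx) hw
  have hj := Zs.jordan G hok hw hw'
  rw [← map_mul, ← map_mul] at hj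
  set M : (l : ι) → T.phiA l := fun l => T.op l (s l).cut with hM
  have hres := comb (Q := Zs T H i a) C M (fun l hl x hx => ?_) (pv T s * flipPv T C s) (flipPv T C s * pv T s) 1
    (fun l hl => by
      simp only [Pi.mul_apply, flipPv, if_pos hl]; exact (Sl.separate (hs l) ((hC l).1 hl) l).1)
    (fun l hl => by
      simp only [Pi.mul_apply, flipPv, if_pos hl]; exact (Sl.separate (hs l) ((hC l).1 hl) l).2)
    (fun l hl => by
      have : s l = .one := not_not.1 fun h => hl ((hC l).2 h)
      simp [flipPv, pv, hl, this, Sys.op])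
    (by rwa [one_smul])
  swap
  · rcases hsl : s l with _ | ⟨a', b'⟩ | ⟨a', v', b', u'⟩
    · exact absurd hsl ((hC l).1 hl)
    all_goals
      simp only [hM, hsl, Sl.cut, Sys.op]
      exact (Zs.root_mem G h2 (fun h : l = i => hiC (h ▸ hl)) (a' + b') hx).1
  rw [hCe.neg_one_pow, one_mul, ← two_smul F (1 : F), smul_eq_mul, mul_one] at hres
  have hres' := Submodule.smul_mem _ (2 : F)⁻¹ hres
  rw [inv_smul_smul₀ h2] at hres'
  refine ⟨fun l => if l = i then .nn a b else (s l).cut, fun l => ?_, fun l hl => ?_, fun l hl => ?_, ?_⟩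
  · dsimp only
    split_ifs
    exacts [hab, (hs l).cut]
  · rw [Finset.mem_insert, not_or] at hl
    have : s l = .one := not_not.1 fun h => hl.2 ((hC l).2 h)
    simp [hl.1, this, Sl.cut]
  · dsimp only
    split_ifs with h
    · exact ⟨a, b, rfl⟩
    rcases hsl : s l with _ | ⟨a', b'⟩ | ⟨a', v', b', u'⟩
    · exact absurd hsl ((hC l).1 ((Finset.mem_insert.1 hl).resolve_left h))
    all_goals exact ⟨_, _, rfl⟩
  · convert hres'.2 using 1
    rw [Sys.tens_split _ i]
    congr 1
    · simp [pv, Sys.op]
    · congr 1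
      funext l
      rcases eq_or_ne l i with rfl | hli
      · simp [hiC, flipPv, pv, hsi, Sys.op]
      · by_cases hlC : l ∈ C
        · simp [pv, hli, hlC, hM]
        · have : s l = .one := not_not.1 fun h => hlC ((hC l).2 h)
          simp [pv, hli, hlC, this, flipPv, Sl.cut, Sys.op]

/-- **a transvection**: the full product of root elements -/
theorem exists_full (G : Grp T H) (P : Perms T H) (h2 : (2 : F) ≠ 0) (hodd : Odd (Fintype.card ι))
    (hZ : ¬ Ctr T H) : ∃ s, AllN T H s Finset.univ := by
  classical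
  simp only [Ctr, not_forall, not_exists] at hZ
  obtain ⟨i, e, he, y, hy, hin, hno⟩ := hZ
  -- all scalar multiples
  have hne : (T.E i e e * y) * (T.E i e e * y) = 0 := by
    rw [mul_assoc, ← mul_assoc y, hy, mul_assoc, ← mul_assoc, T.n_mul_self, zero_mul]
  have hyZ : y ∈ Zs T H i e := ⟨hy, scal_mem G h2 he hy hin⟩
  obtain ⟨s, hs, hsi, ⟨l₀, hl₀⟩, hmem⟩ := descend G h2 hyZ (by
    rintro ⟨c, rfl⟩
    exact hno c (by rw [mul_smul_comm, mul_one]))
  obtain ⟨f₀, hef⟩ := T.exists_partner he
  set C := Finset.univ.filter fun l => s l ≠ .one with hCdef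
  have hC : ∀ l, l ∈ C ↔ s l ≠ .one := fun l => by simp [hCdef]
  have hiC : i ∉ C := fun h => (hC i).1 h hsi
  have hfull : T.tens (pv T (Function.update s i (.nn e f₀))) = T.E i e e * T.tens (pv T s) := by
    rw [pv_update, Sys.tens_update, ← pv_one (T := T) hsi, Function.update_eq_self]
    rfl
  set s₁ := Function.update s i (.nn e f₀) with hs₁
  have hs₁ok : ∀ l, Sl.Ok T (s₁ l) := fun l => by
    rcases eq_or_ne l i with rfl | h
    · simpa [hs₁, Sl.Ok] using hef
    · simpa [hs₁, h] using hs l
  have hs₁mem : InL F H (T.tens (pv T s₁)) := by rw [hfull]; exact hmem.2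
  -- first all slots are root elements
  have first : ∃ (K : Finset ι) (s' : ι → Sl A), Odd K.card ∧ 3 ≤ K.card ∧ AllN T H s' K := by
    have hC0 : C.Nonempty := ⟨l₀, (hC l₀).2 hl₀⟩
    by_cases hpar : Even C.card
    · have hcard : Odd (insert i C).card := by
        rw [Finset.card_insert_of_notMem hiC]; exact hpar.add_one
      have h3 : 3 ≤ (insert i C).card := by
        rw [Finset.card_insert_of_notMem hiC]
        have := hC0.card_pos
        obtain ⟨k, hk⟩ := hpar
        omega
      by_cases hx : ∃ r a v b u, s r = .xx a v b u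
      · obtain ⟨r, a, v, b, u, hr⟩ := hx
        obtain ⟨s', hs'⟩ := jordan_step G h2 he hs hsi hr C hC hpar hmem
        exact ⟨_, s', hcard, h3, hs'⟩
      · refine ⟨_, s₁, hcard, h3, hs₁ok, fun l hl => ?_, fun l hl => ?_, hs₁mem⟩
        · rw [Finset.mem_insert, not_or] at hl
          simpa [hs₁, hl.1] using not_not.1 fun h => hl.2 ((hC l).2 h)
        · rcases eq_or_ne l i with rfl | hli
          · exact ⟨e, f₀, by simp [hs₁]⟩
          · rcases hsl : s l with _ | ⟨a', b'⟩ | ⟨a', v', b', u'⟩
            · exact absurd hsl ((hC l).1 ((Finset.mem_insert.1 hl).resolve_left hli))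
            · exact ⟨a', b', by simp [hs₁, hli, hsl]⟩
            · exact absurd ⟨l, a', v', b', u', hsl⟩ hx
    · obtain ⟨j, hj⟩ : ∃ j, j ∉ insert i C := by
        by_contra h
        simp only [not_exists, not_not] at h
        have e1 : (insert i C).card = Fintype.card ι := by
          rw [Finset.eq_univ_of_forall h, Finset.card_univ]
        rw [Finset.card_insert_of_notMem hiC] at e1
        rw [← e1, Nat.odd_add_one, Nat.not_odd_iff_even] at hodd
        exact hpar hodd
      rw [Finset.mem_insert, not_or] at hj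
      have hsj : s₁ j = .one := by simpa [hs₁, hj.1] using not_not.1 fun h => hj.2 ((hC j).2 h)
      obtain ⟨g, hg, hgE⟩ := P i j
      have hother : ∀ l, l ≠ i → l ∉ C → s₁ l = .one := fun l hl hlC => by
        simpa [hs₁, hl] using not_not.1 fun h => hlC ((hC l).2 h)
      have hswap : ∀ l, l ≠ i → l ≠ j → Equiv.swap i j l = l := fun l h h' => Equiv.swap_apply_of_ne_of_ne h h'
      have hcard : (insert j (insert i C)).card = C.card + 2 := by
        rw [Finset.card_insert_of_notMem (by simp [hj.1, hj.2]), Finset.card_insert_of_notMem hiC]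
      refine ⟨insert j (insert i C), ?_⟩
      obtain ⟨s', hs'⟩ := grow G h2 hs₁ok hs₁mem hg (σ := Equiv.swap i j) hgE C (Nat.not_even_iff_odd.1 hpar)
        (fun l hl => by
          have hli : l ≠ i := fun h => hiC (h ▸ hl)
          have hlj : l ≠ j := fun h => hj.2 (h ▸ hl)
          exact ⟨by simpa [hs₁, hli] using (hC l).1 hl, by simp [hswap l hli hlj]⟩)
        (fun l hlC => by
          rcases eq_or_ne l i with rfl | hli
          · right; simpa using hsj
          · left; exact hother l hli hlC)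
        (fun l hlC h => by
          rcases eq_or_ne l i with rfl | hli
          · exact ⟨e, f₀, by simp [hs₁]⟩
          · exact absurd (hother l hli hlC) h)
        (fun l hlC h => by
          rcases eq_or_ne l j with rfl | hlj
          · exact ⟨e, f₀, by simp [hs₁]⟩
          rcases eq_or_ne l i with rfl | hli
          · exact absurd (by simpa using hsj) h
          · rw [Equiv.symm_swap, hswap l hli hlj] at h
            exact absurd (hother l hli hlC) h)
        (i := i) (j := j) hiC (by simp [hs₁]) hj.2 (by simp [hs₁]) (insert j (insert i C)) (fun l => by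
          rcases eq_or_ne l j with rfl | hlj
          · simp [hs₁]
          rcases eq_or_ne l i with rfl | hli
          · simp [hs₁]
          rw [Equiv.symm_swap, hswap l hli hlj]
          simp [hs₁, hlj, hli, hC])
      refine ⟨s', ?_, ?_, hs'⟩
      · rw [hcard]; exact (Nat.not_even_iff_odd.1 hpar).add_even even_two
      · have := hC0.card_pos; omega
  -- then two more at a time
  have step : ∀ n, ∀ (K : Finset ι) (s : ι → Sl A), Fintype.card ι - K.card = n → Odd K.card → 3 ≤ K.card →
      AllN T H s K → ∃ s', AllN T H s' Finset.univ := by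
    intro n
    induction n using Nat.strong_induction_on with
    | _ n ih =>
      intro K s hn hKo hK3 hs
      by_cases hK : K = Finset.univ
      · exact ⟨s, hK ▸ hs⟩
      have hle : K.card ≤ Fintype.card ι := Finset.card_le_univ K
      have hne' : K.card ≠ Fintype.card ι := fun h => hK (Finset.card_eq_iff_eq_univ K |>.1 h)
      obtain ⟨k₁, hk₁⟩ := hKo
      obtain ⟨k₂, hk₂⟩ := hodd
      have hcompl : 1 < Kᶜ.card := by rw [Finset.card_compl]; omega
      obtain ⟨j, hj, j', hj', hjj⟩ := Finset.one_lt_card.1 hcompl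
      rw [Finset.mem_compl] at hj hj'
      obtain ⟨i, hi, i', hi', hii⟩ := Finset.one_lt_card.1 (show 1 < K.card by omega)
      obtain ⟨g, hg, hgE⟩ := P i j
      obtain ⟨g', hg', hgE'⟩ := P i' j'
      obtain ⟨hok, hout, hin', hmem⟩ := hs
      set σ : Equiv.Perm ι := Equiv.swap i' j' * Equiv.swap i j with hσ
      have hE : ∀ l u v, ((g' * g : Rˣ) : R) * T.E l u v * (↑(g' * g)⁻¹ : R) = T.E (σ l) u v := fun l u v => by
        rw [hσ, Equiv.Perm.mul_apply, ← hgE', ← hgE]
        simp [mul_assoc]
      have hσs : ∀ l, σ.symm l = Equiv.swap i j (Equiv.swap i' j' l) := fun l => by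
        rw [hσ, Equiv.symm_apply_eq, Equiv.Perm.mul_apply, Equiv.swap_apply_self, Equiv.swap_apply_self]
      have hne1 : i ≠ j' ∧ i' ≠ j ∧ i ≠ j ∧ i' ≠ j' :=
        ⟨fun h => hj' (h ▸ hi), fun h => hj (h ▸ hi'), fun h => hj (h ▸ hi), fun h => hj' (h ▸ hi')⟩
      have s1 : σ.symm i = j := by
        rw [hσs, Equiv.swap_apply_of_ne_of_ne hii hne1.1, Equiv.swap_apply_left]
      have s2 : σ.symm i' = j' := by
        rw [hσs, Equiv.swap_apply_left, Equiv.swap_apply_of_ne_of_ne hne1.1.symm (Ne.symm hjj)]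
      have s3 : σ.symm j = i := by
        rw [hσs, Equiv.swap_apply_of_ne_of_ne hne1.2.1.symm hjj, Equiv.swap_apply_right]
      have s4 : σ.symm j' = i' := by
        rw [hσs, Equiv.swap_apply_right, Equiv.swap_apply_of_ne_of_ne (Ne.symm hii) hne1.2.1]
      have s5 : ∀ l, l ≠ i → l ≠ i' → l ≠ j → l ≠ j' → σ.symm l = l := fun l a b c d => by
        rw [hσs, Equiv.swap_apply_of_ne_of_ne b d, Equiv.swap_apply_of_ne_of_ne a c]
      have hnn : ∀ l ∈ K, s l ≠ .one := fun l hl => by
        obtain ⟨a, b, h⟩ := hin' l hl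
        simp [h]
      set C := (K.erase i).erase i' with hCd
      have hC' : ∀ l, l ∈ C ↔ l ∈ K ∧ l ≠ i ∧ l ≠ i' := fun l => by simp [hCd]; tauto
      set K' := insert j (insert j' K) with hK'
      have hK'c : K'.card = K.card + 2 := by
        rw [hK', Finset.card_insert_of_notMem (by simp [hj, hjj]), Finset.card_insert_of_notMem hj']
      have hCc : C.card + 2 = K.card := by
        rw [hCd, Finset.card_erase_of_mem (Finset.mem_erase.2 ⟨Ne.symm hii, hi'⟩), Finset.card_erase_of_mem hi]
        omega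
      obtain ⟨s', hs'⟩ := grow G h2 hok hmem (mul_mem hg' hg) hE C (by rw [Nat.odd_iff]; omega)
        (fun l hl => by
          obtain ⟨h0, h1, h1'⟩ := (hC' l).1 hl
          exact ⟨hnn l h0, s5 l h1 h1' (fun h => hj (h ▸ h0)) (fun h => hj' (h ▸ h0))⟩)
        (fun l hlC => by
          rcases eq_or_ne l i with rfl | h
          · right; rw [s1]; exact hout _ hj
          rcases eq_or_ne l i' with rfl | h'
          · right; rw [s2]; exact hout _ hj'
          left; exact hout _ fun hlK => hlC ((hC' l).2 ⟨hlK, h, h'⟩))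
        (fun l _ hl => hin' l (not_not.1 fun h => hl (hout l h)))
        (fun l _ hl => hin' _ (not_not.1 fun h => hl (hout _ h)))
        (i := i) (j := j) (fun h => ((hC' i).1 h).2.1 rfl) (hnn i hi) (fun h => hj ((hC' j).1 h).1)
        (by rw [s3]; exact hnn i hi) K' (fun l => by
          rw [hK', Finset.mem_insert, Finset.mem_insert]
          rcases eq_or_ne l j with rfl | c
          · simp [s3, hnn i hi]
          rcases eq_or_ne l j' with rfl | d
          · simp [s4, hnn i' hi']
          simp only [c, d, false_or]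
          constructor
          · exact fun h => Or.inl (hnn l h)
          · intro h
            by_contra hlK
            have a : l ≠ i := fun h => hlK (h ▸ hi)
            have b : l ≠ i' := fun h => hlK (h ▸ hi')
            rw [s5 l a b c d, or_self] at h
            exact h (hout l hlK))
      exact ih (Fintype.card ι - K'.card) (by omega) K' s' rfl (by rw [hK'c]; exact ⟨k₁ + 1, by omega⟩) (by omega) hs'
  obtain ⟨K, s', hKo, hK3, hs'⟩ := first
  exact step _ K s' rfl hKo hK3 hs'

end CfsgLib.MaxSub.SpPow
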