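import Cfsg.Agent.Lib.MaxSub.SpPow.Commute

/-!
The group of two square-zero operators with non-nilpotent `C` has an involution `1 - 2f`, `f` an idempotent of
`C F[C] C`; commuting with a root element of a factor it is `-1` on one plane of the factor.
-/

set_option autoImplicit false
set_option linter.unusedSectionVars false

namespace CfsgLib.MaxSub.SpPow

open CfsgLib.Geom CfsgLib.Chev
open Matrix (SpecialLinearGroup)

/-- two opposite transvections generate a group of even order -/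
theorem even_card_of_transvections {K : Type*} [Field K] [Fintype K] (h2 : (2 : K) ≠ 0)
    (Γ : Subgroup (SpecialLinearGroup (Fin 2) K)) {mu : K} (hmu : mu ≠ 0) (hL : slL 1 ∈ Γ) (hUp : slU mu ∈ Γ) :
    2 ∣ Nat.card Γ := by
  classical
  obtain ⟨p, hp⟩ := CharP.exists K
  obtain ⟨n, hprime, hq⟩ := FiniteField.card K p
  have := Fact.mk hprime
  have hp2 : p ≠ 2 := fun e => h2 (by
    subst e
    exact_mod_cast CharP.cast_eq_zero K 2)
  set Ex := FiniteField.Extension K p 2
  set f := algebraMap K Ex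
  have : CharP Ex p := charP_of_injective_ringHom f.injective p
  let _ : Fintype (Moebius.Line Ex) := Fintype.ofFinite _
  let pr : SpecialLinearGroup (Fin 2) K →* Matrix.ProjectiveSpecialLinearGroup (Fin 2) K :=
    QuotientGroup.mk' (Subgroup.center _)
  set G := (Γ.map pr).map (Moebius.pslExt f)
  have : Finite G := Finite.of_equiv _ ((Γ.map pr).equivMapOfInjective _ (Moebius.pslExt_injective f)).toEquiv
  have hfix : ∀ g ∈ G, ∃ P : Moebius.Line Ex, g • P = P := by
    rintro _ ⟨x, -, rfl⟩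
    exact Moebius.exists_fixed f (Moebius.quadClosed_extension p) _
  have eup : ∀ c, Moebius.pslExt f (pr (slU c)) = Moebius.aff 1 (f c) := fun c => by
    show Moebius.extHom f (Matrix.ProjGenLinGroup.mk (SpecialLinearGroup.toGL (slU c))) = _
    rw [show slU c = SpecialLinearGroup.transvection (show (0 : Fin 2) ≠ 1 by decide) c from Subtype.ext (by
      ext i j
      fin_cases i <;> fin_cases j <;> simp [slU, SpecialLinearGroup.transvection, Matrix.transvection]),
      Moebius.mk_transvection_zero_one, Moebius.extHom_aff, map_one]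
  have elo : ∀ c, Moebius.pslExt f (pr (slL c)) = Moebius.low (f c) := fun c => by
    show Moebius.extHom f (Matrix.ProjGenLinGroup.mk (SpecialLinearGroup.toGL (slL c))) = _
    rw [show slL c = SpecialLinearGroup.transvection (show (1 : Fin 2) ≠ 0 by decide) c from Subtype.ext (by
      ext i j
      fin_cases i <;> fin_cases j <;> simp [slL, SpecialLinearGroup.transvection, Matrix.transvection]),
      Moebius.mk_transvection_one_zero, Moebius.extHom_low]
  have hgt : Moebius.aff 1 (f mu) ∈ G := ⟨_, ⟨_, hUp, rfl⟩, eup mu⟩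
  have hg1 : Moebius.low (1 : Ex) ∈ G := ⟨_, ⟨_, hL, rfl⟩, by rw [elo, map_one]⟩
  rcases Moebius.two_para_cases G p hp2 hfix ((map_ne_zero f).2 hmu) hgt hg1 with
    ⟨u, k, d, h0, h1⟩ | ⟨h60, -, -⟩
  · obtain ⟨F, hF, -, -, hlow⟩ := Moebius.exists_subfield (G := G) p d h0 h1
    have hU1 : slU (1 : K) ∈ Γ := by
      obtain ⟨_, ⟨z, hz, rfl⟩, hx'⟩ : Moebius.aff 1 (f 1) ∈ G :=
        (hF _).1 (by rw [map_one]; exact F.one_mem)
      rw [← eup 1] at hx'
      exact mem_of_neg_mem h2 Γ p (hprime.odd_of_ne_two hp2) (slU_pow_char p _) hz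
        (QuotientGroup.eq.1 (Moebius.pslExt_injective f hx'))
    have hL1 : slL (-1 : K) ∈ Γ := by
      obtain ⟨_, ⟨z, hz, rfl⟩, hx'⟩ : Moebius.low (f (-1)) ∈ G :=
        hlow _ (by rw [map_neg, map_one]; exact F.neg_mem F.one_mem)
      rw [← elo (-1)] at hx'
      exact mem_of_neg_mem h2 Γ p (hprime.odd_of_ne_two hp2) (slL_pow_char p _) hz
        (QuotientGroup.eq.1 (Moebius.pslExt_injective f hx'))
    obtain ⟨w, hw⟩ : ∃ w : SpecialLinearGroup (Fin 2) K, w = slU 1 * slL (-1) * slU 1 := ⟨_, rfl⟩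
    have hwv : (w : Matrix (Fin 2) (Fin 2) K) = !![0, 1; -1, 0] := by
      rw [hw, Matrix.SpecialLinearGroup.coe_mul, Matrix.SpecialLinearGroup.coe_mul]
      simp [slU, slL, Matrix.mul_fin_two]
    have hw2 : w * w = -1 := Subtype.ext (by
      rw [Matrix.SpecialLinearGroup.coe_mul, hwv, Matrix.SpecialLinearGroup.coe_neg,
        Matrix.SpecialLinearGroup.coe_one, Matrix.mul_fin_two, Matrix.one_fin_two]
      ext i j
      fin_cases i <;> fin_cases j <;> simp)
    have hm : (-1 : SpecialLinearGroup (Fin 2) K) ∈ Γ :=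
      hw2 ▸ mul_mem (hw ▸ mul_mem (mul_mem hU1 hL1) hU1) (hw ▸ mul_mem (mul_mem hU1 hL1) hU1)
    have hord : orderOf (⟨-1, hm⟩ : Γ) = 2 := by
      refine orderOf_eq_prime (Subtype.ext (by simp)) fun h => h2 ?_
      have h' := congrArg (fun x : Γ => (x.1 : Matrix (Fin 2) (Fin 2) K) 0 0) h
      simp at h'
      linear_combination -h'
    exact hord.symm.dvd.trans (orderOf_dvd_natCard _)
  · refine ((show 2 ∣ 60 by norm_num).trans ?_)
    rw [← h60]
    exact ((Γ.map pr).card_map_dvd _).trans (Γ.card_map_dvd pr)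

variable {F R : Type*} [Field F] [Ring R] [Algebra F R]

/-- an involution of the group of two operators -/
theorem Quad.exists_involution (Q : Quad F R) [Finite R] [Nontrivial R] [Fintype F] (p : ℕ) [Fact p.Prime]
    [CharP F p] (hp : p ≠ 2) (hC : ¬ IsNilpotent Q.C) :
    ∃ g ∈ Q.grp, ∃ f s : R, s ∈ Q.K ∧ f = Q.C * s * Q.C ∧ f ∈ Q.K ∧ f * f = f ∧ f ≠ 0 ∧ (g : R) = 1 - (f + f) := by
  classical
  haveI : Finite Rˣ := Finite.of_injective _ Units.val_injective
  haveI : Finite Q.K := Subtype.finite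
  have h2 : (2 : F) ≠ 0 := Ring.two_ne_zero (by rwa [ringChar.eq F p])
  obtain ⟨U, N, hN, hN0⟩ := Q.exists_unit
  have he0 : ¬ IsNilpotent (U.e * (1 : Q.K)) := by
    rintro ⟨m, hm⟩
    refine hC ⟨N * (m + 1), ?_⟩
    have h := congrArg Subtype.val hm
    rw [mul_one, SubmonoidClass.coe_pow, hN, ← pow_mul, ZeroMemClass.coe_zero] at h
    rw [Nat.mul_succ, pow_add, h, zero_mul]
  obtain ⟨m, hm, hme, -⟩ := U.exists_residue he0
  letI := Ideal.Quotient.field m
  haveI : Finite (Q.K ⧸ m) := Finite.of_surjective _ Ideal.Quotient.mk_surjective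
  letI : Fintype (Q.K ⧸ m) := Fintype.ofFinite _
  set φ := Ideal.Quotient.mk m with hφ
  have hc : φ ⟨Q.C, Q.C_mem⟩ ≠ 0 := fun h0 => one_ne_zero (α := Q.K ⧸ m) (by
    rw [← hme, show U.e = U.c' * ⟨Q.C, Q.C_mem⟩ from Subtype.ext U.hc.symm, map_mul, h0, mul_zero])
  have h2κ : (2 : Q.K ⧸ m) ≠ 0 := by
    rw [← map_ofNat (φ.comp (algebraMap F Q.K)) 2]
    exact (map_ne_zero _).2 h2
  -- even order
  set w : Matrix.SpecialLinearGroup (Fin 2) (Q.K ⧸ m) := ⟨!![0, 1; -1, 0], by simp [Matrix.det_fin_two]⟩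
  have wU : ∀ x, w * slU x = slL (-x) * w := fun x => Subtype.ext (by
    rw [Matrix.SpecialLinearGroup.coe_mul, Matrix.SpecialLinearGroup.coe_mul]
    ext i j
    fin_cases i <;> fin_cases j <;> simp [w, slU, slL, Matrix.mul_apply, Fin.sum_univ_two])
  have wL : ∀ x, w * slL x = slU (-x) * w := fun x => Subtype.ext (by
    rw [Matrix.SpecialLinearGroup.coe_mul, Matrix.SpecialLinearGroup.coe_mul]
    ext i j
    fin_cases i <;> fin_cases j <;> simp [w, slU, slL, Matrix.mul_apply, Fin.sum_univ_two])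
  set Γ := (U.chi φ hme).range.map (MulAut.conj w).toMonoidHom with hΓ
  have memΓ : ∀ y z, y ∈ (U.chi φ hme).range → w * y = z * w → z ∈ Γ := by
    intro y z hy h
    refine ⟨y, hy, ?_⟩
    show w * y * w⁻¹ = z
    rw [h, mul_inv_cancel_right]
  have hev : 2 ∣ Nat.card Γ := by
    obtain ⟨gn, hgn, hgnc⟩ := Q.mem_gens_n (-1)
    obtain ⟨gd, hgd, hgdc⟩ := Q.mem_gens_d 1
    refine even_card_of_transvections h2κ Γ (neg_ne_zero.2 hc) ?_ ?_
    · refine memΓ _ _ ⟨⟨gn, Subgroup.subset_closure hgn⟩, U.chi_n φ hme _ _ hgnc⟩ ?_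
      rw [wU]
      congr 2
      simp
    · refine memΓ _ _ ⟨⟨gd, Subgroup.subset_closure hgd⟩, U.chi_d φ hme _ _ hgdc⟩ ?_
      rw [wL]
      congr 2
      simp
  have hev' : 2 ∣ Nat.card Q.grp := hev.trans
    ((Subgroup.card_map_dvd _ _).trans (Subgroup.card_range_dvd _))
  haveI : Fact (Nat.Prime 2) := ⟨Nat.prime_two⟩
  obtain ⟨⟨g, hg⟩, hg2⟩ := exists_prime_orderOf_dvd_card' 2 hev'
  have hg1 : g ≠ 1 := by
    rintro rfl
    rw [show (⟨1, hg⟩ : Q.grp) = 1 from rfl, orderOf_one] at hg2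
    omega
  have hgg : (g : R) * g = 1 := by
    have h := pow_orderOf_eq_one (⟨g, hg⟩ : Q.grp)
    rw [hg2, pow_two] at h
    exact congrArg (fun x : Q.grp => ((x : Rˣ) : R)) h
  -- on `e` it is a scalar
  obtain ⟨X, hX⟩ := U.exists_rep hg
  obtain ⟨X', hX', hXX⟩ := U.rep_mul hg hX
  rw [hgg] at hXX
  have h1 : U.Rep 1 1 := by simp [Unit.Rep, U.psi_one]
  have eq : ∀ i j, (X * X').1 i j * U.e = (1 : Matrix.SpecialLinearGroup (Fin 2) Q.K).1 i j * U.e := fun i j =>
    Subtype.ext (U.rep_unique hXX h1 i j)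
  have eq' : ∀ i j, X'.1 i j * U.e = X.1 i j * U.e := fun i j => Subtype.ext (U.rep_unique hX' hX i j)
  obtain ⟨a, ha⟩ : ∃ a, a = U.e * X.1 0 0 := ⟨_, rfl⟩
  obtain ⟨b, hb⟩ : ∃ b, b = U.e * X.1 0 1 := ⟨_, rfl⟩
  obtain ⟨c, hcd⟩ : ∃ c, c = U.e * X.1 1 0 := ⟨_, rfl⟩
  obtain ⟨d, hd⟩ : ∃ d, d = U.e * X.1 1 1 := ⟨_, rfl⟩
  have he := U.he
  have hdet : a * d - b * c = U.e := by
    have h := X.2
    rw [Matrix.det_fin_two] at h
    rw [ha, hb, hcd, hd]
    linear_combination (U.e * U.e) * h + he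
  have e00 : a * a + b * c = U.e := by
    have h := eq 0 0
    simp only [Matrix.SpecialLinearGroup.coe_mul, Matrix.mul_apply, Fin.sum_univ_two,
      Matrix.SpecialLinearGroup.coe_one, Matrix.one_apply_eq, one_mul] at h
    rw [ha, hb, hcd]
    linear_combination U.e * h - (U.e * X.1 0 0) * eq' 0 0 - (U.e * X.1 0 1) * eq' 1 0 + he
  have e01 : a * b + b * d = 0 := by
    have h := eq 0 1
    simp only [Matrix.SpecialLinearGroup.coe_mul, Matrix.mul_apply, Fin.sum_univ_two,
      Matrix.SpecialLinearGroup.coe_one, Matrix.one_apply_ne (show (0 : Fin 2) ≠ 1 by decide), zero_mul] at h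
    rw [ha, hb, hd]
    linear_combination U.e * h - (U.e * X.1 0 0) * eq' 0 1 - (U.e * X.1 0 1) * eq' 1 1
  have e10 : c * a + d * c = 0 := by
    have h := eq 1 0
    simp only [Matrix.SpecialLinearGroup.coe_mul, Matrix.mul_apply, Fin.sum_univ_two,
      Matrix.SpecialLinearGroup.coe_one, Matrix.one_apply_ne (show (1 : Fin 2) ≠ 0 by decide), zero_mul] at h
    rw [ha, hcd, hd]
    linear_combination U.e * h - (U.e * X.1 1 0) * eq' 0 0 - (U.e * X.1 1 1) * eq' 1 0
  have e11 : c * b + d * d = U.e := by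
    have h := eq 1 1
    simp only [Matrix.SpecialLinearGroup.coe_mul, Matrix.mul_apply, Fin.sum_univ_two,
      Matrix.SpecialLinearGroup.coe_one, Matrix.one_apply_eq, one_mul] at h
    rw [hb, hcd, hd]
    linear_combination U.e * h - (U.e * X.1 1 0) * eq' 0 1 - (U.e * X.1 1 1) * eq' 1 1 + he
  have hea : U.e * a = a := by rw [ha, ← mul_assoc, he]
  have heb : U.e * b = b := by rw [hb, ← mul_assoc, he]
  have hec : U.e * c = c := by rw [hcd, ← mul_assoc, he]
  have hed : U.e * d = d := by rw [hd, ← mul_assoc, he]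
  have two : ∀ x : Q.K, 2 * x = 0 → x = 0 := fun x hx => by
    rw [two_mul, ← two_smul F] at hx
    exact (smul_eq_zero.1 hx).resolve_left h2
  have hb0 : b = 0 := by
    refine two b ?_
    linear_combination a * e01 - b * e00 - b * hdet - 2 * heb
  have hc0 : c = 0 := by
    refine two c ?_
    linear_combination a * e10 - c * e00 - c * hdet - 2 * hec
  rw [hb0, hc0] at e00 hdet
  rw [mul_zero, add_zero] at e00
  rw [mul_zero, sub_zero] at hdet
  have hda : d = a := by linear_combination a * hdet - d * e00 + hea - hed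
  have hga : (U.e : R) * (g : R) = a := by
    rw [← hX]
    have k1 : ∀ t : Q.K, (t : R) * U.c' = ((U.e * t : Q.K) : R) * U.c' := fun t => by
      rw [← MulMemClass.coe_mul, ← MulMemClass.coe_mul,
        show U.e * t * U.c' = t * (U.e * U.c') by ring, U.hc']
    have k2 : ∀ t : Q.K, (t : R) * U.e = ((U.e * t : Q.K) : R) := fun t => by
      rw [← MulMemClass.coe_mul, mul_comm t]
    rw [Unit.psi, ← mul_assoc (X.1 0 0 : R), ← mul_assoc (X.1 0 1 : R), ← mul_assoc (X.1 1 0 : R),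
      ← mul_assoc (X.1 1 1 : R), k1, k2, k1 (X.1 1 0), k1 (X.1 1 1), ← ha, ← hb, ← hcd, ← hd, hb0, hc0, hda,
      ZeroMemClass.coe_zero, zero_mul, zero_mul, zero_mul, add_zero, add_zero, mul_assoc, mul_assoc, ← mul_add,
      U.e_eq, ← MulMemClass.coe_mul, mul_comm, hea]
  -- off `e` it is trivial
  have hout : (1 - (U.e : R)) * (g : R) = 1 - (U.e : R) := by
    have hee : (1 - (U.e : R)) * (1 - (U.e : R)) = 1 - (U.e : R) := by
      rw [mul_sub, sub_mul, sub_mul, one_mul, mul_one, one_mul, U.e_e, sub_self, sub_zero]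
    obtain ⟨M, hM⟩ := Quad.pow_eq p (sub_mem (one_mem Q.K) U.e.2) hee (N := N) (by
      rw [← hN, sub_mul, one_mul, U.e_e, sub_self]) hg
    obtain ⟨j, hj⟩ : Odd (p ^ M) := ((Fact.out : p.Prime).odd_of_ne_two hp).pow
    rwa [hj, pow_add, pow_mul, pow_one, pow_two, hgg, one_pow, one_mul] at hM
  have hg_eq : (g : R) = 1 - (U.e : R) + a := by
    rw [← hout, ← hga, ← add_mul, sub_add_cancel, one_mul]
  obtain ⟨f, hf⟩ : ∃ f : Q.K, f = (2 : F)⁻¹ • (U.e - a) := ⟨_, rfl⟩
  have hff2 : f + f = U.e - a := by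
    rw [← two_smul F f, hf, smul_inv_smul₀ h2]
  have hef : U.e * f = f := by rw [hf, mul_smul_comm, mul_sub, he, hea]
  have hidem : f * f = f := by
    refine sub_eq_zero.1 (two _ (two _ ?_))
    linear_combination (f + f + U.e - a) * hff2 - 2 * hff2 + he + e00 - 2 * hea
  have hgf : (g : R) = 1 - ((f : R) + f) := by
    rw [hg_eq, ← Subalgebra.coe_add, hff2, Subalgebra.coe_sub]
    abel
  obtain ⟨M, rfl⟩ := Nat.exists_eq_succ_of_ne_zero hN0.ne'
  refine ⟨g, hg, f, Q.C ^ M * f * Q.C ^ M, mul_mem (mul_mem (pow_mem Q.C_mem M) f.2) (pow_mem Q.C_mem M), ?_, f.2,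
    congrArg Subtype.val hidem, fun h0 => hg1 (Units.ext ?_), hgf⟩
  · have h : ((U.e * f * U.e : Q.K) : R) = f := by rw [mul_comm (U.e * f), hef, hef]
    conv_lhs => rw [← h]
    rw [MulMemClass.coe_mul, MulMemClass.coe_mul, hN]
    simp only [mul_assoc]
    rw [← pow_succ, pow_succ' Q.C M, mul_assoc]
  · rw [hgf, h0, add_zero, sub_zero, Units.val_one]

variable {A ι κ : Type*} [AddCommGroup A] [Module F A] [Fintype κ] {T : Sys F A R ι κ} {H : Subgroup Rˣ}
variable {i : ι} {e f₀ : A}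

/-- operators `C s C` vanish on the complement of the plane -/
theorem Sys.rI_kill (hef : T.f e f₀ = 1) {a : F} {d s : R} (hs : (a • T.E i e e) * s = s * (a • T.E i e e)) :
    T.rI i e f₀ * ((a • T.E i e e * d + d * (a • T.E i e e)) * s * (a • T.E i e e * d + d * (a • T.E i e e))) *
      T.rI i e f₀ = 0 := by
  obtain ⟨n, hn⟩ : ∃ n, n = a • T.E i e e := ⟨_, rfl⟩
  rw [← hn] at hs ⊢
  have h1 : T.rI i e f₀ * n = 0 := by rw [hn, mul_smul_comm, T.rI_mul_n hef, smul_zero]
  have h2 : n * T.rI i e f₀ = 0 := by rw [hn, smul_mul_assoc, T.n_mul_rI hef, smul_zero]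
  have h3 : n * n = 0 := by rw [hn, smul_mul_smul, T.n_mul_self, smul_zero]
  have eL : T.rI i e f₀ * (n * d + d * n) = T.rI i e f₀ * d * n := by
    rw [mul_add, ← mul_assoc, h1, zero_mul, zero_add, ← mul_assoc]
  have eR : (n * d + d * n) * T.rI i e f₀ = n * (d * T.rI i e f₀) := by
    rw [add_mul, mul_assoc d, h2, mul_zero, add_zero, mul_assoc]
  rw [← mul_assoc, ← mul_assoc, eL, mul_assoc, eR, mul_assoc _ n s, hs, mul_assoc, mul_assoc s, ← mul_assoc n, h3,
    zero_mul, mul_zero, mul_zero]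

/-- an involution commuting with a root element, trivial off its plane, is `-1` on a plane of the factor -/
theorem Grp.involution_plane [Fintype ι] [DecidableEq ι] [Nontrivial R] (G : Grp T H) (Z : Ctr T H)
    (h2 : (2 : F) ≠ 0) (hw4 : T.Wide) (hef : T.f e f₀ = 1) {g : Rˣ} (hg : g ∈ H)
    (hgn : T.E i e e * (g : R) = (g : R) * T.E i e e) {f : R} (hgf : (g : R) = 1 - (f + f)) (hff : f * f = f)
    (hf0 : f ≠ 0) (hmid : T.rI i e f₀ * f * T.rI i e f₀ = 0) :
    f * T.E i e e = T.E i e e ∧ ∃ w, w ≠ 0 ∧ f * T.E i w w = 0 ∧ T.E i w w * f = 0 := by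
  have he : e ≠ 0 := by rintro rfl; simp at hef
  have hgg : (g : R) * g = 1 := by
    rw [hgf]
    simp only [sub_mul, mul_sub, add_mul, mul_add, one_mul, mul_one, hff]
    abel
  have hgi : (↑g⁻¹ : R) = g := Units.inv_eq_of_mul_eq_one_right hgg
  have hadg : T.ad (g : R) = g := by rw [← G.inv_eq hg, hgi]
  have hmg : T.rI i e f₀ * (g : R) * T.rI i e f₀ = T.rI i e f₀ := by
    rw [hgf, mul_sub, sub_mul, mul_one, T.rI_mul_self hef, mul_add, add_mul, hmid, add_zero, sub_zero]
  -- the block on `f₀`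
  obtain ⟨v, hv, hve, hvf⟩ := hw4 e f₀ hef
  obtain ⟨β, hβd⟩ : ∃ β, β = -T.blk i e f₀ (g : R) := ⟨_, rfl⟩
  have hqq : T.qI i e f₀ * (g : R) * T.qI i e f₀ = T.qI i e f₀ * β := by
    have h := T.E_blk i f₀ e e f₀ (g : R)
    rw [hβd, Sys.qI, neg_mul, neg_mul_neg, ← h, neg_mul_neg]
  obtain ⟨s, hs⟩ : ∃ s : F, β = s • (1 : R) := by
    obtain ⟨v', c, hv'e, hv'f, hgv⟩ := G.conj_yv Z h2 hef hg hgn hve hvf
    rw [hgi] at hgv
    have hy := T.upper_yv (i := i) hef hve hvf
    have hy1 : ∀ u, T.f u f₀ = 0 → T.yv i e u * T.qI i e f₀ = T.E i u e := fun u huf => by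
      rw [Sys.yv, add_mul, T.E_qI, T.E_qI, T.swap e f₀, hef, T.swap u f₀, huf]
      simp
    have hy2 : T.rI i e f₀ * T.yv i e v' = T.E i v' e := by
      rw [Sys.yv, mul_add, T.rI_E, T.rI_E, T.proj_self_e hef, map_zero, LinearMap.zero_apply, zero_add,
        T.proj_of_perp hv'e hv'f]
    have hq' : ∀ u, T.E i u e * T.qI i e f₀ = T.E i u e := fun u => by
      rw [T.E_qI, T.swap e f₀, hef, neg_smul, one_smul, neg_neg]
    have h := congrArg (fun t => T.rI i e f₀ * t * T.qI i e f₀) hgv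
    simp only [mul_add, add_mul, mul_smul_comm, smul_mul_assoc, T.rI_mul_n hef, zero_mul, smul_zero, add_zero,
      hy2, hq'] at h
    have k1 : T.rI i e f₀ * (g : R) * T.yv i e v * T.rI i e f₀ = 0 := by
      rw [T.insert_one (T.rI i e f₀ * (g : R)) (T.yv i e v) (T.rI i e f₀), Sys.rI_mul_pI' hef hgn,
        show T.rI i e f₀ * (g : R) * T.qI i e f₀ * T.yv i e v = 0 by rw [mul_assoc, hy.left, mul_zero], hmg, hy.mid]
      simp
    have k2 : T.rI i e f₀ * (g : R) * T.yv i e v * T.qI i e f₀ = T.E i v e := by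
      have hr : T.rI i e f₀ * T.E i v e = T.E i v e := by rw [T.rI_E, T.proj_of_perp hve hvf]
      rw [mul_assoc, hy1 v hvf]
      conv_lhs => rw [← hr]
      rw [← mul_assoc, hmg, hr]
    have k3 : T.E i v e * β = T.E i v' e := by
      rw [← h, show T.rI i e f₀ * ((g : R) * T.yv i e v * (g : R)) * T.qI i e f₀ =
        T.rI i e f₀ * (g : R) * T.yv i e v * (g : R) * T.qI i e f₀ by simp only [mul_assoc],
        T.insert_one (T.rI i e f₀ * (g : R) * T.yv i e v) (g : R) (T.qI i e f₀), k1, k2,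
        mul_assoc _ (T.yv i e v) (T.pI i e f₀), hy.right, mul_zero, zero_mul, zero_mul,
        zero_add, add_zero, mul_assoc]
      conv_lhs => rw [← hq' v, mul_assoc, ← hqq]
      rw [← mul_assoc, ← mul_assoc, hq' v, mul_assoc]
    obtain ⟨u, hu⟩ := T.exists_partner hv
    refine ⟨T.f v' u, ?_⟩
    have hβc : T.Cen i β := hβd ▸ Sys.Cen.neg (T.cen_blk _ _ _ _)
    have h' := congrArg (T.blk i u f₀) k3
    rw [← mul_one (T.E i v' e), T.blk_E_mul hβc, T.blk_E_mul (T.cen_one i), hu, one_mul, T.swap e f₀, hef,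
      neg_smul, one_smul, mul_neg_one, neg_smul, neg_inj] at h'
    exact h'
  rw [hs, mul_smul_comm, mul_one] at hqq
  have hgpI : (g : R) * T.pI i e f₀ = T.pI i e f₀ * (g : R) * T.pI i e f₀ := Sys.mul_pI hef hgn
  have hqg : T.qI i e f₀ * (g : R) = T.qI i e f₀ * (g : R) * T.qI i e f₀ := Sys.qI_mul hef hgn
  have hq0 : T.qI i e f₀ ≠ 0 := by
    rw [Sys.qI, neg_ne_zero]
    exact T.E_ne_zero i (by rintro rfl; simp at hef) he
  have hss : s * s = 1 := by
    have h : T.qI i e f₀ * ((g : R) * g) = (s * s) • T.qI i e f₀ := by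
      rw [← mul_assoc, hqg, hqq, smul_mul_assoc, hqg, hqq, smul_smul]
    rw [hgg, mul_one] at h
    exact smul_left_injective F hq0 (show (s * s) • T.qI i e f₀ = (1 : F) • T.qI i e f₀ by rw [← h, one_smul])
  have hpp : T.pI i e f₀ * (g : R) * T.pI i e f₀ = s • T.pI i e f₀ := by
    have h := congrArg T.ad hqq
    rw [T.ad_mul, T.ad_mul, T.ad_qI, hadg, map_smul, T.ad_qI, ← mul_assoc] at h
    exact h
  rcases mul_self_eq_one_iff.1 hss with rfl | rfl
  · exfalso
    rw [one_smul] at hqq hpp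
    obtain ⟨x, c, hx, -, hu⟩ := G.radical Z h2 hef (z := (g : R) - 1)
      ⟨by rw [sub_mul, one_mul, hgpI, hpp, sub_self], by rw [mul_sub, mul_one, hqg, hqq, sub_self],
        by rw [mul_sub, sub_mul, mul_one, hmg, T.rI_mul_self hef, sub_self]⟩
      ⟨g, hg, by abel⟩
    have h0 : ((g : R) - 1) * ((g : R) - 1) = 0 := by rw [hu, Sys.yv_prod hx hx, T.alt, zero_smul]
    rw [hgf] at h0
    have h4 : (2 * 2 : F) • f = 0 := by
      calc (2 * 2 : F) • f = (1 - (f + f) - 1) * (1 - (f + f) - 1) := by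
            simp only [sub_mul, mul_sub, add_mul, mul_add, one_mul, mul_one, hff, ← smul_smul, two_smul]
            abel
        _ = 0 := h0
    exact hf0 ((smul_eq_zero.1 h4).resolve_left (mul_ne_zero h2 h2))
  · set τ := T.tau i e f₀ (-1) with hτ
    have hm1 : ((-1 : F))⁻¹ = -1 := by norm_num
    have hττ : τ * τ = 1 := by
      have := T.tau_mul (i := i) hef (c := (-1 : F)) (by norm_num)
      rwa [hm1] at this
    have hτe : τ = T.rI i e f₀ - T.pI i e f₀ - T.qI i e f₀ := by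
      rw [hτ, Sys.tau, hm1, neg_smul, neg_smul, one_smul, one_smul]; abel
    have hu : T.Upper i e f₀ (τ * (g : R) - 1) := by
      refine ⟨?_, ?_, ?_⟩
      · rw [sub_mul, one_mul, mul_assoc, hgpI, hpp, neg_smul, one_smul, mul_neg, hτe, sub_mul, sub_mul,
          T.rI_mul_pI hef, T.pI_mul_self hef, T.qI_mul_pI]
        simp
      · rw [mul_sub, mul_one, ← mul_assoc, hτ, T.qI_mul_tau hef, hm1, neg_smul, one_smul, neg_mul, hqg, hqq,
          neg_smul, one_smul, neg_neg, sub_self]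
      · rw [mul_sub, sub_mul, mul_one, ← mul_assoc, hτe, mul_sub, mul_sub, T.rI_mul_self hef, T.rI_mul_pI hef,
          T.rI_mul_qI hef, sub_zero, sub_zero, hmg, sub_self]
    obtain ⟨x, c, hxe, hxf, hx⟩ := G.radical Z h2 hef hu (by
      obtain ⟨t, ht, htv⟩ := G.tau_mem (i := i) hef (c := (-1 : F)) (by norm_num)
      exact ⟨t * g, mul_mem ht hg, by rw [Units.val_mul, htv]; abel⟩)
    have hgz : (g : R) = τ * (1 + (T.yv i e x + c • T.E i e e)) := by
      rw [← hx, add_sub_cancel, ← mul_assoc, hττ, one_mul]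
    have htwo : ∀ y : R, y + y = 0 → y = 0 := fun y hy => by
      rw [← two_smul F] at hy
      exact (smul_eq_zero.1 hy).resolve_left h2
    refine ⟨?_, ?_⟩
    · have h : (g : R) * T.E i e e = -T.E i e e := by
        rw [hgz, mul_assoc, add_mul, one_mul, add_mul, T.yv_mul_n hxe, smul_mul_assoc, T.n_mul_self, smul_zero,
          add_zero, add_zero, hτe, sub_mul, sub_mul, T.rI_mul_n hef, Sys.pI_mul_n hef, T.qI_E, T.alt]
        simp
      rw [hgf, sub_mul, one_mul, add_mul] at h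
      refine sub_eq_zero.1 (htwo _ ?_)
      rw [show f * T.E i e e - T.E i e e + (f * T.E i e e - T.E i e e) =
        -(T.E i e e - (f * T.E i e e + f * T.E i e e)) - T.E i e e by abel, h, neg_neg, sub_self]
    obtain ⟨w, hw, hwe, hwf, hwx⟩ : ∃ w, w ≠ 0 ∧ T.f w e = 0 ∧ T.f w f₀ = 0 ∧ T.f w x = 0 := by
      rcases eq_or_ne x 0 with rfl | hx0
      · exact ⟨v, hv, hve, hvf, map_zero _⟩
      · exact ⟨x, hx0, hxe, hxf, T.alt x⟩
    refine ⟨w, hw, ?_, ?_⟩
    · have h : (g : R) * T.E i w w = T.E i w w := by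
        rw [hgz, mul_assoc, add_mul, one_mul, add_mul, Sys.yv, add_mul, T.mul, T.mul, smul_mul_assoc, T.mul, hwe,
          hwx, zero_smul, zero_smul, smul_zero, add_zero, add_zero, add_zero, hτe, sub_mul, sub_mul,
          T.rI_E, T.proj_of_perp hwe hwf, T.pI_E, hwf, T.qI_E, hwe]
        simp
      rw [hgf, sub_mul, one_mul, add_mul, sub_eq_self] at h
      exact htwo _ h
    · have h : T.E i w w * (g : R) = T.E i w w := by
        have hwτ : T.E i w w * τ = T.E i w w := by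
          rw [hτe, mul_sub, mul_sub, T.E_rI, T.proj_of_perp hwe hwf, T.E_pI, T.perp_left hwe, T.E_qI,
            T.swap w f₀, hwf]
          simp
        rw [hgz, ← mul_assoc, hwτ, mul_add, mul_one, mul_add, Sys.yv, mul_add, T.mul, T.mul, mul_smul_comm, T.mul,
          T.perp_left hwe, T.swap w x, hwx]
        simp
      rw [hgf, mul_sub, mul_one, mul_add, sub_eq_self] at h
      exact htwo _ h

end CfsgLib.MaxSub.SpPow
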