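import Cfsg.Agent.Lib.MaxSub.SpPow.Model

/-!
The stabiliser of a tensor power of a symplectic form is maximal in the symplectic group, more than three elements.
-/

set_option autoImplicit false
set_option linter.unusedSectionVars false

namespace CfsgLib.MaxSub.SpPow

open Cfsg.Geo Matrix
open scoped MatrixGroups

variable {F : Type*} [Field F] [Fintype F] {m k t : ℕ}

theorem Data.dim_pos (D : Data F m k t) (hm : 0 < m) (ht : 0 < t) : 0 < k := by
  by_contra h
  have hk : k = 0 := by omega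
  subst hk
  exact (D.e (Sum.inl ⟨0, hm⟩) ⟨0, ht⟩).elim0

theorem Data.exists_pair (D : Data F m k t) (hk : 0 < k) :
    ∃ e f₀ : Fin k → F, e ≠ 0 ∧ D.sys.f e f₀ = 1 := by
  have he : (Pi.single ⟨0, hk⟩ 1 : Fin k → F) ≠ 0 := fun h => by simpa using congrFun h ⟨0, hk⟩
  obtain ⟨f₀, hf⟩ := D.sys.exists_partner he
  exact ⟨_, f₀, he, hf⟩

theorem Data.base_ne (D : Data F m k t) (h2 : (2 : F) ≠ 0) (hm : 0 < m) (ht : 2 ≤ t) :
    D.base ≠ Cfsg.spGL m F := by
  classical
  haveI : Nonempty (Fin m ⊕ Fin m) := ⟨Sum.inl ⟨0, hm⟩⟩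
  obtain ⟨e, f₀, he, hef⟩ := D.exists_pair (D.dim_pos hm (by omega))
  intro heq
  set v := D.vec fun _ : Fin t => e
  set g := CfsgLib.MaxSub.tvGL v (D.c⁻¹ • (Matrix.J (Fin m) F *ᵥ v)) (CfsgLib.MaxSub.spDual_smul_dot D.c⁻¹ v)
  have hg : g ∈ D.base := by rw [heq]; exact CfsgLib.MaxSub.spTv_mem_spGL v _
  refine not_permutes (T := D.sys) h2 (s := fun _ => Sl.nn e f₀) (fun l => ⟨hef, e, f₀, rfl⟩)
    (i := ⟨0, by omega⟩) (i' := ⟨1, by omega⟩) (by simp [Fin.ext_iff]) ?_ (D.permutes_of_mem hg.1)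
  rw [full_eq (a := fun _ => e) (fun l => ⟨f₀, rfl⟩), D.full_val]
  show CfsgLib.MaxSub.tvMat v _ = _
  rw [CfsgLib.MaxSub.tvMat, Matrix.vecMulVec_smul]

/-- an overgroup is the stabiliser or everything, given purity of all roots when the centres are small -/
theorem Data.maximal_of (D : Data F m k t) (h2 : (2 : F) ≠ 0) (h4 : 4 ≤ Fintype.card F) (hm : 0 < m) (ht : Odd t)
    (ht3 : 2 ≤ t) (hpure : ∀ M : Subgroup (GL (Fin m ⊕ Fin m) F), Grp D.sys M → Perms D.sys M → Ctr D.sys M →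
      ∀ d, IsRoot D.sys M d → IsPure D.sys d) :
    IsMaximalIn (Cfsg.spGL m F) D.base := by
  classical
  haveI : Nonempty (Fin m ⊕ Fin m) := ⟨Sum.inl ⟨0, hm⟩⟩
  have hk := D.dim_pos hm (by omega)
  haveI : NeZero k := ⟨by omega⟩
  refine ⟨lt_of_le_of_ne inf_le_right (D.base_ne h2 hm ht3), fun M hb hM => ?_⟩
  have G := D.grp_of_le hb hM
  have P := D.perms_of_le hb
  obtain ⟨e, f₀, he, hef⟩ := D.exists_pair hk
  by_cases hZ : Ctr D.sys M
  · refine Or.inl (le_antisymm (le_inf ?_ hM) hb)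
    exact D.le_wreath_of_permutes (by omega) fun g hg => Grp.permutes (hpure M G P hZ) he hg
  · refine Or.inr (le_antisymm hM (D.spGL_le h4 fun a ha => ?_))
    obtain ⟨s, hs, -, hnn, hmem⟩ := exists_full G P h2 (by rwa [Fintype.card_fin]) hZ
    choose a₀ b₀ hab using fun l => hnn l (Finset.mem_univ l)
    have hne : ∀ l, a₀ l ≠ 0 := fun l h0 => by
      have h := hs l
      rw [hab l] at h
      simp only [Sl.Ok, h0, map_zero, LinearMap.zero_apply, zero_ne_one] at h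
    rw [full_eq (a := a₀) fun l => ⟨b₀ l, hab l⟩] at hmem
    exact G.full_move hne ha hmem

/-- **maximality**, at least five elements -/
theorem Data.maximal (D : Data F m k t) (hodd : Odd (Fintype.card F)) (h5 : 5 ≤ Fintype.card F) (hm : 0 < m)
    (ht : Odd t) (ht3 : 2 ≤ t) : IsMaximalIn (Cfsg.spGL m F) D.base := by
  classical
  haveI : Nonempty (Fin m ⊕ Fin m) := ⟨Sum.inl ⟨0, hm⟩⟩
  obtain ⟨p, hp⟩ := CharP.exists F
  haveI : Fact p.Prime := ⟨CharP.char_is_prime F p⟩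
  have hp2 : p ≠ 2 := by
    rintro rfl
    have h := FiniteField.even_card_of_char_two (F := F) (ringChar.eq F 2)
    rw [Nat.odd_iff] at hodd
    omega
  have h2 : (2 : F) ≠ 0 := Ring.two_ne_zero (by rwa [ringChar.eq F p])
  obtain ⟨e, f₀, he, hef⟩ := D.exists_pair (D.dim_pos hm (by omega))
  exact D.maximal_of h2 (by omega) hm ht ht3 fun M G _ Z d hd => G.all_pure Z p hp2 h5 he hd

end CfsgLib.MaxSub.SpPow
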