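import Cfsg.Agent.Lib.MaxSub.SpPow.Move
import Cfsg.Agent.Lib.MaxSub.SympFull
import Cfsg.Agent.Lib.Aschbacher.Wreath
import Cfsg.Prelude.Def_GeometricClasses

/-!
The coordinate model of a tensor power of a symplectic form similar to the standard symplectic form.
-/

set_option autoImplicit false
set_option linter.unusedSectionVars false

namespace CfsgLib.MaxSub.SpPow

open Matrix CfsgLib.Aschbacher Cfsg.Geo
open CfsgLib.MaxSub (HasSpTv SpFull sympForm_add_left sympForm_smul_left sympForm_add_right sympForm_smul_right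
  sympForm_swap)
open scoped MatrixGroups

variable {F : Type*} [Field F] {m k t : ℕ}

local notation "𝕀" => (Fin m ⊕ Fin m)
local notation "𝕁" => Matrix.J (Fin m) F

/-- the adjoint for the standard symplectic form -/
def adM : Matrix 𝕀 𝕀 F →ₗ[F] Matrix 𝕀 𝕀 F where
  toFun x := -(𝕁 * xᵀ * 𝕁)
  map_add' x y := by simp [Matrix.transpose_add, mul_add, add_mul, add_comm]
  map_smul' c x := by simp [Matrix.transpose_smul]

theorem adM_apply (x : Matrix 𝕀 𝕀 F) : adM x = -(𝕁 * xᵀ * 𝕁) := rfl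

theorem adM_mul (x y : Matrix 𝕀 𝕀 F) : adM (x * y) = adM y * adM x := by
  simp only [adM_apply, Matrix.transpose_mul, neg_mul, mul_neg, neg_neg]
  rw [show 𝕁 * yᵀ * 𝕁 * (𝕁 * xᵀ * 𝕁) = 𝕁 * yᵀ * (𝕁 * 𝕁) * xᵀ * 𝕁 by simp [mul_assoc], Matrix.J_squared]
  simp [mul_assoc]

theorem adM_one : adM (1 : Matrix 𝕀 𝕀 F) = 1 := by
  rw [adM_apply, Matrix.transpose_one, mul_one, Matrix.J_squared, neg_neg]

theorem adM_adM (x : Matrix 𝕀 𝕀 F) : adM (adM x) = x := by
  simp only [adM_apply, Matrix.transpose_neg, Matrix.transpose_mul, Matrix.transpose_transpose, Matrix.J_transpose,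
    neg_mul, mul_neg, neg_neg]
  rw [show 𝕁 * (𝕁 * (x * 𝕁)) * 𝕁 = 𝕁 * 𝕁 * x * (𝕁 * 𝕁) by simp [mul_assoc], Matrix.J_squared]
  simp

/-- membership in the symplectic group in terms of the adjoint -/
theorem mem_spGL_iff (g : GL 𝕀 F) : g ∈ Cfsg.spGL m F ↔ adM (g : Matrix 𝕀 𝕀 F) * (g : Matrix 𝕀 𝕀 F) = 1 := by
  have hform : ∀ u v, Cfsg.sympForm m F ((g : Matrix 𝕀 𝕀 F) *ᵥ u) ((g : Matrix 𝕀 𝕀 F) *ᵥ v) =
      u ⬝ᵥ (((g : Matrix 𝕀 𝕀 F)ᵀ * 𝕁 * (g : Matrix 𝕀 𝕀 F)) *ᵥ v) := fun u v => by
    rw [Cfsg.sympForm, ← Matrix.mulVec_mulVec, ← Matrix.mulVec_mulVec, Matrix.dotProduct_mulVec u,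
      Matrix.vecMul_transpose]
  have hiff : adM (g : Matrix 𝕀 𝕀 F) * (g : Matrix 𝕀 𝕀 F) = 1 ↔
      (g : Matrix 𝕀 𝕀 F)ᵀ * 𝕁 * (g : Matrix 𝕀 𝕀 F) = 𝕁 := by
    rw [adM_apply, neg_mul, mul_assoc, mul_assoc, ← mul_assoc ((g : Matrix 𝕀 𝕀 F)ᵀ)]
    constructor <;> intro h
    · have h' := congrArg (fun z => 𝕁 * z) h
      simp only [mul_neg, ← mul_assoc, Matrix.J_squared, neg_mul, one_mul, neg_neg, mul_one] at h'
      exact h'
    · rw [h, Matrix.J_squared, neg_neg]
  rw [hiff]
  constructor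
  · intro h
    refine Matrix.ext fun a b => ?_
    have := h (Pi.single a 1) (Pi.single b 1)
    simp only [Units.coeHom_apply, hform] at this
    simpa [Cfsg.sympForm] using this
  · intro h u v
    simp only [Units.coeHom_apply, hform, h]
    rfl

/-- The data of a tensor power of a symplectic form in coordinates. -/
structure Data (F : Type*) [Field F] (m k t : ℕ) where
  e : (Fin m ⊕ Fin m) ≃ (Fin t → Fin k)
  P : GL (Fin m ⊕ Fin m) F
  f₁ : (Fin k → F) → (Fin k → F) → F
  hf₁ : IsSymplecticForm f₁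
  c : F
  hc : c ≠ 0
  hT : ∀ x y : (Fin t → Fin k) → F,
    Cfsg.sympForm m F ((P : Matrix (Fin m ⊕ Fin m) (Fin m ⊕ Fin m) F) *ᵥ (x ∘ e))
      ((P : Matrix (Fin m ⊕ Fin m) (Fin m ⊕ Fin m) F) *ᵥ (y ∘ e)) =
      c * ∑ a, ∑ b, x a * (∏ i, gramMatrix f₁ (a i) (b i)) * id (y b)

namespace Data

variable (D : Data F m k t)

/-- the Gram matrix of a factor -/
def G : Matrix (Fin k) (Fin k) F := gramMatrix D.f₁

theorem G_transpose : D.Gᵀ = -D.G := by
  ext a b
  exact D.hf₁.skew _ _

theorem f₁_eq (x y : Fin k → F) : D.f₁ x y = x ⬝ᵥ (D.G *ᵥ y) := by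
  let B : (Fin k → F) →ₗ[F] (Fin k → F) →ₗ[F] F :=
    LinearMap.mk₂ F D.f₁ D.hf₁.bilinear.add_left (fun c x y => D.hf₁.bilinear.smul_left c x y)
      D.hf₁.bilinear.add_right (fun c x y => D.hf₁.bilinear.smul_right c x y)
  have hB : B = Matrix.toLinearMap₂' F D.G := by
    refine LinearMap.ext_basis (Pi.basisFun F (Fin k)) (Pi.basisFun F (Fin k)) fun a b => ?_
    simp [B, Data.G, gramMatrix, Matrix.toLinearMap₂'_apply']
  have := congrFun (congrArg DFunLike.coe (congrFun (congrArg DFunLike.coe hB) x)) y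
  simpa [B, Matrix.toLinearMap₂'_apply'] using this

theorem isUnit_det : IsUnit D.G.det := by
  rw [isUnit_iff_ne_zero]
  intro h0
  obtain ⟨v, hv, hv0⟩ := Matrix.exists_mulVec_eq_zero_iff.2 h0
  obtain ⟨x, hx⟩ := (D.hf₁.nondegenerate v hv).1
  exact hx (by rw [f₁_eq, hv0, dotProduct_zero])

/-- a factor in standard coordinates -/
def sl (i : Fin t) : Matrix (Fin k) (Fin k) F →ₐ[F] Matrix (Fin t → Fin k) (Fin t → Fin k) F :=
  AlgHom.ofLinearMap
    { toFun := fun x => pureMat (Function.update (fun _ => 1) i x)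
      map_add' := fun x y => by
        ext p q
        simp only [Matrix.add_apply, slot_apply]
        split_ifs <;> simp
      map_smul' := fun c x => by
        ext p q
        simp only [Matrix.smul_apply, slot_apply, RingHom.id_apply]
        split_ifs <;> simp }
    (by
      show pureMat (Function.update (fun _ => (1 : Matrix (Fin k) (Fin k) F)) i 1) = 1
      rw [Function.update_eq_self i (fun _ => (1 : Matrix (Fin k) (Fin k) F))]
      exact pureMat_one)
    fun x y => by
      show pureMat _ = pureMat _ * pureMat _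
      rw [pureMat_mul]
      congr 1
      funext j
      rcases eq_or_ne j i with rfl | h <;> simp [*]

theorem sl_apply (i : Fin t) (x : Matrix (Fin k) (Fin k) F) :
    sl i x = pureMat (Function.update (fun _ => 1) i x) := rfl

/-- the transport to the coordinates of the form -/
def tr : Matrix (Fin t → Fin k) (Fin t → Fin k) F ≃ₐ[F] Matrix 𝕀 𝕀 F :=
  (Matrix.reindexAlgEquiv F F D.e.symm).trans (cj D.P)

theorem tr_apply (X : Matrix (Fin t → Fin k) (Fin t → Fin k) F) :
    D.tr X = (D.P : Matrix 𝕀 𝕀 F) * Matrix.reindex D.e.symm D.e.symm X * (↑D.P⁻¹ : Matrix 𝕀 𝕀 F) := rfl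

/-- a factor -/
def slot (i : Fin t) : Matrix (Fin k) (Fin k) F →ₐ[F] Matrix 𝕀 𝕀 F := D.tr.toAlgHom.comp (sl i)

theorem slot_eq (i : Fin t) (x : Matrix (Fin k) (Fin k) F) : D.slot i x = slotFactor D.e D.P i x := rfl

/-- the Gram matrix of the tensor power -/
def pG : Matrix (Fin t → Fin k) (Fin t → Fin k) F := pureMat fun _ => D.G

theorem gram_pullback :
    (D.P : Matrix 𝕀 𝕀 F)ᵀ * 𝕁 * (D.P : Matrix 𝕀 𝕀 F) = D.c • Matrix.reindex D.e.symm D.e.symm D.pG := by
  classical
  refine Matrix.ext fun a b => ?_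
  have h := D.hT (Pi.single (D.e a) 1) (Pi.single (D.e b) 1)
  have e1 : ∀ j, (Pi.single (D.e j) 1 : (Fin t → Fin k) → F) ∘ D.e = Pi.single j 1 := fun j => by
    funext l; simp [Pi.single_apply]
  rw [e1, e1, Cfsg.sympForm, Matrix.mulVec_mulVec] at h
  rw [← Matrix.vecMul_transpose, ← Matrix.dotProduct_mulVec, Matrix.mulVec_mulVec] at h
  simp [Pi.single_apply, ← mul_assoc] at h
  simp [h, pG, G, pureMat]

theorem adM_tr {X X' : Matrix (Fin t → Fin k) (Fin t → Fin k) F} (h : Xᵀ * D.pG = D.pG * X') :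
    adM (D.tr X) = D.tr X' := by
  classical
  set re := Matrix.reindexAlgEquiv F F D.e.symm with hre
  have hP : (↑D.P⁻¹ : Matrix 𝕀 𝕀 F)ᵀ * (D.P : Matrix 𝕀 𝕀 F)ᵀ = 1 := by
    rw [← Matrix.transpose_mul, Units.mul_inv, Matrix.transpose_one]
  have hJP : 𝕁 * (D.P : Matrix 𝕀 𝕀 F) = D.c • ((↑D.P⁻¹ : Matrix 𝕀 𝕀 F)ᵀ * re D.pG) := by
    rw [← mul_smul_comm, show D.c • re D.pG = (D.P : Matrix 𝕀 𝕀 F)ᵀ * 𝕁 * (D.P : Matrix 𝕀 𝕀 F) from
      D.gram_pullback.symm, ← mul_assoc, ← mul_assoc, hP, one_mul]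
  have hX : (re X)ᵀ * re D.pG = re D.pG * re X' := by
    rw [← map_mul, ← h, map_mul]
    congr 1
  have key : (D.tr X)ᵀ * 𝕁 = 𝕁 * D.tr X' := by
    calc (D.tr X)ᵀ * 𝕁
        = (↑D.P⁻¹ : Matrix 𝕀 𝕀 F)ᵀ * (re X)ᵀ * ((D.P : Matrix 𝕀 𝕀 F)ᵀ * 𝕁 * (D.P : Matrix 𝕀 𝕀 F)) *
            (↑D.P⁻¹ : Matrix 𝕀 𝕀 F) := by
          rw [tr_apply, Matrix.transpose_mul, Matrix.transpose_mul]
          simp only [mul_assoc, Units.mul_inv, mul_one]
          rfl
      _ = D.c • ((↑D.P⁻¹ : Matrix 𝕀 𝕀 F)ᵀ * (re D.pG * re X') * (↑D.P⁻¹ : Matrix 𝕀 𝕀 F)) := by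
          rw [show (D.P : Matrix 𝕀 𝕀 F)ᵀ * 𝕁 * (D.P : Matrix 𝕀 𝕀 F) = D.c • re D.pG from D.gram_pullback,
            mul_smul_comm, smul_mul_assoc, mul_assoc _ (re X)ᵀ, hX]
      _ = 𝕁 * (D.P : Matrix 𝕀 𝕀 F) * re X' * (↑D.P⁻¹ : Matrix 𝕀 𝕀 F) := by
          rw [hJP, smul_mul_assoc, smul_mul_assoc, ← mul_assoc ((↑D.P⁻¹ : Matrix 𝕀 𝕀 F)ᵀ)]
      _ = 𝕁 * D.tr X' := by rw [tr_apply, mul_assoc, mul_assoc, ← mul_assoc (D.P : Matrix 𝕀 𝕀 F)]; rfl
  rw [adM_apply, mul_assoc, key, ← mul_assoc, Matrix.J_squared, neg_mul, one_mul, neg_neg]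

theorem adM_slot {i : Fin t} {x x' : Matrix (Fin k) (Fin k) F} (h : xᵀ * D.G = D.G * x') :
    adM (D.slot i x) = D.slot i x' := by
  refine D.adM_tr ?_
  show (pureMat (Function.update (fun _ => (1 : Matrix (Fin k) (Fin k) F)) i x))ᵀ * pureMat _ = pureMat _ * pureMat _
  rw [show ∀ a : Fin t → Matrix (Fin k) (Fin k) F, (pureMat a)ᵀ = pureMat fun l => (a l)ᵀ from fun a => rfl,
    pureMat_mul, pureMat_mul]
  congr 1
  funext l
  rcases eq_or_ne l i with rfl | hl
  · simp [h]
  · simp [hl]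

theorem single_eq (b : Fin k) : D.G *ᵥ (D.G⁻¹ *ᵥ Pi.single b 1) = Pi.single b 1 := by
  rw [Matrix.mulVec_mulVec, Matrix.mul_nonsing_inv _ D.isUnit_det, Matrix.one_mulVec]

/-- the operators of the factors -/
noncomputable def sys : Sys F (Fin k → F) (Matrix 𝕀 𝕀 F) (Fin t) (Fin k) where
  f := LinearMap.mk₂ F D.f₁ D.hf₁.bilinear.add_left (fun c x y => D.hf₁.bilinear.smul_left c x y)
    D.hf₁.bilinear.add_right (fun c x y => D.hf₁.bilinear.smul_right c x y)
  alt := D.hf₁.alternating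
  nondeg u h := by
    by_contra hu
    obtain ⟨x, hx⟩ := (D.hf₁.nondegenerate u hu).2
    exact hx (h x)
  b l := Pi.single l 1
  b' l := D.G⁻¹ *ᵥ Pi.single l 1
  dual y := by
    funext j
    simp only [LinearMap.mk₂_apply, f₁_eq, single_eq]
    simp [dotProduct_single, Finset.sum_apply, Pi.single_apply]
  E i := LinearMap.mk₂ F (fun u v => D.slot i (vecMulVec u (D.G *ᵥ v)))
    (fun u u' v => by rw [Matrix.add_vecMulVec, map_add])
    (fun c u v => by rw [Matrix.smul_vecMulVec, map_smul])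
    (fun u v v' => by rw [Matrix.mulVec_add, Matrix.vecMulVec_add, map_add])
    (fun c u v => by rw [Matrix.mulVec_smul, Matrix.vecMulVec_smul, map_smul])
  mul i u v u' v' := by
    simp only [LinearMap.mk₂_apply]
    rw [← map_mul, Matrix.vecMulVec_mul_vecMulVec, f₁_eq, ← map_smul, dotProduct_comm]
    congr 1
    ext a b
    simp [Matrix.vecMulVec_apply]
    ring
  one i := by
    simp only [LinearMap.mk₂_apply, single_eq]
    rw [← map_sum, ← map_one (D.slot i)]
    congr 1
    ext a b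
    simp [Matrix.sum_apply, Matrix.vecMulVec_apply, Pi.single_apply, Matrix.one_apply]
  comm i j hij u v u' v' := by
    simp only [LinearMap.mk₂_apply]
    show D.tr _ * D.tr _ = D.tr _ * D.tr _
    rw [← map_mul, ← map_mul]
    congr 1
    show pureMat _ * pureMat _ = pureMat _ * pureMat _
    rw [pureMat_mul, pureMat_mul]
    congr 1
    funext l
    rcases eq_or_ne l i with rfl | hl
    · simp [hij]
    · simp [hl]
  ad := adM
  ad_mul := adM_mul
  ad_ad := adM_adM
  ad_one := adM_one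
  ad_E i u v := by
    simp only [LinearMap.mk₂_apply]
    rw [← map_neg]
    refine D.adM_slot ?_
    rw [Matrix.transpose_vecMulVec, Matrix.vecMulVec_mul, ← Matrix.mulVec_transpose, G_transpose, Matrix.neg_mulVec,
      mul_neg, Matrix.mul_vecMulVec, Matrix.vecMulVec_neg]
  scal x hx := by
    classical
    rcases isEmpty_or_nonempty (Fin t → Fin k) with hem | hne
    · haveI : IsEmpty 𝕀 := D.e.isEmpty
      exact ⟨0, Subsingleton.elim _ _⟩
    rcases isEmpty_or_nonempty (Fin k) with hk | hk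
    · rcases Nat.eq_zero_or_pos t with rfl | ht
      · haveI : Subsingleton (Fin 0 → Fin k) := inferInstance
        haveI : Subsingleton 𝕀 := D.e.subsingleton
        obtain ⟨a⟩ : Nonempty 𝕀 := D.e.nonempty
        refine ⟨x a a, ?_⟩
        ext p q
        rw [Subsingleton.elim p a, Subsingleton.elim q a]
        simp
      · exact (hk.false (hne.some ⟨0, ht⟩)).elim
    obtain ⟨c, hc⟩ := scalar_of_commute_slots (D.tr.symm x) fun i y => by
      have e1 : y = ∑ a, ∑ b, y a b • vecMulVec (Pi.single a 1) (D.G *ᵥ (D.G⁻¹ *ᵥ Pi.single b 1)) := by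
        ext p q
        simp only [single_eq]
        simp [Matrix.sum_apply, Matrix.vecMulVec_apply, Pi.single_apply]
      have e2 : x * D.slot i y = D.slot i y * x := by
        rw [e1]
        simp only [map_sum, map_smul, Finset.mul_sum, Finset.sum_mul, mul_smul_comm, smul_mul_assoc]
        exact Finset.sum_congr rfl fun a _ => Finset.sum_congr rfl fun b _ => congrArg _ (hx i _ _)
      have e3 := congrArg D.tr.symm e2
      rw [map_mul, map_mul, show D.tr.symm (D.slot i y) = sl i y from D.tr.symm_apply_apply _] at e3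
      exact e3
    refine ⟨c, ?_⟩
    have := congrArg D.tr hc
    rwa [AlgEquiv.apply_symm_apply, map_smul, map_one] at this

theorem sys_f (u v : Fin k → F) : D.sys.f u v = D.f₁ u v := rfl

theorem sys_E (i : Fin t) (u v : Fin k → F) : D.sys.E i u v = D.slot i (vecMulVec u (D.G *ᵥ v)) := rfl

theorem sys_ad (x : Matrix 𝕀 𝕀 F) : D.sys.ad x = adM x := rfl

theorem slot_mem_phi (i : Fin t) (y : Matrix (Fin k) (Fin k) F) : D.slot i y ∈ D.sys.phi i := by
  have e1 : y = ∑ a, ∑ b, y a b • vecMulVec (Pi.single a 1) (D.G *ᵥ (D.G⁻¹ *ᵥ Pi.single b 1)) := by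
    ext p q
    simp only [single_eq]
    simp [Matrix.sum_apply, Matrix.vecMulVec_apply, Pi.single_apply]
  rw [e1]
  simp only [map_sum, map_smul]
  exact Submodule.sum_mem _ fun a _ => Submodule.sum_mem _ fun b _ =>
    Submodule.smul_mem _ _ (D.sys.E_mem_phi i (Pi.single a 1) (D.G⁻¹ *ᵥ Pi.single b 1))

theorem phi_le_range (i : Fin t) {z : Matrix 𝕀 𝕀 F} (hz : z ∈ D.sys.phi i) : z ∈ (D.slot i).range := by
  induction hz using Submodule.span_induction with
  | mem z hz => obtain ⟨⟨u, v⟩, rfl⟩ := hz; exact ⟨_, rfl⟩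
  | zero => exact Subalgebra.zero_mem _
  | add a b _ _ ha hb => exact Subalgebra.add_mem _ ha hb
  | smul c a _ ha => exact Subalgebra.smul_mem _ ha c

/-- the stabiliser of the decomposition in the symplectic group -/
def base : Subgroup (GL 𝕀 F) := tensorWreathSubgroup k t D.e D.P ⊓ Cfsg.spGL m F

theorem mem_wreath {y : GL (Fin t → Fin k) F} (hy : IsPureTensor k t y ∨ IsFactorPermutation k t y) :
    MulAut.conj D.P (glReindex D.e.symm y) ∈ tensorWreathSubgroup k t D.e D.P :=
  Subgroup.mem_map_of_mem _ (Subgroup.mem_map_of_mem _ (Subgroup.subset_closure hy))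

theorem conj_val (y : GL (Fin t → Fin k) F) :
    ((MulAut.conj D.P (glReindex D.e.symm y) : GL 𝕀 F) : Matrix 𝕀 𝕀 F) = D.tr (y : Matrix _ _ F) := rfl

theorem root_base [Fintype F] (i : Fin t) (u : Fin k → F) (c : F) :
    InH D.base (1 + c • D.sys.E i u u) := by
  classical
  set z := c • vecMulVec u (D.G *ᵥ u) with hz
  have hzz : z * z = 0 := by
    rw [hz, smul_mul_smul, Matrix.vecMulVec_mul_vecMulVec, dotProduct_comm, ← f₁_eq, D.hf₁.alternating]
    ext a b
    simp [Matrix.vecMulVec_apply]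
  let g : GL (Fin k) F := ⟨1 + z, 1 - z, by rw [add_mul, one_mul, mul_sub, mul_one, hzz]; abel,
    by rw [sub_mul, one_mul, mul_add, mul_one, hzz]; abel⟩
  let y : GL (Fin t → Fin k) F := Units.map (sl i).toMonoidHom g
  have hy : IsPureTensor k t y := by
    refine ⟨Function.update (fun _ => 1) i g, fun p q => ?_⟩
    show pureMat (Function.update (fun _ => (1 : Matrix (Fin k) (Fin k) F)) i (1 + z)) p q = _
    simp only [pureMat, Matrix.of_apply]
    refine Finset.prod_congr rfl fun l _ => ?_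
    rcases eq_or_ne l i with rfl | hl <;> simp [g, *]
  have hval : D.tr (y : Matrix _ _ F) = 1 + c • D.sys.E i u u := by
    show D.slot i (1 + z) = _
    rw [map_add, map_one, hz, map_smul, sys_E]
  refine ⟨_, ⟨D.mem_wreath (Or.inl hy), (mem_spGL_iff _).2 ?_⟩, (D.conj_val y).trans hval⟩
  rw [conj_val, hval]
  have hd : adM (D.sys.E i u u) = -D.sys.E i u u := D.sys.ad_E i u u
  have hn : D.sys.E i u u * D.sys.E i u u = 0 := D.sys.n_mul_self i u
  rw [map_add, adM_one, map_smul, hd]
  simp [add_mul, mul_add, smul_mul_smul, hn]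

theorem grp_of_le [Fintype F] {M : Subgroup (GL 𝕀 F)} (hb : D.base ≤ M) (hM : M ≤ Cfsg.spGL m F) :
    Grp D.sys M where
  iso g hg := (mem_spGL_iff g).1 (hM hg)
  root i u c := by
    obtain ⟨g, hg, hgv⟩ := D.root_base i u c
    exact ⟨g, hb hg, hgv⟩

theorem permMat_inv' (σ : Equiv.Perm (Fin t)) :
    permMat σ.symm * permMat σ = (1 : Matrix (Fin t → Fin k) (Fin t → Fin k) F) := by
  simpa using permMat_mul_inv (F := F) (κ := Fin k) σ.symm

theorem permMat_transpose' (σ : Equiv.Perm (Fin t)) :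
    (permMat σ : Matrix (Fin t → Fin k) (Fin t → Fin k) F)ᵀ = permMat σ.symm := by
  ext p q
  have h : p = q ∘ σ ↔ q = p ∘ σ.symm :=
    ⟨fun h => by funext j; simp [h], fun h => by funext j; simp [h]⟩
  simp [permMat, h]

/-- the exchanges of two factors -/
theorem perms_of_le [Fintype F] {M : Subgroup (GL 𝕀 F)} (hb : D.base ≤ M) : Perms D.sys M := by
  classical
  intro i j
  set σ : Equiv.Perm (Fin t) := Equiv.swap i j with hσ
  let y : GL (Fin t → Fin k) F := ⟨permMat σ, permMat σ.symm, permMat_mul_inv σ, permMat_inv' σ⟩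
  have hy : IsFactorPermutation k t y := ⟨σ, fun p q => rfl⟩
  refine ⟨_, hb ⟨D.mem_wreath (Or.inr hy), (mem_spGL_iff _).2 ?_⟩, fun l u v => ?_⟩
  · rw [conj_val, D.adM_tr (X' := permMat σ.symm), ← map_mul]
    · rw [show (y : Matrix (Fin t → Fin k) (Fin t → Fin k) F) = permMat σ from rfl, permMat_inv', map_one]
    · show (permMat σ)ᵀ * D.pG = _
      rw [permMat_transpose']
      exact (pureMat_mul_permMat σ.symm (fun _ => D.G)).symm
  · rw [← map_inv, conj_val, ← map_inv, conj_val, sys_E, sys_E]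
    show D.tr (permMat σ) * D.tr (sl l _) * D.tr (permMat σ.symm) = D.tr (sl (σ l) _)
    rw [← map_mul, ← map_mul]
    congr 1
    rw [sl_apply, sl_apply, show Function.update (fun _ => (1 : Matrix (Fin k) (Fin k) F)) l
        (vecMulVec u (D.G *ᵥ v)) = fun a => Function.update (fun _ => (1 : Matrix (Fin k) (Fin k) F)) (σ l)
        (vecMulVec u (D.G *ᵥ v)) (σ a) by
      funext a
      rcases eq_or_ne a l with rfl | ha
      · simp
      · rw [Function.update_of_ne ha, Function.update_of_ne (σ.injective.ne ha)],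
      ← pureMat_mul_permMat]
    simp only [Equiv.apply_symm_apply]
    rw [mul_assoc, permMat_mul_inv, mul_one]

/-- members of the stabiliser permute the factors -/
theorem permutes_of_mem {g : GL 𝕀 F} (hg : g ∈ tensorWreathSubgroup k t D.e D.P) : Permutes D.sys g := by
  classical
  obtain ⟨g', ⟨y, hy, rfl⟩, rfl⟩ := hg
  have key : ∃ σ : Equiv.Perm (Fin t), ∀ l x, ∃ x',
      (y : Matrix (Fin t → Fin k) (Fin t → Fin k) F) * sl l x *
        (↑y⁻¹ : Matrix (Fin t → Fin k) (Fin t → Fin k) F) = sl (σ l) x' := by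
    induction hy using Subgroup.closure_induction with
    | mem y hy =>
      rcases hy with ⟨gs, hgs⟩ | ⟨σ, hσ⟩
      · refine ⟨1, fun l x => ⟨(gs l : Matrix (Fin k) (Fin k) F) * x * (↑(gs l)⁻¹ : Matrix (Fin k) (Fin k) F), ?_⟩⟩
        have ev : (y : Matrix (Fin t → Fin k) (Fin t → Fin k) F) = pureMat fun a => (gs a : Matrix (Fin k) (Fin k) F) := by
          ext p q; exact hgs p q
        have ei : (↑y⁻¹ : Matrix (Fin t → Fin k) (Fin t → Fin k) F) = pureMat fun a => (↑(gs a)⁻¹ : Matrix (Fin k) (Fin k) F) :=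
          Units.inv_eq_of_mul_eq_one_right (by rw [ev, pureMat_mul]; simp [pureMat_one])
        rw [ev, ei, sl_apply, sl_apply, pureMat_mul, pureMat_mul]
        congr 1
        funext a
        rcases eq_or_ne a l with rfl | ha
        · simp
        · simp [ha]
      · refine ⟨σ, fun l x => ⟨x, ?_⟩⟩
        have ev : (y : Matrix (Fin t → Fin k) (Fin t → Fin k) F) = permMat σ := by ext p q; exact hσ p q
        have ei : (↑y⁻¹ : Matrix (Fin t → Fin k) (Fin t → Fin k) F) = permMat σ.symm :=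
          Units.inv_eq_of_mul_eq_one_right (by rw [ev]; exact permMat_mul_inv σ)
        rw [ev, ei, sl_apply, sl_apply, show Function.update (fun _ => (1 : Matrix (Fin k) (Fin k) F)) l x =
            fun a => Function.update (fun _ => (1 : Matrix (Fin k) (Fin k) F)) (σ l) x (σ a) by
          funext a
          rcases eq_or_ne a l with rfl | ha
          · simp
          · rw [Function.update_of_ne ha, Function.update_of_ne (σ.injective.ne ha)],
          ← pureMat_mul_permMat]
        simp only [Equiv.apply_symm_apply]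
        rw [mul_assoc, permMat_mul_inv, mul_one]
    | one => exact ⟨1, fun l x => ⟨x, by simp⟩⟩
    | mul a b _ _ ha hb =>
      obtain ⟨σ, hσ⟩ := ha
      obtain ⟨τ, hτ⟩ := hb
      refine ⟨σ * τ, fun l x => ?_⟩
      obtain ⟨x₁, h1⟩ := hτ l x
      obtain ⟨x₂, h2⟩ := hσ (τ l) x₁
      exact ⟨x₂, by rw [Equiv.Perm.mul_apply, ← h2, ← h1]; simp [mul_assoc]⟩
    | inv a _ ha =>
      obtain ⟨σ, hσ⟩ := ha
      choose f hf using hσ
      refine ⟨σ⁻¹, fun l x => ?_⟩
      have hinj : Function.Injective (f (σ⁻¹ l)) := by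
        intro x₁ x₂ h
        have e1 := hf (σ⁻¹ l) x₁
        rw [h, ← hf (σ⁻¹ l) x₂] at e1
        simp only [Units.mul_left_inj, Units.mul_right_inj] at e1
        rcases isEmpty_or_nonempty (Fin k) with hk | hk
        · exact Subsingleton.elim _ _
        · exact (sl (σ⁻¹ l)).toRingHom.injective e1
      haveI : Finite (Matrix (Fin k) (Fin k) F) ∨ True := Or.inr trivial
      let L : Matrix (Fin k) (Fin k) F →ₗ[F] Matrix (Fin k) (Fin k) F :=
        { toFun := f (σ⁻¹ l)
          map_add' := fun x y => by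
            rcases isEmpty_or_nonempty (Fin k) with hk | hk
            · exact Subsingleton.elim _ _
            apply (sl (σ (σ⁻¹ l))).toRingHom.injective
            show sl _ _ = sl _ _
            rw [map_add, ← hf, ← hf, ← hf, map_add, mul_add, add_mul]
          map_smul' := fun c x => by
            rcases isEmpty_or_nonempty (Fin k) with hk | hk
            · exact Subsingleton.elim _ _
            apply (sl (σ (σ⁻¹ l))).toRingHom.injective
            show sl _ _ = sl _ _
            rw [map_smul, ← hf, RingHom.id_apply, map_smul, ← hf, mul_smul_comm, smul_mul_assoc] }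
      obtain ⟨x', hx'⟩ := (LinearMap.injective_iff_surjective (f := L)).1 hinj x
      refine ⟨x', ?_⟩
      have e1 := hf (σ⁻¹ l) x'
      rw [show f (σ⁻¹ l) x' = x from hx', show σ (σ⁻¹ l) = l from σ.apply_symm_apply l] at e1
      rw [← e1, inv_inv]
      simp [mul_assoc]
  obtain ⟨σ, hσ⟩ := key
  refine ⟨σ, fun l u v => ?_⟩
  obtain ⟨x', hx'⟩ := hσ l (vecMulVec u (D.G *ᵥ v))
  rw [sys_E]
  rw [← map_inv, ← map_inv]
  show D.tr (y : Matrix (Fin t → Fin k) (Fin t → Fin k) F) * D.tr (sl l (vecMulVec u (D.G *ᵥ v))) *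
    D.tr (↑y⁻¹ : Matrix (Fin t → Fin k) (Fin t → Fin k) F) ∈ D.sys.phi (σ l)
  rw [← map_mul, ← map_mul, hx']
  exact D.slot_mem_phi (σ l) x'

/-- a group permuting the factors lies in the stabiliser -/
theorem le_wreath_of_permutes [NeZero k] [Nonempty 𝕀] (ht : 0 < t) {M : Subgroup (GL 𝕀 F)}
    (h : ∀ g ∈ M, Permutes D.sys g) : M ≤ tensorWreathSubgroup k t D.e D.P := by
  classical
  refine le_tensorWreathSubgroup ht D.slot D.e D.P D.slot_eq fun g hg => ?_
  obtain ⟨σ, hσ⟩ := h g hg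
  refine ⟨σ, fun i x => D.phi_le_range _ ?_⟩
  exact phi_map (T := D.sys) (hσ i) (D.slot_mem_phi i x)

/-- the vector of a pure tensor -/
def vec (a : Fin t → Fin k → F) : 𝕀 → F := (D.P : Matrix 𝕀 𝕀 F) *ᵥ ((fun p => ∏ i, a i (p i)) ∘ D.e)

theorem full_val (a : Fin t → Fin k → F) :
    full D.sys a = D.c⁻¹ • vecMulVec (D.vec a) (𝕁 *ᵥ D.vec a) := by
  classical
  have step : ∀ S : Finset (Fin t),
      D.sys.tens (fun l => if l ∈ S then pv D.sys (fun l => Sl.nn (a l) (a l)) l else 1) =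
        D.tr (pureMat fun l => if l ∈ S then vecMulVec (a l) (D.G *ᵥ a l) else 1) := by
    intro S
    induction S using Finset.induction_on with
    | empty =>
      simp only [Finset.notMem_empty, if_false]
      rw [show (fun _ : Fin t => (1 : D.sys.phiA _)) = 1 from rfl, map_one, pureMat_one, map_one]
    | insert l S hl ih =>
      rw [show (fun m => if m ∈ insert l S then pv D.sys (fun l => Sl.nn (a l) (a l)) m else 1) =
          Function.update (fun m => if m ∈ S then pv D.sys (fun l => Sl.nn (a l) (a l)) m else 1) l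
            (pv D.sys (fun l => Sl.nn (a l) (a l)) l) by
        funext m; rcases eq_or_ne m l with rfl | hm <;> simp [*], Sys.tens_update]
      rw [show Function.update (fun m => if m ∈ S then pv D.sys (fun l => Sl.nn (a l) (a l)) m else 1) l 1 =
          fun m => if m ∈ S then pv D.sys (fun l => Sl.nn (a l) (a l)) m else 1 by
        funext m; rcases eq_or_ne m l with rfl | hm <;> simp [*], ih]
      show D.tr (sl l _) * _ = _
      rw [← map_mul, sl_apply, pureMat_mul]
      congr 2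
      funext m
      rcases eq_or_ne m l with rfl | hm <;> simp [*]
  have h1 := step Finset.univ
  simp only [Finset.mem_univ, if_true] at h1
  rw [full, h1]
  set w : (Fin t → Fin k) → F := fun p => ∏ i, a i (p i) with hw
  have e1 : pureMat (fun l => vecMulVec (a l) (D.G *ᵥ a l)) = vecMulVec w (D.pG *ᵥ w) := by
    ext p q
    simp only [pureMat, Matrix.of_apply, Matrix.vecMulVec_apply, Finset.prod_mul_distrib, hw, pG, Matrix.mulVec,
      dotProduct]
    congr 1
    rw [Fintype.prod_sum]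
    simp [Finset.prod_mul_distrib]
  have e2 : Matrix.reindex D.e.symm D.e.symm (vecMulVec w (D.pG *ᵥ w)) =
      vecMulVec (w ∘ D.e) (Matrix.reindex D.e.symm D.e.symm D.pG *ᵥ (w ∘ D.e)) := by
    ext p q
    simp only [Matrix.reindex_apply, Matrix.submatrix_apply, Equiv.symm_symm, Matrix.vecMulVec_apply,
      Function.comp_apply, Matrix.mulVec, dotProduct]
    congr 1
    exact (Equiv.sum_comp D.e (fun b => D.pG (D.e q) b * w b)).symm
  have e3 : Matrix.reindex D.e.symm D.e.symm D.pG =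
      D.c⁻¹ • ((D.P : Matrix 𝕀 𝕀 F)ᵀ * 𝕁 * (D.P : Matrix 𝕀 𝕀 F)) := by
    rw [D.gram_pullback, inv_smul_smul₀ D.hc]
  rw [tr_apply, e1, e2, Matrix.mul_vecMulVec, Matrix.vecMulVec_mul, e3, Matrix.smul_mulVec, Matrix.smul_vecMul,
    Matrix.vecMulVec_smul, ← Matrix.mulVec_mulVec, ← Matrix.mulVec_mulVec, Matrix.mulVec_transpose,
    Matrix.vecMul_vecMul, Units.mul_inv, Matrix.vecMul_one]
  rfl

theorem spFull_vec {M : Subgroup (GL 𝕀 F)} {a : Fin t → Fin k → F} (h : InL F M (full D.sys a)) :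
    SpFull M (D.vec a) := by
  intro d
  obtain ⟨g, hg, hgv⟩ := h (d * D.c)
  refine ⟨CfsgLib.MaxSub.spDual_smul_dot d _, g, hg, hgv.trans ?_⟩
  rw [full_val, smul_smul, mul_assoc, mul_inv_cancel₀ D.hc, mul_one, CfsgLib.MaxSub.tvMat, Matrix.vecMulVec_smul]

/-- pure tensors meeting a vector -/
theorem exists_vec_meet {x : 𝕀 → F} (hx : x ≠ 0) : ∃ z, Cfsg.sympForm m F x (D.vec z) ≠ 0 := by
  classical
  by_contra h
  simp only [not_exists, not_not] at h
  apply CfsgLib.MaxSub.spDual_ne_zero hx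
  have h2 : (D.P : Matrix 𝕀 𝕀 F)ᵀ *ᵥ (𝕁 *ᵥ x) = 0 := by
    funext j
    have h1 := h fun i => Pi.single (D.e j i) 1
    have e1 : ((fun p : Fin t → Fin k => ∏ i, (Pi.single (D.e j i) (1 : F) : Fin k → F) (p i)) ∘ D.e) =
        Pi.single j 1 := by
      funext l
      simp only [Function.comp_apply, Pi.single_apply]
      rcases eq_or_ne l j with rfl | hl
      · simp
      · rw [if_neg hl]
        obtain ⟨i, hi⟩ := Function.ne_iff.1 (D.e.injective.ne hl)
        exact Finset.prod_eq_zero (Finset.mem_univ i) (if_neg hi)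
    rw [vec, e1, sympForm_swap, neg_eq_zero, ← CfsgLib.MaxSub.spDual_dot, Matrix.dotProduct_mulVec,
      ← Matrix.mulVec_transpose, dotProduct_single, mul_one] at h1
    exact h1
  have h3 := congrArg (fun y => (↑D.P⁻¹ : Matrix 𝕀 𝕀 F)ᵀ *ᵥ y) h2
  rwa [Matrix.mulVec_mulVec, ← Matrix.transpose_mul, Units.mul_inv, Matrix.transpose_one, Matrix.one_mulVec,
    Matrix.mulVec_zero] at h3

/-- all transvections from those at pure tensors -/
theorem spGL_le [Fintype F] (h4 : 4 ≤ Fintype.card F) {M : Subgroup (GL 𝕀 F)}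
    (hfull : ∀ a : Fin t → Fin k → F, (∀ i, a i ≠ 0) → InL F M (full D.sys a)) :
    Cfsg.spGL m F ≤ M := by
  classical
  have hpure : ∀ a, SpFull M (D.vec a) := by
    intro a
    by_cases ha : ∀ i, a i ≠ 0
    · exact D.spFull_vec (hfull a ha)
    simp only [ne_eq, not_forall, not_not] at ha
    obtain ⟨i, hi⟩ := ha
    have e : ((fun p : Fin t → Fin k => ∏ i, a i (p i)) ∘ D.e) = 0 := by
      funext p
      exact Finset.prod_eq_zero (Finset.mem_univ i) (by rw [hi]; rfl)
    rw [vec, e, Matrix.mulVec_zero]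
    exact CfsgLib.MaxSub.spFull_zero
  have hvadd : ∀ (z : Fin t → Fin k → F) l x y, D.vec (Function.update z l (x + y)) =
      D.vec (Function.update z l x) + D.vec (Function.update z l y) := by
    intro z l x y
    rw [vec, vec, vec, ← Matrix.mulVec_add]
    congr 1
    funext p
    simp only [Function.comp_apply, Pi.add_apply, ← Finset.mul_prod_erase _ _ (Finset.mem_univ l),
      Function.update_self, add_mul]
    congr 2 <;>
      exact Finset.prod_congr rfl fun j hj => by
        simp [Function.update_of_ne (Finset.ne_of_mem_erase hj)]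
  have hvsmul : ∀ (z : Fin t → Fin k → F) l (c : F) x, D.vec (Function.update z l (c • x)) =
      c • D.vec (Function.update z l x) := by
    intro z l c x
    rw [vec, vec, ← Matrix.mulVec_smul]
    congr 1
    funext p
    simp only [Function.comp_apply, Pi.smul_apply, smul_eq_mul, ← Finset.mul_prod_erase _ _ (Finset.mem_univ l),
      Function.update_self, mul_assoc]
    congr 2
    exact Finset.prod_congr rfl fun j hj => by
      simp [Function.update_of_ne (Finset.ne_of_mem_erase hj)]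
  have hadd : ∀ v a, SpFull M v → SpFull M (v + D.vec a) := by
    intro v a hv
    set w := D.vec a with hw
    by_cases h0 : Cfsg.sympForm m F v w ≠ 0
    · exact hv.add (hpure a) h0
    rw [not_not] at h0
    rcases eq_or_ne v 0 with rfl | hv0
    · rw [zero_add]; exact hpure a
    rcases eq_or_ne w 0 with hw0 | hw0
    · rw [hw0, add_zero]; exact hv
    rcases eq_or_ne (v + w) 0 with hvw | hvw
    · rw [hvw]; exact CfsgLib.MaxSub.spFull_zero
    obtain ⟨z, hz⟩ := exists_pure_avoid (A := Fin k → F) h4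
      (fun r z => Cfsg.sympForm m F (![v, w, v + w] r) (D.vec z))
      (fun r z l x y => by rw [hvadd, sympForm_add_right])
      (fun r z l c x => by rw [hvsmul, sympForm_smul_right])
      (fun r => D.exists_vec_meet (by fin_cases r <;> assumption))
    have z0 : Cfsg.sympForm m F v (D.vec z) ≠ 0 := hz 0
    have z1 : Cfsg.sympForm m F w (D.vec z) ≠ 0 := hz 1
    have z2 : Cfsg.sympForm m F (v + w) (D.vec z) ≠ 0 := hz 2
    have s1 := hv.add (hpure z) z0
    have s2 := s1.add (hpure a) (by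
      rw [sympForm_add_left, h0, zero_add, sympForm_swap]
      exact neg_ne_zero.2 z1)
    have s3 := s2.add ((hpure z).smul (-1)) (by
      rw [sympForm_smul_right, sympForm_add_left, sympForm_add_left, CfsgLib.MaxSub.sympForm_self, add_zero,
        ← sympForm_add_left]
      exact mul_ne_zero (neg_ne_zero.2 one_ne_zero) z2)
    convert s3 using 1
    module
  have hsmul : ∀ (c : F) a, 0 < t → ∃ a', c • D.vec a = D.vec a' := fun c a ht =>
    ⟨Function.update a ⟨0, ht⟩ (c • a ⟨0, ht⟩), by rw [hvsmul, Function.update_eq_self]⟩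
  refine CfsgLib.MaxSub.spGL_le_of_spFull fun u => ?_
  set x := (↑D.P⁻¹ : Matrix 𝕀 𝕀 F) *ᵥ u with hx
  have hu : u = ∑ j, x j • D.vec fun i => Pi.single (D.e j i) 1 := by
    have e1 : ∀ j, D.vec (fun i => Pi.single (D.e j i) 1) = (D.P : Matrix 𝕀 𝕀 F) *ᵥ Pi.single j 1 := by
      intro j
      rw [vec]
      congr 1
      funext l
      simp only [Function.comp_apply, Pi.single_apply]
      rcases eq_or_ne l j with rfl | hl
      · simp
      · rw [if_neg hl]
        obtain ⟨i, hi⟩ := Function.ne_iff.1 (D.e.injective.ne hl)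
        exact Finset.prod_eq_zero (Finset.mem_univ i) (if_neg hi)
    simp only [e1, ← Matrix.mulVec_smul, ← Matrix.mulVec_sum]
    rw [← pi_eq_sum_univ' x, hx, Matrix.mulVec_mulVec, Units.mul_inv, Matrix.one_mulVec]
  rw [hu]
  suffices key : ∀ S : Finset 𝕀, SpFull M (∑ j ∈ S, x j • D.vec fun i => Pi.single (D.e j i) 1) from key _
  intro S
  induction S using Finset.induction_on with
  | empty => rw [Finset.sum_empty]; exact CfsgLib.MaxSub.spFull_zero
  | insert j S hj ih =>
    rw [Finset.sum_insert hj, add_comm]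
    rcases Nat.eq_zero_or_pos t with rfl | ht
    · have hcard : Fintype.card 𝕀 = 1 := by rw [Fintype.card_congr D.e]; simp
      simp only [Fintype.card_sum, Fintype.card_fin] at hcard
      omega
    obtain ⟨a', ha'⟩ := hsmul (x j) (fun i => Pi.single (D.e j i) 1) ht
    rw [ha']
    exact hadd _ _ ih

end Data

end CfsgLib.MaxSub.SpPow
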