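import Cfsg.Agent.Lib.MaxSub.SpPow.Perm

/-!
Tensor powers of a symplectic space: a transvection at one pure tensor gives those at all pure tensors; vectors
avoiding three multilinear maps.
-/

set_option autoImplicit false
set_option linter.unusedSectionVars false

namespace CfsgLib.MaxSub.SpPow

section

variable {F A R ι κ : Type*} [Field F] [AddCommGroup A] [Module F A] [Ring R] [Algebra F R] [Fintype κ]
  [Fintype ι] [DecidableEq ι]
variable {T : Sys F A R ι κ} {H : Subgroup Rˣ}

/-- a member of `H` in the factor `l` carries one root element to another one -/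
theorem Grp.exists_carry (G : Grp T H) {a b : A} (ha : a ≠ 0) (hb : b ≠ 0) (l : ι) :
    ∃ g ∈ H, (∀ m, m ≠ l → T.Cen m (g : R)) ∧ (g : R) * T.E l a a * (↑g⁻¹ : R) = T.E l b b := by
  have step : ∀ a b : A, T.f a b ≠ 0 →
      ∃ g ∈ H, (∀ m, m ≠ l → T.Cen m (g : R)) ∧ (g : R) * T.E l a a * (↑g⁻¹ : R) = T.E l b b := by
    intro a b h
    obtain ⟨g, hg, hgv⟩ := G.root l (b - a) (T.f a b)⁻¹
    refine ⟨g, hg, fun m hm => ?_, ?_⟩
    · rw [hgv]; exact (T.cen_one m).add ((T.cen_E hm _ _).smul _)
    set z := (T.f a b)⁻¹ • T.E l (b - a) (b - a) with hz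
    have hzz : z * z = 0 := by rw [hz, smul_mul_smul, T.n_mul_self, smul_zero]
    have hiv := inv_one_add hzz hgv
    rw [hgv, hiv, hz]
    have hb' : b = a + ((T.f a b)⁻¹ * T.f a (b - a)) • (b - a) := by
      rw [map_sub, T.alt, sub_zero, inv_mul_cancel₀ h, one_smul, add_sub_cancel]
    conv_rhs => rw [hb']
    simp only [add_mul, mul_sub, one_mul, mul_one, smul_mul_assoc, mul_smul_comm, T.mul, map_add,
      map_smul, LinearMap.add_apply, LinearMap.smul_apply, smul_smul, smul_add, T.swap a (b - a)]
    module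
  obtain ⟨z, hz1, hz2⟩ := exists_meet (T := T) ha hb
  obtain ⟨g, hg, hgc, hgv⟩ := step a z hz1
  obtain ⟨g', hg', hgc', hgv'⟩ := step z b (by rw [T.swap]; exact neg_ne_zero.2 hz2)
  refine ⟨g' * g, mul_mem hg' hg, fun m hm => by rw [Units.val_mul]; exact (hgc' m hm).mul (hgc m hm), ?_⟩
  rw [← hgv', ← hgv]
  simp [mul_assoc]

/-- the operator of a family of vectors, one in each factor -/
def full (T : Sys F A R ι κ) (a : ι → A) : R := T.tens (pv T fun l => Sl.nn (a l) (a l))

theorem full_eq {s : ι → Sl A} {a : ι → A} (h : ∀ l, ∃ b, s l = .nn (a l) b) : T.tens (pv T s) = full T a := by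
  have e : pv T s = pv T fun l => Sl.nn (a l) (a l) := by
    funext l
    obtain ⟨b, hb⟩ := h l
    simp [pv, hb, Sys.op]
  rw [full, e]

/-- all pure tensors -/
theorem Grp.full_move (G : Grp T H) {a b : ι → A} (ha : ∀ l, a l ≠ 0) (hb : ∀ l, b l ≠ 0)
    (h : InL F H (full T a)) : InL F H (full T b) := by
  suffices key : ∀ S : Finset ι, InL F H (full T fun l => if l ∈ S then b l else a l) by
    simpa using key Finset.univ
  intro S
  induction S using Finset.induction_on with
  | empty => simpa using h
  | insert l S hl ih =>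
    obtain ⟨g, hg, hgc, hgv⟩ := G.exists_carry (ha l) (hb l) l
    set a' : ι → A := fun m => if m ∈ S then b m else a m with ha'
    have h1 := ih.conj hg
    rw [full, Sys.tens_conj _ l hgc (T.op l (Sl.nn (b l) (b l))) (by
      simpa [pv, Sys.op, ha', hl] using hgv), ← pv_update] at h1
    rw [full]
    convert h1 using 3
    funext m
    rcases eq_or_ne m l with rfl | hm <;> simp [ha', *]

end

section avoid

variable {F A ι : Type*} [Field F] [Fintype F] [AddCommGroup A] [Module F A] [Fintype ι] [DecidableEq ι]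

/-- three proper subspaces do not cover -/
theorem exists_avoid_three (h4 : 4 ≤ Fintype.card F) (W : Fin 3 → Submodule F A) (hW : ∀ r, W r ≠ ⊤) :
    ∃ x, ∀ r, x ∉ W r := by
  classical
  have hex : ∀ r, ∃ x, x ∉ W r := fun r => by
    by_contra h
    simp only [not_exists, not_not] at h
    exact hW r ((Submodule.eq_top_iff').2 h)
  obtain ⟨a, ha0, ha1⟩ : ∃ a, a ∉ W 0 ∧ a ∉ W 1 := by
    obtain ⟨a, ha⟩ := hex 0
    obtain ⟨b, hb⟩ := hex 1
    by_cases h : a ∈ W 1
    · by_cases h' : b ∈ W 0
      · exact ⟨a + b, fun hh => ha ((Submodule.add_mem_iff_left _ h').1 hh),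
          fun hh => hb ((Submodule.add_mem_iff_right _ h).1 hh)⟩
      · exact ⟨b, h', hb⟩
    · exact ⟨a, ha, h⟩
  by_cases ha2 : a ∈ W 2
  swap
  · exact ⟨a, fun r => by fin_cases r <;> assumption⟩
  obtain ⟨b, hb⟩ := hex 2
  have hone : ∀ r, a ∉ W r → ∀ l l' : F, a + l • b ∈ W r → a + l' • b ∈ W r → l = l' := by
    intro r hr l l' h h'
    by_contra hne
    refine hr ?_
    have e : a = (l' - l)⁻¹ • (l' • (a + l • b) - l • (a + l' • b)) := by
      have e1 : l' • (a + l • b) - l • (a + l' • b) = (l' - l) • a := by module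
      rw [e1, inv_smul_smul₀ (sub_ne_zero.2 (Ne.symm hne))]
    rw [e]
    exact (W r).smul_mem _ ((W r).sub_mem ((W r).smul_mem _ h) ((W r).smul_mem _ h'))
  set Bad := (Finset.univ.filter fun l : F => a + l • b ∈ W 0) ∪ (Finset.univ.filter fun l : F => a + l • b ∈ W 1) ∪
    {0} with hBad
  have hBadc : Bad.card < Fintype.card F := by
    have c0 : (Finset.univ.filter fun l : F => a + l • b ∈ W 0).card ≤ 1 :=
      Finset.card_le_one.2 fun l hl l' hl' => hone 0 ha0 l l' (Finset.mem_filter.1 hl).2 (Finset.mem_filter.1 hl').2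
    have c1 : (Finset.univ.filter fun l : F => a + l • b ∈ W 1).card ≤ 1 :=
      Finset.card_le_one.2 fun l hl l' hl' => hone 1 ha1 l l' (Finset.mem_filter.1 hl).2 (Finset.mem_filter.1 hl').2
    have hu := Finset.card_union_le ((Finset.univ.filter fun l : F => a + l • b ∈ W 0) ∪
      (Finset.univ.filter fun l : F => a + l • b ∈ W 1)) {0}
    have hu' := Finset.card_union_le (Finset.univ.filter fun l : F => a + l • b ∈ W 0)
      (Finset.univ.filter fun l : F => a + l • b ∈ W 1)
    rw [Finset.card_singleton] at hu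
    rw [hBad]
    omega
  obtain ⟨l, hl⟩ : ∃ l, l ∉ Bad := by
    by_contra h
    simp only [not_exists, not_not] at h
    rw [Finset.eq_univ_of_forall h, Finset.card_univ] at hBadc
    exact lt_irrefl _ hBadc
  simp only [hBad, Finset.mem_union, Finset.mem_filter, Finset.mem_univ, true_and, Finset.mem_singleton,
    not_or] at hl
  refine ⟨a + l • b, fun r => ?_⟩
  fin_cases r
  exacts [hl.1.1, hl.1.2, fun h => hb (by
    have := (W 2).smul_mem l⁻¹ ((Submodule.add_mem_iff_right _ ha2).1 h)
    rwa [inv_smul_smul₀ hl.2] at this)]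

/-- three multilinear maps which are not zero have a common point where none vanishes -/
theorem exists_pure_avoid (h4 : 4 ≤ Fintype.card F) (g : Fin 3 → (ι → A) → F)
    (hadd : ∀ r z l x y, g r (Function.update z l (x + y)) =
      g r (Function.update z l x) + g r (Function.update z l y))
    (hsmul : ∀ r z l (c : F) x, g r (Function.update z l (c • x)) = c * g r (Function.update z l x))
    (hne : ∀ r, ∃ z, g r z ≠ 0) : ∃ z, ∀ r, g r z ≠ 0 := by
  suffices key : ∀ (J : Finset ι) (base : ι → A), (∀ r, ∃ z, (∀ l ∉ J, z l = base l) ∧ g r z ≠ 0) →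
      ∃ z, (∀ l ∉ J, z l = base l) ∧ ∀ r, g r z ≠ 0 by
    obtain ⟨z, -, hz⟩ := key Finset.univ (fun _ => 0) fun r => by
      obtain ⟨z, hz⟩ := hne r; exact ⟨z, fun l hl => absurd (Finset.mem_univ l) hl, hz⟩
    exact ⟨z, hz⟩
  intro J
  induction J using Finset.induction_on with
  | empty =>
    intro base h
    refine ⟨base, fun l _ => rfl, fun r => ?_⟩
    obtain ⟨z, hz, hgz⟩ := h r
    rwa [show z = base from funext fun l => hz l (Finset.notMem_empty l)] at hgz
  | insert l J hl ih =>
    intro base h
    let W : Fin 3 → Submodule F A := fun r =>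
      { carrier := {y | ∀ z, (∀ m ∉ insert l J, z m = base m) → g r (Function.update z l y) = 0}
        add_mem' := fun {x y} hx hy z hz => by rw [hadd, hx z hz, hy z hz, add_zero]
        zero_mem' := fun z _ => by
          have := hsmul r z l 0 0
          rwa [zero_smul, zero_mul] at this
        smul_mem' := fun c x hx z hz => by rw [hsmul, hx z hz, mul_zero] }
    obtain ⟨y, hy⟩ := exists_avoid_three h4 W fun r htop => by
      obtain ⟨z, hz, hgz⟩ := h r
      have hmem : z l ∈ W r := htop ▸ Submodule.mem_top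
      exact hgz (by simpa using hmem z hz)
    obtain ⟨z, hz, hgz⟩ := ih (Function.update base l y) fun r => by
      have := hy r
      by_contra hcon
      simp only [not_exists, not_and, not_not] at hcon
      refine this fun z hz => hcon _ fun m hm => ?_
      rcases eq_or_ne m l with rfl | hml
      · simp
      · rw [Function.update_of_ne hml, Function.update_of_ne hml]
        exact hz m fun h' => (Finset.mem_insert.1 h').elim hml hm
    refine ⟨z, fun m hm => ?_, hgz⟩
    rw [Finset.mem_insert, not_or] at hm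
    rw [hz m hm.2, Function.update_of_ne hm.1]

end avoid

end CfsgLib.MaxSub.SpPow
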