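import Cfsg.Agent.Lib.MaxSub.SpPow.ScalarSylow

/-!
Two square-zero operators with `C = nd + dn` not nilpotent in a group meeting `F[C] n`, `F[C] d` in `F n`,
`F d` only: `C n = c n` and `C d = c d` for a non-zero scalar `c`.
-/

set_option autoImplicit false
set_option linter.unusedSectionVars false
set_option maxHeartbeats 1000000

namespace CfsgLib.MaxSub.SpPow

open CfsgLib.Chev

variable {F R : Type*} [Field F] [Ring R] [Algebra F R]

namespace Quad

variable (Q : Quad F R)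

/-- the two operators exchanged -/
def swap : Quad F R := ⟨Q.d, Q.n, Q.hd, Q.hn⟩

theorem swap_C : Q.swap.C = Q.C := add_comm _ _

theorem swap_K : Q.swap.K = Q.K := by rw [K, K, swap_C]

theorem swap_gens : Q.swap.gens = Q.gens := by
  ext g
  exact ⟨fun ⟨c, h⟩ => ⟨c, h.symm⟩, fun ⟨c, h⟩ => ⟨c, h.symm⟩⟩

theorem swap_grp : Q.swap.grp = Q.grp := by rw [grp, grp, swap_gens]

theorem exists_idem {M : Type*} [Monoid M] [Finite M] (x : M) : ∃ k, 0 < k ∧ x ^ k * x ^ k = x ^ k := by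
  obtain ⟨a, b, hne, h⟩ := Finite.exists_ne_map_eq_of_infinite fun m : ℕ => x ^ m
  have key : ∀ a b : ℕ, a < b → x ^ a = x ^ b → ∃ k, 0 < k ∧ x ^ k * x ^ k = x ^ k := by
    intro a b hab e
    obtain ⟨d, rfl⟩ := Nat.exists_eq_add_of_lt hab
    have step : ∀ j, a ≤ j → x ^ (j + (d + 1)) = x ^ j := by
      intro j hj
      obtain ⟨r, rfl⟩ := Nat.exists_eq_add_of_le hj
      rw [show a + r + (d + 1) = r + (a + d + 1) by ring, pow_add, ← e, ← pow_add, add_comm r a]
    have iter : ∀ i j, a ≤ j → x ^ (j + i * (d + 1)) = x ^ j := by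
      intro i
      induction i with
      | zero => simp
      | succ i ih =>
        intro j hj
        rw [show j + (i + 1) * (d + 1) = (j + i * (d + 1)) + (d + 1) by ring, step _ (by omega), ih j hj]
    refine ⟨(a + 1) * (d + 1), by positivity, ?_⟩
    rw [← pow_add]
    exact iter (a + 1) _ (by nlinarith)
  rcases Ne.lt_or_gt hne with hab | hab
  · exact key a b hab h
  · exact key b a hab h.symm

/-- an idempotent power of `C` -/
theorem exists_unit [Finite R] : ∃ (U : Q.Unit) (N : ℕ), (U.e : R) = Q.C ^ N ∧ 0 < N := by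
  obtain ⟨k, hk, hkk⟩ := exists_idem Q.C
  obtain ⟨j, rfl⟩ := Nat.exists_eq_succ_of_ne_zero hk.ne'
  refine ⟨⟨⟨Q.C ^ (j + 1), pow_mem Q.C_mem _⟩, ⟨Q.C ^ (j + (j + 1)), pow_mem Q.C_mem _⟩, Subtype.ext hkk, ?_,
    Subtype.ext ?_⟩, j + 1, rfl, hk⟩
  · show Q.C ^ (j + (j + 1)) * Q.C = Q.C ^ (j + 1)
    rw [← pow_succ, show j + (j + 1) + 1 = (j + 1) + (j + 1) by ring, pow_add, hkk]
  · show Q.C ^ (j + 1) * Q.C ^ (j + (j + 1)) = Q.C ^ (j + (j + 1))
    rw [pow_add Q.C j (j + 1), ← mul_assoc, ← pow_add, add_comm (j + 1) j, pow_add, mul_assoc, hkk]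

variable {Q}

/-- an element of `1 + mu C` vanishing in one residue field vanishes in all of them -/
theorem Unit.second_residue [Finite R] [Nontrivial R] [Fintype F] (p : ℕ) [Fact p.Prime] [CharP F p] (hp : p ≠ 2)
    (h4 : 4 ≤ Nat.card F) (U : Q.Unit) {κ : Type*} [Field κ] [Fintype κ] (φ : Q.K →+* κ) (he : φ U.e = 1)
    (hl : ∃ l : F, l ≠ 0 ∧ φ ⟨Q.C, Q.C_mem⟩ = φ (algebraMap F Q.K l)) (K1 : Subgroup Q.grp) [K1.Normal]
    (hK1 : ¬ p ∣ Nat.card K1) {k : Q.grp} (hk : k ∈ K1) {A : Matrix.SpecialLinearGroup (Fin 2) Q.K} {b : Q.K}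
    (hkA : U.chi φ he k = Matrix.SpecialLinearGroup.map φ (A * (kL b)⁻¹)) :
    φ (A.1 0 1) = 0 := by
  classical
  haveI : Finite Rˣ := Finite.of_injective _ Units.val_injective
  obtain ⟨l', hl', hl''⟩ := hl
  have h2 : (2 : F) ≠ 0 := fun e => hp
    ((Nat.prime_dvd_prime_iff_eq Fact.out Nat.prime_two).1 ((CharP.cast_eq_zero_iff F p 2).1 (by exact_mod_cast e)))
  set ι₀ := φ.comp (algebraMap F Q.K) with hι
  set χ := U.chi φ he
  obtain ⟨hc, F1, hle, hCF, hU, hL⟩ := U.fields φ he h2 h4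
  let M := Matrix.SpecialLinearGroup.map (n := Fin 2) ι₀
  have hMinj : Function.Injective M := by
    intro x y h
    refine Subtype.ext ?_
    ext i j
    exact ι₀.injective (congrArg (fun z : Matrix.SpecialLinearGroup (Fin 2) κ => z.1 i j) h :)
  have eU : ∀ c, M (slU c) = slU (ι₀ c) := fun c => Subtype.ext (by
    ext i j
    show ι₀ ((slU c).1 i j) = _
    fin_cases i <;> fin_cases j <;> simp [slU])
  have eL : ∀ c, M (slL c) = slL (ι₀ c) := fun c => Subtype.ext (by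
    ext i j
    show ι₀ ((slL c).1 i j) = _
    fin_cases i <;> fin_cases j <;> simp [slL])
  have hsm : ∀ c : F, φ (c • (1 : Q.K)) = ι₀ c := fun c => by
    rw [hι, RingHom.comp_apply, Algebra.algebraMap_eq_smul_one]
  have hrange : χ.range = M.range := by
    refine le_antisymm ?_ ?_
    · rw [MonoidHom.range_eq_map χ, Subgroup.map_le_iff_le_comap]
      have htop : (⊤ : Subgroup Q.grp) = Subgroup.closure (Subtype.val ⁻¹' Q.gens) :=
        (Subgroup.closure_closure_coe_preimage (k := Q.gens)).symm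
      rw [htop, Subgroup.closure_le]
      intro y hy
      rw [SetLike.mem_coe, Subgroup.mem_comap]
      obtain ⟨c, hc' | hc'⟩ := hy
      · exact ⟨slU c, by rw [eU, ← hsm c, U.chi_n φ he y c hc']⟩
      · refine ⟨slL (c * l'), ?_⟩
        have hd' := U.chi_d φ he y c hc'
        have hval : ι₀ (c * l') = φ (c • (1 : Q.K)) * φ ⟨Q.C, Q.C_mem⟩ := by
          rw [map_mul, hsm c, hl'', hι, RingHom.comp_apply, RingHom.comp_apply]
        rw [eL, hval, ← hd']
    · rw [MonoidHom.range_eq_map, Subgroup.map_le_iff_le_comap,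
        CfsgLib.Classical.sl_transvection_induction (χ.range.comap M) fun i j hij c => ?_]
      rw [Subgroup.mem_comap]
      fin_cases i <;> fin_cases j <;> first | exact absurd rfl hij | skip
      · rw [show M (Matrix.SpecialLinearGroup.transvection hij c) = slU (ι₀ c) by
          rw [← eU]; congr 1; refine Subtype.ext ?_; ext a b
          fin_cases a <;> fin_cases b <;> simp [slU, Matrix.SpecialLinearGroup.transvection, Matrix.transvection]]
        exact hU _ (hle ⟨c, rfl⟩)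
      · rw [show M (Matrix.SpecialLinearGroup.transvection hij c) = slL (ι₀ c) by
          rw [← eL]; congr 1; refine Subtype.ext ?_; ext a b
          fin_cases a <;> fin_cases b <;> simp [slL, Matrix.SpecialLinearGroup.transvection, Matrix.transvection]]
        exact hL _ (hle ⟨c, rfl⟩)
  set Nm := (K1.map χ).comap M with hNm
  haveI : Nm.Normal := by
    refine ⟨fun x hx g => ?_⟩
    obtain ⟨y, hy, hyx⟩ := hx
    obtain ⟨z, hz⟩ : M g ∈ χ.range := hrange ▸ ⟨g, rfl⟩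
    exact ⟨z * y * z⁻¹, Subgroup.Normal.conj_mem (H := K1) inferInstance y hy z, by
      rw [map_mul, map_mul, map_inv, hyx, hz, map_mul, map_mul, map_inv]⟩
  haveI : CharP F p := inferInstance
  have hNc : Nm ≤ Subgroup.center _ := sl2_normal_central p (by rwa [← Nat.card_eq_fintype_card]) Nm fun hd => by
    refine hK1 (hd.trans ?_)
    refine Dvd.dvd.trans ?_ (Subgroup.card_map_dvd (H := K1) χ)
    rw [← Nat.card_congr ((Nm.equivMapOfInjective M hMinj).symm.toEquiv)]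
    exact Subgroup.card_dvd_of_le (Subgroup.map_comap_le M _)
  obtain ⟨x, hx⟩ : χ k ∈ M.range := hrange ▸ ⟨k, rfl⟩
  obtain ⟨r, -, hr⟩ := Matrix.SpecialLinearGroup.mem_center_iff.1 (hNc (show x ∈ Nm from ⟨k, hk, hx.symm⟩))
  have h : (χ k * Matrix.SpecialLinearGroup.map φ (kL b)).1 0 1 = φ (A.1 0 1) := by
    rw [hkA, map_mul, map_inv, inv_mul_cancel_right]
    rfl
  have hχk : (χ k).1 = ι₀.mapMatrix x.1 := by rw [← hx]; rfl
  rw [Matrix.SpecialLinearGroup.coe_mul, hχk, ← hr, Matrix.mul_apply] at h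
  rw [← h, Fin.sum_univ_two]
  simp [Matrix.scalar_apply,
    show ((Matrix.SpecialLinearGroup.map φ) (kL b)).1 0 1 = 0 from map_zero φ]

/-- the scalar, from one residue field -/
theorem Unit.scalar_aux [Finite R] [Nontrivial R] [Fintype F] (p : ℕ) [Fact p.Prime] [CharP F p] (hp : p ≠ 2)
    (h4 : 4 ≤ Nat.card F) (U : Q.Unit) (hout : ∀ g ∈ Q.grp, (1 - (U.e : R)) * (g : Rˣ) = 1 - (U.e : R))
    (hdiv : ∀ {a : ℕ}, p ^ a ∣ Nat.card Q.grp → p ^ a ≤ Nat.card F)
    {κ : Type*} [Field κ] (φ1 : Q.K →+* κ) (he1 : φ1 U.e = 1) {l : F} (hl0 : l ≠ 0)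
    (hl : φ1 ⟨Q.C, Q.C_mem⟩ = φ1 (algebraMap F Q.K l)) (hker1 : ¬ p ∣ Nat.card (U.chi φ1 he1).ker) :
    Q.C * U.e = l • (U.e : R) := by
  classical
  haveI : Finite Rˣ := Finite.of_injective _ Units.val_injective
  have hp' : p.Prime := Fact.out
  set Cs : Q.K := ⟨Q.C, Q.C_mem⟩ with hCs
  -- a word
  set mu : F := -l⁻¹ with hmu
  obtain ⟨a, ha, han⟩ := Q.mem_gens_n 1
  obtain ⟨v, hv, hvd⟩ := Q.mem_gens_d mu
  set a' : Q.grp := ⟨a, Subgroup.subset_closure ha⟩
  set v' : Q.grp := ⟨v, Subgroup.subset_closure hv⟩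
  set k : Q.grp := a' * v' * a' * a' * (a' * v' * a')⁻¹ * v'⁻¹ with hk
  set ν : Q.K := 1 + mu • Cs with hν
  have hmc : mu • Cs = ν - 1 := by rw [hν]; abel
  set Xg : Matrix.SpecialLinearGroup (Fin 2) Q.K := kU 1 * kL (mu • Cs) * kU 1 with hXg
  have rep_a : U.Rep ((a' : Rˣ) : R) (kU 1) := by
    have h := (U.rep_root U.rep_one (1 : F)).1
    rw [one_mul, one_mul, ← han] at h
    simpa using h
  have rep_v : U.Rep ((v' : Rˣ) : R) (kL (mu • Cs)) := by
    have h := (U.rep_root U.rep_one mu).2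
    rwa [one_mul, one_mul, ← hvd] at h
  have hkrep : U.Rep (((k : Q.grp) : Rˣ) : R) (Xg * kU 1 * Xg⁻¹ * (kL (mu • Cs))⁻¹) := by
    have hg := U.rep_mul' (U.rep_mul' rep_a rep_v) rep_a
    exact U.rep_mul' (U.rep_mul' (U.rep_mul' hg rep_a) (U.rep_inv hg)) (U.rep_inv rep_v)
  have ent : (Xg * kU 1 * Xg⁻¹).1 = !![1 - ν * (ν - 1), ν * ν; -((ν - 1) * (ν - 1)), 1 + ν * (ν - 1)] := by
    have hXv : Xg.1 = !![ν, 1 + ν; ν - 1, ν] := by
      rw [hXg, hmc, Matrix.SpecialLinearGroup.coe_mul, Matrix.SpecialLinearGroup.coe_mul]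
      ext i j
      fin_cases i <;> fin_cases j <;> simp [kU, kL, Matrix.mul_apply, Fin.sum_univ_two, add_comm]
    rw [Matrix.SpecialLinearGroup.coe_mul, Matrix.SpecialLinearGroup.coe_mul, Matrix.SpecialLinearGroup.coe_inv,
      hXv, Matrix.adjugate_fin_two]
    refine Matrix.ext fun i j => ?_
    fin_cases i <;> fin_cases j <;> simp [kU, Matrix.mul_apply, Fin.sum_univ_two] <;> (try ring)
  have hν0 : φ1 ν = 0 := by
    rw [hν, map_add, map_one, Algebra.smul_def, map_mul, hl, ← map_mul, ← map_mul,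
      show mu * l = -1 by simp [hmu, hl0], map_neg, map_one, map_neg, map_one, add_neg_cancel]
  have hk1 : k ∈ (U.chi φ1 he1).ker := by
    rw [MonoidHom.mem_ker, U.chi_eq φ1 he1 k hkrep, map_mul, map_inv, mul_inv_eq_one]
    refine Subtype.ext ?_
    ext i j
    show φ1 ((Xg * kU 1 * Xg⁻¹).1 i j) = φ1 ((kL (mu • Cs)).1 i j)
    rw [ent]
    fin_cases i <;> fin_cases j <;> simp [kL, hmc, hν0]
  -- it vanishes in the other residue fields
  have hνnil : IsNilpotent (U.e * ν) := by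
    by_contra hnn
    obtain ⟨m, hm, he, hmν⟩ := U.exists_residue hnn
    let _ : Field (Q.K ⧸ m) := Ideal.Quotient.field m
    haveI : Finite (Q.K ⧸ m) := Finite.of_surjective _ Ideal.Quotient.mk_surjective
    let _ : Fintype (Q.K ⧸ m) := Fintype.ofFinite _
    have h := U.second_residue p hp h4 (Ideal.Quotient.mk m) he
      (U.residue p hp h4 hdiv (Ideal.Quotient.mk m) he).1 (U.chi φ1 he1).ker hker1 hk1
      (U.chi_eq _ he k hkrep)
    rw [ent] at h
    simp at h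
    exact hmν h
  -- so it is trivial, as its order is a power of `p` and the kernel has order prime to `p`
  obtain ⟨r, hr⟩ : IsNilpotent ((U.e : R) * ν) := by
    obtain ⟨r, hr⟩ := hνnil
    exact ⟨r, by simpa using congrArg Subtype.val hr⟩
  set Z : Matrix (Fin 2) (Fin 2) Q.K := !![-(ν - 1) - ν * (ν - 1), ν; -(ν * (ν - 1)), ν - 1] with hZ
  have hm : (Xg * kU 1 * Xg⁻¹ * (kL (mu • Cs))⁻¹).1 = 1 + ν • Z := by
    rw [Matrix.SpecialLinearGroup.coe_mul, ent, Matrix.SpecialLinearGroup.coe_inv, hmc]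
    refine Matrix.ext fun i j => ?_
    fin_cases i <;> fin_cases j <;>
      simp [kL, hZ, Matrix.adjugate_fin_two, Matrix.mul_apply, Fin.sum_univ_two] <;> (try ring)
  have hz : Commute ((U.e : R) * ν) (U.psi Z) := by
    have hK : (U.e : R) * ν ∈ Q.K := mul_mem U.e.2 ν.2
    have cn := (K_n hK).symm
    have cd := (K_d hK).symm
    generalize (U.e : R) * ν = t at hK cn cd
    have cn' : Commute t Q.n := cn
    have cd' : Commute t Q.d := cd
    have cK : ∀ x : Q.K, Commute t (x : R) := fun x => K_K hK x.2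
    exact ((((cK _).mul_right ((cK _).mul_right (cn'.mul_right cd'))).add_right
      ((cK _).mul_right ((cK _).mul_right cn'))).add_right ((cK _).mul_right ((cK _).mul_right cd'))).add_right
      ((cK _).mul_right ((cK _).mul_right (cd'.mul_right cn')))
  have hkz : ((k : Rˣ) : R) = 1 + (U.e : R) * ν * U.psi Z := by
    have h1 : U.psi (1 + ν • Z) = (U.e : R) * ((k : Rˣ) : R) := hm ▸ hkrep
    rw [U.psi_add, U.psi_one, U.psi_K_mul] at h1
    have h2 := hout k k.2
    rw [sub_mul, one_mul, ← h1] at h2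
    have h3 : (U.e : R) * ν * U.psi Z = (ν : R) * U.psi Z := by
      have he' : (U.e : R) * ((U.e : R) + (ν : R) * U.psi Z) = U.e + (ν : R) * U.psi Z := by
        rw [h1, ← mul_assoc, U.e_e]
      rw [mul_add, U.e_e, add_right_inj, ← mul_assoc] at he'
      exact he'
    rw [eq_add_of_sub_eq h2, h3]
    abel
  have hk0 : k = 1 := by
    obtain ⟨j, hj⟩ : ∃ j, r ≤ p ^ j := ⟨r, (Nat.lt_pow_self hp'.one_lt).le⟩
    have h1 : k ^ p ^ j = 1 := Subtype.ext (Units.ext (by
      show (((k : Rˣ) ^ p ^ j : Rˣ) : R) = 1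
      rw [Units.val_pow_eq_pow_val, hkz, pow_char (F := F) p, hz.mul_pow]
      obtain ⟨i, hi⟩ := Nat.exists_eq_add_of_le hj
      rw [hi, pow_add, hr, zero_mul, zero_mul, add_zero]))
    obtain ⟨i, hi, ho⟩ := (Nat.dvd_prime_pow hp').1 (orderOf_dvd_of_pow_eq_one h1)
    rcases Nat.eq_zero_or_pos i with rfl | hi0
    · exact orderOf_eq_one_iff.1 (by rw [ho, pow_zero])
    · refine absurd ((dvd_pow_self p hi0.ne').trans ?_) hker1
      rw [← ho, ← Subgroup.orderOf_mk k hk1]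
      exact orderOf_dvd_natCard _
  rw [hk0, OneMemClass.coe_one, Units.val_one] at hkrep
  have hu := fun i j => U.rep_unique hkrep U.rep_one i j
  have hprod : ∀ (i j : Fin 2),
      (((Xg * kU 1 * Xg⁻¹).1 i j : Q.K) : R) * U.e = (((kL (mu • Cs)).1 i j : Q.K) : R) * U.e := by
    intro i j
    obtain ⟨P, hP⟩ : ∃ P, P = Xg * kU 1 * Xg⁻¹ * (kL (mu • Cs))⁻¹ := ⟨_, rfl⟩
    have hA : Xg * kU 1 * Xg⁻¹ = P * kL (mu • Cs) := by rw [hP, inv_mul_cancel_right]
    rw [← hP] at hu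
    conv_rhs => rw [← one_mul (kL (mu • Cs))]
    rw [hA, Matrix.SpecialLinearGroup.coe_mul P (kL (mu • Cs)), Matrix.SpecialLinearGroup.coe_mul 1,
      Matrix.mul_apply, Matrix.mul_apply]
    simp only [Fin.sum_univ_two, Subalgebra.coe_add, Subalgebra.coe_mul, add_mul, mul_assoc]
    rw [K_K ((kL (mu • Cs)).1 0 j).2 U.e.2, K_K ((kL (mu • Cs)).1 1 j).2 U.e.2]
    simp only [← mul_assoc, hu]
  have h00 := hprod 0 0
  have h01 := hprod 0 1
  rw [ent] at h00 h01
  simp [kL] at h00 h01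
  rw [sub_mul] at h00
  simp only [one_mul, sub_eq_self] at h00
  have hνe : (ν : R) * U.e = 0 := by
    have e1 : (ν : R) * U.e = (ν : R) * ν * U.e - (ν : R) * ((ν : R) - 1) * U.e := by
      rw [mul_sub, mul_one, sub_mul]; abel
    rw [e1, h01, h00, sub_zero]
  show Q.C * U.e = l • (U.e : R)
  rw [hν] at hνe
  simp only [hmu, neg_smul, Subalgebra.coe_add, NegMemClass.coe_neg, OneMemClass.coe_one, SetLike.val_smul, add_mul,
    one_mul, neg_mul, smul_mul_assoc] at hνe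
  have h := congrArg (fun x => l • x) hνe
  simp only [smul_add, smul_neg, smul_inv_smul₀ hl0, smul_zero] at h
  exact (eq_of_sub_eq_zero (by rw [sub_eq_add_neg]; exact h)).symm

/-- `C` is one scalar on both operators -/
theorem pair_scalar [Finite R] [Nontrivial R] [Fintype F] (p : ℕ) [Fact p.Prime] [CharP F p] (hp : p ≠ 2)
    (h4 : 4 ≤ Nat.card F) (hn0 : Q.n ≠ 0) (hC : ¬ IsNilpotent Q.C)
    (hZn : ∀ g ∈ Q.grp, ∀ s ∈ Q.K, (g : R) = 1 + s * Q.n → ∃ c : F, s * Q.n = c • Q.n)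
    (hZd : ∀ g ∈ Q.grp, ∀ s ∈ Q.K, (g : R) = 1 + s * Q.d → ∃ c : F, s * Q.d = c • Q.d) :
    ∃ c : F, c ≠ 0 ∧ Q.C * Q.n = c • Q.n ∧ Q.C * Q.d = c • Q.d := by
  classical
  haveI : Finite Rˣ := Finite.of_injective _ Units.val_injective
  have hp' : p.Prime := Fact.out
  obtain ⟨U, N, hUN, hN0⟩ := Q.exists_unit
  have he0 : (U.e : R) ≠ 0 := fun h => hC ⟨N, by rw [← hUN, h]⟩
  have hN : (1 - (U.e : R)) * Q.C ^ N = 0 := by rw [← hUN, sub_mul, one_mul, U.e_e, sub_self]
  have hen := U.e_mul_n p hp h4 he0 hN hZn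
  have hed : (U.e : R) * Q.d = Q.d := by
    obtain ⟨k, hk⟩ : ∃ U' : Q.swap.Unit, (U'.e : R) = U.e :=
      ⟨⟨⟨U.e, Q.swap_K.symm ▸ U.e.2⟩, ⟨U.c', Q.swap_K.symm ▸ U.c'.2⟩, Subtype.ext (congrArg Subtype.val U.he :),
        by rw [swap_C]; exact U.hc, Subtype.ext (congrArg Subtype.val U.hc' :)⟩, rfl⟩
    rw [← hk]
    refine k.e_mul_n (F := F) p hp h4 (hk ▸ he0) (N := N) (by rw [hk, swap_C]; exact hN) ?_
    rw [swap_grp, swap_K]
    exact hZd
  -- the group is trivial outside `e`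
  have hout : ∀ g ∈ Q.grp, (1 - (U.e : R)) * (g : Rˣ) = 1 - (U.e : R) := fun g hg =>
    induction (P := fun x => (1 - (U.e : R)) * x = 1 - (U.e : R)) (mul_one _)
      (fun x hx c => by
        rw [← mul_assoc, hx, mul_add, mul_one, mul_smul_comm, sub_mul, one_mul, hen, sub_self, smul_zero, add_zero])
      (fun x hx c => by
        rw [← mul_assoc, hx, mul_add, mul_one, mul_smul_comm, sub_mul, one_mul, hed, sub_self, smul_zero, add_zero])
      hg
  have hdiv : ∀ {a : ℕ}, p ^ a ∣ Nat.card Q.grp → p ^ a ≤ Nat.card F := fun ha =>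
    U.pow_le_card p hp hn0 hout hZn ha
  set Cs : Q.K := ⟨Q.C, Q.C_mem⟩ with hCs
  obtain ⟨m1, hm1, he1, -⟩ := U.exists_residue (s := 1) (by
    rw [mul_one]
    rintro ⟨k, hk⟩
    rcases k with _ | k
    · rw [pow_zero] at hk
      exact one_ne_zero (α := R) (congrArg Subtype.val hk)
    · rw [IsIdempotentElem.pow_succ_eq k U.he] at hk
      exact he0 (congrArg Subtype.val hk))
  let _ : Field (Q.K ⧸ m1) := Ideal.Quotient.field m1
  haveI : Finite (Q.K ⧸ m1) := Finite.of_surjective _ Ideal.Quotient.mk_surjective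
  let _ : Fintype (Q.K ⧸ m1) := Fintype.ofFinite _
  obtain ⟨⟨l, hl0, hl⟩, hker1⟩ := U.residue p hp h4 hdiv (Ideal.Quotient.mk m1) he1
  have hCe := U.scalar_aux p hp h4 hout hdiv (Ideal.Quotient.mk m1) he1 hl0 hl hker1
  refine ⟨l, hl0, ?_⟩
  exact ⟨by rw [← hen, ← mul_assoc, hCe, smul_mul_assoc, hen], by rw [← hed, ← mul_assoc, hCe, smul_mul_assoc, hed]⟩

end Quad

end CfsgLib.MaxSub.SpPow
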