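import Cfsg.Agent.Lib.MaxSub.SpPow.Radical
import Cfsg.Agent.Lib.MaxSub.SpPow.ScalarMain

/-!
Tensor powers of a symplectic space: a conjugate of a root element of a factor which does not generate a `p`-group
with a root element of a factor is itself a root element of a factor.
-/

set_option autoImplicit false
set_option linter.unusedSectionVars false

namespace CfsgLib.MaxSub.SpPow

variable {F A R ι κ : Type*} [Field F] [AddCommGroup A] [Module F A] [Ring R] [Algebra F R] [Fintype κ]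

/-- a root element of a factor -/
def IsPure (T : Sys F A R ι κ) (x : R) : Prop := ∃ i e, e ≠ 0 ∧ ∃ c : F, c ≠ 0 ∧ x = c • T.E i e e

/-- a conjugate of a root element of a factor -/
def IsRoot (T : Sys F A R ι κ) (H : Subgroup Rˣ) (x : R) : Prop :=
  ∃ g ∈ H, ∃ y, IsPure T y ∧ x = (g : R) * y * (↑g⁻¹ : R)

variable {T : Sys F A R ι κ} {H : Subgroup Rˣ}

theorem IsPure.isRoot {x : R} (h : IsPure T x) : IsRoot T H x := ⟨1, one_mem H, x, h, by simp⟩

theorem IsPure.smul {x : R} (h : IsPure T x) {c : F} (hc : c ≠ 0) : IsPure T (c • x) := by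
  obtain ⟨i, e, he, a, ha, rfl⟩ := h
  exact ⟨i, e, he, c * a, mul_ne_zero hc ha, smul_smul c a _⟩

theorem IsRoot.smul {x : R} (h : IsRoot T H x) {c : F} (hc : c ≠ 0) : IsRoot T H (c • x) := by
  obtain ⟨g, hg, y, hy, rfl⟩ := h
  exact ⟨g, hg, c • y, hy.smul hc, by rw [mul_smul_comm, smul_mul_assoc]⟩

theorem IsRoot.conj {x : R} (h : IsRoot T H x) {g : Rˣ} (hg : g ∈ H) :
    IsRoot T H ((g : R) * x * (↑g⁻¹ : R)) := by
  obtain ⟨g', hg', y, hy, rfl⟩ := h
  exact ⟨g * g', mul_mem hg hg', y, hy, by simp [mul_assoc]⟩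

theorem IsPure.sq {x : R} (h : IsPure T x) : x * x = 0 := by
  obtain ⟨i, e, -, c, -, rfl⟩ := h
  rw [smul_mul_smul, T.n_mul_self, smul_zero]

theorem IsRoot.sq {x : R} (h : IsRoot T H x) : x * x = 0 := by
  obtain ⟨g, -, y, hy, rfl⟩ := h
  simp only [mul_assoc, Units.inv_mul_cancel_left]
  rw [← mul_assoc y, hy.sq, zero_mul, mul_zero]

theorem IsPure.ne_zero [Nontrivial R] {x : R} (h : IsPure T x) : x ≠ 0 := by
  obtain ⟨i, e, he, c, hc, rfl⟩ := h
  exact smul_ne_zero hc (T.E_ne_zero i he he)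

theorem IsRoot.ne_zero [Nontrivial R] {x : R} (h : IsRoot T H x) : x ≠ 0 := by
  obtain ⟨g, -, y, hy, rfl⟩ := h
  simpa using hy.ne_zero

theorem IsRoot.mem (G : Grp T H) {x : R} (h : IsRoot T H x) (c : F) : InH H (1 + c • x) := by
  obtain ⟨g, hg, y, ⟨i, e, -, a, -, rfl⟩, rfl⟩ := h
  convert (G.root i e (c * a)).conj hg using 1
  rw [mul_add, mul_one, add_mul, Units.mul_inv, mul_smul_comm, mul_smul_comm, smul_mul_assoc, smul_mul_assoc,
    smul_smul]

theorem Grp.ad_eq_neg (G : Grp T H) (h2 : (2 : F) ≠ 0) {z : R} (h : ∀ c : F, InH H (1 + c • z)) : T.ad z = -z := by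
  obtain ⟨u, hu, huz⟩ := h 1
  obtain ⟨u', hu', huz'⟩ := h (-1)
  have a := G.ad_radical hu huz
  have b := G.ad_radical hu' huz'
  simp only [one_smul, neg_smul, map_neg, neg_mul_neg] at a b
  refine eq_neg_of_add_eq_zero_left ?_
  rw [← inv_smul_smul₀ h2 (T.ad z + z), two_smul]
  convert smul_zero (A := R) (2 : F)⁻¹
  calc T.ad z + z + (T.ad z + z) = (T.ad z + z + T.ad z * z) - (-T.ad z + -z + T.ad z * z) := by abel
    _ = 0 := by rw [a, b, sub_zero]

/-- the centres of the root parabolics of all roots -/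
theorem Grp.root_center (Z : Ctr T H) {d d' : R} (hd : IsRoot T H d) {C : R} (hC : C * d = d * d' * d) {s : R}
    (hs : s ∈ Algebra.adjoin F {C}) (hin : InH H (1 + s * d)) : ∃ c : F, s * d = c • d := by
  obtain ⟨g, hg, y, ⟨i, e, he, a, ha, rfl⟩, rfl⟩ := hd
  have key : ∃ w, T.Cen i w ∧ (↑g⁻¹ : R) * s * (g : R) * T.E i e e = T.E i e e * w := by
    clear hin
    induction hs using Algebra.adjoin_induction with
    | mem x hx =>
      rw [Set.mem_singleton_iff] at hx
      refine ⟨a • T.blk i e e ((↑g⁻¹ : R) * d' * (g : R)), (T.cen_blk _ _ _ _).smul a, ?_⟩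
      have h := congrArg (fun t => a⁻¹ • ((↑g⁻¹ : R) * t * (g : R))) hC
      simp only [mul_assoc, mul_smul_comm, smul_mul_assoc, Units.inv_mul_cancel_left, Units.inv_mul, mul_one,
        smul_smul, inv_mul_cancel₀ ha, one_smul] at h
      rw [hx, mul_assoc, mul_assoc, h, mul_smul_comm (a : F) (T.E i e e), T.E_blk]
      simp only [mul_smul_comm, smul_mul_assoc, smul_smul, mul_assoc]
      congr 1
      field_simp
    | algebraMap r =>
      refine ⟨r • 1, (T.cen_one i).smul r, ?_⟩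
      simp [Algebra.algebraMap_eq_smul_one]
    | add x y _ _ hx hy =>
      obtain ⟨w, hw, h⟩ := hx
      obtain ⟨w', hw', h'⟩ := hy
      exact ⟨w + w', hw.add hw', by rw [mul_add, add_mul, add_mul, h, h', mul_add]⟩
    | mul x y _ _ hx hy =>
      obtain ⟨w, hw, h⟩ := hx
      obtain ⟨w', hw', h'⟩ := hy
      refine ⟨w * w', hw.mul hw', ?_⟩
      calc (↑g⁻¹ : R) * (x * y) * (g : R) * T.E i e e
          = (↑g⁻¹ : R) * x * (g : R) * ((↑g⁻¹ : R) * y * (g : R) * T.E i e e) := by simp [mul_assoc]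
        _ = (↑g⁻¹ : R) * x * (g : R) * T.E i e e * w' := by rw [h']; simp [mul_assoc]
        _ = T.E i e e * (w * w') := by rw [h, mul_assoc]
  obtain ⟨w, hw, h⟩ := key
  have hin' : InH H (1 + T.E i e e * (a • w)) := by
    convert hin.conj (inv_mem hg) using 1
    rw [inv_inv, mul_add, mul_one, add_mul, Units.inv_mul, mul_smul_comm, ← h]
    simp [mul_assoc]
  obtain ⟨c, hc⟩ := Z i e he (a • w) (hw.smul a) hin'
  rw [mul_smul_comm, ← h] at hc
  refine ⟨a⁻¹ * c, ?_⟩
  have h' := congrArg (fun t => (g : R) * t * (↑g⁻¹ : R)) hc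
  simp only [mul_assoc, mul_smul_comm, smul_mul_assoc, Units.mul_inv_cancel_left] at h' ⊢
  rw [h', smul_smul]
  congr 1
  field_simp

/-- two roots generate a `p`-group or span a Jordan pair -/
theorem Grp.pair_jordan [Finite R] [Nontrivial R] [Fintype F] (G : Grp T H) (Z : Ctr T H) (p : ℕ) [Fact p.Prime]
    [CharP F p] (hp : p ≠ 2) (h4 : 4 ≤ Nat.card F) {n d : R} (hn : IsRoot T H n) (hd : IsRoot T H d) :
    IsNilpotent (n * d + d * n) ∨ ∃ l : F, l ≠ 0 ∧ n * d * n = l • n ∧ d * n * d = l • d := by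
  let Q : Quad F R := ⟨n, d, hn.sq, hd.sq⟩
  refine or_iff_not_imp_left.2 fun hC => ?_
  have hle : Q.grp ≤ H := by
    rw [Quad.grp, Subgroup.closure_le]
    rintro g ⟨c, hc | hc⟩
    · obtain ⟨u, hu, huc⟩ := hn.mem G c
      exact (Units.ext (huc.trans hc.symm) : u = g) ▸ hu
    · obtain ⟨u, hu, huc⟩ := hd.mem G c
      exact (Units.ext (huc.trans hc.symm) : u = g) ▸ hu
  obtain ⟨c, hc, h1, h2⟩ := Q.pair_scalar p hp h4 hn.ne_zero hC
    (fun g hg s hs h => Grp.root_center Z hn Q.C_mul_n hs ⟨g, hle hg, h⟩)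
    (fun g hg s hs h => Grp.root_center Z hd Q.C_mul_d hs ⟨g, hle hg, h⟩)
  exact ⟨c, hc, by rw [← h1, Q.C_mul_n], by rw [← h2, Q.C_mul_d]⟩

namespace Sys

variable (T) {i : ι} {e f₀ : A}

theorem n_mul_rI (hef : T.f e f₀ = 1) : T.E i e e * T.rI i e f₀ = 0 := by
  rw [T.E_rI, T.proj_self_e hef, map_zero]

theorem rI_mul_n (hef : T.f e f₀ = 1) : T.rI i e f₀ * T.E i e e = 0 := by
  rw [T.rI_E, T.proj_self_e hef, map_zero, LinearMap.zero_apply]

theorem qI_mul_tau (hef : T.f e f₀ = 1) (c : F) : T.qI i e f₀ * T.tau i e f₀ c = c⁻¹ • T.qI i e f₀ := by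
  simp only [tau, mul_add, mul_smul_comm, T.qI_mul_rI hef, T.qI_mul_pI, T.qI_mul_self hef, smul_zero, zero_add]

theorem tau_mul (hef : T.f e f₀ = 1) {c : F} (hc : c ≠ 0) : T.tau i e f₀ c * T.tau i e f₀ c⁻¹ = 1 := by
  simp only [tau, mul_add, add_mul, smul_mul_assoc, mul_smul_comm, T.pI_mul_self hef, T.qI_mul_self hef,
    T.rI_mul_self hef, T.pI_mul_qI, T.qI_mul_pI, T.pI_mul_rI hef, T.qI_mul_rI hef, T.rI_mul_pI hef, T.rI_mul_qI hef,
    smul_zero, smul_smul, inv_inv, zero_add, add_zero, inv_mul_cancel₀ hc, mul_inv_cancel₀ hc, one_smul]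
  rw [← T.sum_pqr (e := e) (f₀ := f₀) i]
  abel

variable {T}

theorem Upper.tau_right {z : R} (hz : T.Upper i e f₀ z) (hef : T.f e f₀ = 1) (c : F) :
    T.Upper i e f₀ (z * T.tau i e f₀ c) := by
  have h1 : T.tau i e f₀ c * T.pI i e f₀ = c • T.pI i e f₀ := by
    simp only [tau, add_mul, smul_mul_assoc, T.rI_mul_pI hef, T.qI_mul_pI, T.pI_mul_self hef, smul_zero, zero_add,
      add_zero]
  have h2 : T.tau i e f₀ c * T.rI i e f₀ = T.rI i e f₀ := by
    simp only [tau, add_mul, smul_mul_assoc, T.rI_mul_self hef, T.qI_mul_rI hef, T.pI_mul_rI hef, smul_zero,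
      add_zero]
  refine ⟨?_, ?_, ?_⟩
  · rw [mul_assoc, h1, mul_smul_comm, hz.right, smul_zero]
  · rw [← mul_assoc, hz.left, zero_mul]
  · rw [← mul_assoc, mul_assoc, h2, hz.mid]

end Sys

theorem IsPure.conj_radical [Nontrivial R] {i : ι} {e v : A} (hv : T.f v e = 0) (a : F) {x : R} (h : IsPure T x) :
    IsPure T ((1 + (T.yv i e v + a • T.E i e e)) * x * (1 - (T.yv i e v + a • T.E i e e))) := by
  obtain ⟨j, w, hw, c, hc, rfl⟩ := h
  set z := T.yv i e v + a • T.E i e e with hz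
  have hzz : z * z = 0 := by
    simp only [hz, mul_add, add_mul, T.yv_mul_self hv, smul_mul_assoc, mul_smul_comm, T.yv_mul_n hv, T.n_mul_yv hv,
      T.n_mul_self, smul_zero, add_zero]
  rcases eq_or_ne j i with rfl | hj
  · let L : A →ₗ[F] A := (T.f.flip v).smulRight e + (T.f.flip e).smulRight v + a • (T.f.flip e).smulRight e
    have hl : ∀ x y, z * T.E j x y = T.E j (L x) y := fun x y => by
      simp only [hz, L, Sys.yv, add_mul, smul_mul_assoc, T.mul, LinearMap.add_apply, LinearMap.smul_apply,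
        LinearMap.smulRight_apply, LinearMap.flip_apply, map_add, map_smul]
    have hr : ∀ x y, T.E j x y * z = -T.E j x (L y) := fun x y => by
      simp only [hz, L, Sys.yv, mul_add, mul_smul_comm, T.mul, LinearMap.add_apply, LinearMap.smul_apply,
        LinearMap.smulRight_apply, LinearMap.flip_apply, map_add, map_smul, T.swap y e, T.swap y v]
      module
    refine ⟨j, w + L w, ?_, c, hc, ?_⟩
    · intro h0
      apply hw
      have h1 : (1 + z) * T.E j w w = 0 := by
        rw [add_mul, one_mul, hl, ← LinearMap.add_apply, ← map_add, h0, map_zero, LinearMap.zero_apply]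
      have h2 := congrArg (fun t => (1 - z) * t) h1
      rw [← mul_assoc, show (1 - z) * (1 + z) = 1 by rw [sub_mul, one_mul, mul_add, mul_one, hzz]; abel, one_mul,
        mul_zero] at h2
      by_contra hw0
      exact T.E_ne_zero j hw0 hw0 h2
    · rw [mul_smul_comm, smul_mul_assoc]
      congr 1
      rw [add_mul, one_mul, hl, mul_sub, mul_one, add_mul, hr, hr]
      simp only [map_add, LinearMap.add_apply]
      abel
  · refine ⟨j, w, hw, c, hc, ?_⟩
    have hcz : z * (c • T.E j w w) = (c • T.E j w w) * z := by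
      have hc1 : T.Cen j z := ((T.cen_E hj _ _).add (T.cen_E hj _ _)).add ((T.cen_E hj _ _).smul a)
      rw [mul_smul_comm, hc1, smul_mul_assoc]
    rw [add_mul (1 : R) z, one_mul, mul_sub, mul_one, add_mul (c • T.E j w w) _ z, hcz, mul_assoc _ z z, hzz, mul_zero]
    abel

variable {i : ι} {e f₀ : A}

/-- the idempotents of a Jordan partner of a root element of a factor, strictly triangular part -/
theorem Grp.jordan_upper [Nontrivial R] (G : Grp T H) (h2 : (2 : F) ≠ 0) (hef : T.f e f₀ = 1) {m : R}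
    (h1 : T.E i e e * m * T.E i e e = -T.E i e e) (hH : ∀ c : F, InH H (1 + c • m)) :
    T.Upper i e f₀ (-(T.E i e e * m) - T.pI i e f₀) ∧ T.Upper i e f₀ (-(m * T.E i e e) - T.qI i e f₀) := by
  have hm := G.ad_eq_neg h2 hH
  have hp : T.pI i e f₀ * (T.E i e e * m) = T.E i e e * m := by rw [← mul_assoc, Sys.pI_mul_n hef]
  have h3 : T.E i e e * m * T.pI i e f₀ = -T.pI i e f₀ := by
    rw [← neg_inj, neg_neg]
    conv_lhs => rw [← neg_neg (T.pI i e f₀), ← Sys.n_mul_m hef, mul_neg, ← mul_assoc, h1, neg_mul, neg_neg]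
    rw [Sys.n_mul_m hef, neg_neg]
  have hu : T.Upper i e f₀ (-(T.E i e e * m) - T.pI i e f₀) := by
    refine ⟨?_, ?_, ?_⟩
    · rw [sub_mul, neg_mul, h3, neg_neg, T.pI_mul_self hef, sub_self]
    · rw [mul_sub, mul_neg, ← hp, ← mul_assoc, T.qI_mul_pI, zero_mul, neg_zero, sub_zero]
    · rw [mul_sub, mul_neg, ← hp, ← mul_assoc, T.rI_mul_pI hef, zero_mul, neg_zero, sub_zero, zero_mul]
  refine ⟨hu, ?_⟩
  have e2 : -(m * T.E i e e) - T.qI i e f₀ = T.ad (-(T.E i e e * m) - T.pI i e f₀) := by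
    rw [map_sub, map_neg, T.ad_mul, T.ad_pI, hm, T.ad_E, neg_mul_neg]
  rw [e2]
  refine ⟨?_, ?_, ?_⟩
  · have h := congrArg T.ad hu.left
    rwa [T.ad_mul, T.ad_qI, map_zero] at h
  · have h := congrArg T.ad hu.right
    rwa [T.ad_mul, T.ad_pI, map_zero] at h
  · have h := congrArg T.ad hu.mid
    rwa [T.ad_mul, T.ad_mul, T.ad_rI, map_zero, ← mul_assoc] at h

/-- a Jordan partner of a root element of a factor, with no part in the complement -/
theorem Grp.jordan_centred [Fintype ι] [DecidableEq ι] [Nontrivial R] (G : Grp T H) (Z : Ctr T H) (h2 : (2 : F) ≠ 0) {c : F} (hc : c ≠ 0)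
    (hc1 : c * c ≠ 1) (hef : T.f e f₀ = 1) {m : R}
    (h1 : T.E i e e * m * T.E i e e = -T.E i e e) (h1' : m * T.E i e e * m = -m)
    (hmm : m * m = 0) (hH : ∀ c : F, InH H (1 + c • m)) (hr : T.rI i e f₀ * (m * T.E i e e) = 0) :
    IsPure T m := by
  set N := T.E i e e with hN
  set P := T.pI i e f₀
  set Q := T.qI i e f₀
  set T' := T.tau i e f₀ c⁻¹
  obtain ⟨hu1, hu2⟩ := G.jordan_upper h2 hef h1 hH
  have hm := G.ad_eq_neg h2 hH
  have hz : T.Upper i e f₀ ((((c - 1) • (-(N * m) - P)) + (c⁻¹ - 1) • (-(m * N) - Q)) * T') :=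
    ((hu1.smul _).add (hu2.smul _)).tau_right hef _
  set B := -(N * m) - P with hB
  set B' := -(m * N) - Q with hB'
  -- the two idempotents
  have hNN : N * N = 0 := T.n_mul_self i e
  have hPN : P * N = N := Sys.pI_mul_n hef
  have hNQ : N * Q = N := Sys.n_mul_qI hef
  have hrB : T.rI i e f₀ * B = 0 := by
    rw [hB, mul_sub, mul_neg, ← mul_assoc, hN, T.rI_mul_n hef, zero_mul, T.rI_mul_pI hef, neg_zero, sub_zero]
  have hrB' : T.rI i e f₀ * B' = 0 := by
    rw [hB', mul_sub, mul_neg, hr, T.rI_mul_qI hef, neg_zero, sub_zero]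
  have hBr : B * T.rI i e f₀ = 0 := by
    have := congrArg T.ad hrB'
    rw [T.ad_mul, T.ad_rI, map_zero, hB', map_sub, map_neg, T.ad_mul, hN, T.ad_E, hm, neg_mul_neg, T.ad_qI] at this
    exact this
  have hBsum : B + B' = 0 := by
    have e12 : -(N * m) * -(m * N) = 0 := by rw [neg_mul_neg, mul_assoc, ← mul_assoc m m, hmm, zero_mul, mul_zero]
    rw [show -(N * m) = B + P by rw [hB]; abel, show -(m * N) = B' + Q by rw [hB']; abel, add_mul, mul_add, mul_add,
      T.pI_mul_qI, add_zero] at e12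
    have a1 : B * Q = B := by
      have := T.sum_pqr (e := e) (f₀ := f₀) i
      calc B * Q = B * (P + Q + T.rI i e f₀) := by rw [mul_add, mul_add, hu1.right, hBr, zero_add, add_zero]
        _ = B := by rw [this, mul_one]
    have a2 : P * B' = B' := by
      calc P * B' = (P + Q + T.rI i e f₀) * B' := by rw [add_mul, add_mul, hu2.left, hrB', add_zero, add_zero]
        _ = B' := by rw [T.sum_pqr, one_mul]
    have a3 : B * B' = 0 := by rw [← a1, mul_assoc, hu2.left, mul_zero]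
    rwa [a1, a2, a3, zero_add] at e12
  have hBQ : B * Q = B := by
    calc B * Q = B * (P + Q + T.rI i e f₀) := by rw [mul_add, mul_add, hu1.right, hBr, zero_add, add_zero]
      _ = B := by rw [T.sum_pqr, mul_one]
  have hBeq : ((c - 1) • B + (c⁻¹ - 1) • B') * T' = (c * c - 1) • B := by
    rw [eq_neg_of_add_eq_zero_right hBsum, smul_neg, ← sub_eq_add_neg, ← sub_smul, smul_mul_assoc]
    conv_lhs => rw [← hBQ, mul_assoc, T.qI_mul_tau hef, inv_inv, mul_smul_comm, hBQ, smul_smul]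
    congr 1
    field_simp
    ring
  have hin : InH H (1 + ((c - 1) • B + (c⁻¹ - 1) • B') * T') := by
    have ht := InH.torus (H := H) hNN hmm h1 h1' (G.root i e) hH hc
    convert ht.mul (G.tau_mem (i := i) hef (inv_ne_zero hc)) using 1
    have e1 : (1 + N * m + m * N) + c • -(N * m) + c⁻¹ • -(m * N) =
        T.tau i e f₀ c + ((c - 1) • B + (c⁻¹ - 1) • B') := by
      rw [hB, hB', Sys.tau, Sys.rI]
      simp only [sub_smul, smul_sub, smul_neg, one_smul]
      abel
    rw [e1, add_mul (T.tau i e f₀ c), T.tau_mul hef hc]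
  obtain ⟨v, a, hve, hvf, hva⟩ := G.radical Z h2 hef hz hin
  rw [hBeq, ← hN] at hva
  obtain ⟨b, hb⟩ : ∃ b : F, B = b • N := by
    refine ⟨(c * c - 1)⁻¹ * a, ?_⟩
    have hPB : P * B = B := by rw [hB, mul_sub, mul_neg, ← mul_assoc, hPN, T.pI_mul_self hef]
    have hy : P * T.yv i e v * Q = 0 := by
      rw [Sys.yv, mul_add, add_mul]
      simp only [P, Q, T.pI_E, smul_mul_assoc, T.E_qI, hve, hvf, zero_smul, zero_add, hef, one_smul, T.perp_left hvf]
      simp [T.perp_left hvf]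
    have h := congrArg (fun x => P * x * Q) hva
    simp only [mul_smul_comm, smul_mul_assoc, mul_add, add_mul, hPB, hBQ, hy, zero_add, hPN, hNQ] at h
    rw [← smul_smul, ← h, inv_smul_smul₀ (sub_ne_zero.2 hc1)]
  -- conjugate to the opposite root element
  have e1 : -(N * m) = P + b • N := by rw [← hb, hB]; abel
  have e2 : -(m * N) = Q - b • N := by
    rw [← hb, eq_sub_iff_add_eq, ← sub_eq_zero, ← hBsum, hB']; abel
  have hQN : Q * N = 0 := by rw [hN, T.qI_E, T.alt, zero_smul, neg_zero]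
  set m₂ := (1 + b • N) * m * (1 - b • N) with hm₂
  have hinv : (1 - b • N) * (1 + b • N) = 1 := by
    rw [sub_mul, one_mul, mul_add, mul_one, smul_mul_smul, hNN, smul_zero]; abel
  have f1 : (1 - b • N) * N = N := by rw [sub_mul, one_mul, smul_mul_assoc, hNN, smul_zero, sub_zero]
  have f2 : N * (1 + b • N) = N := by rw [mul_add, mul_one, mul_smul_comm, hNN, smul_zero, add_zero]
  have g1 : m₂ * N = -Q := by
    rw [hm₂, mul_assoc, f1, mul_assoc, ← neg_neg (m * N), e2, mul_neg, add_mul, one_mul, smul_mul_assoc, mul_sub,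
      mul_smul_comm, hNQ, hNN]
    simp
  have g2 : N * m₂ = -P := by
    rw [hm₂, ← mul_assoc, ← mul_assoc, f2, ← neg_neg (N * m), e1, neg_mul, add_mul, mul_sub, mul_one, mul_smul_comm,
      hPN, smul_mul_assoc, mul_sub, mul_one, mul_smul_comm, hNN]
    simp
  have g3 : m₂ * N * m₂ = -m₂ := by
    rw [hm₂, mul_assoc _ (1 - b • N) N, f1]
    simp only [← mul_assoc]
    rw [mul_assoc ((1 + b • N) * m) N (1 + b • N), f2, mul_assoc (1 + b • N) m N, mul_assoc (1 + b • N) (m * N) m,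
      h1', mul_neg, neg_mul]
  have g4 : m₂ = T.E i f₀ f₀ := by
    calc m₂ = -(m₂ * N * m₂) := by rw [g3, neg_neg]
      _ = Q * m₂ := by rw [g1, neg_mul, neg_neg]
      _ = -(T.E i f₀ f₀ * N * m₂) := by rw [hN, Sys.m_mul_n hef, neg_mul, neg_neg]
      _ = T.E i f₀ f₀ * P := by rw [mul_assoc, g2, mul_neg, neg_neg]
      _ = T.E i f₀ f₀ := by rw [T.E_pI, hef, one_smul]
  have hf : f₀ ≠ 0 := by rintro rfl; simp at hef
  have hp' := IsPure.conj_radical (T := T) (i := i) (v := 0) (show T.f 0 e = 0 by simp) (-b)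
    (x := m₂) (g4 ▸ ⟨i, f₀, hf, 1, one_ne_zero, (one_smul _ _).symm⟩)
  convert hp' using 1
  rw [T.yv_zero, zero_add, neg_smul, ← sub_eq_add_neg, sub_neg_eq_add, hm₂]
  simp only [← mul_assoc]
  rw [hinv, one_mul, mul_assoc, hinv, mul_one]

/-- a Jordan partner of a root element of a factor is a root element of a factor -/
theorem Grp.jordan_pure [Fintype ι] [DecidableEq ι] [Finite F] [Nontrivial R] (G : Grp T H) (Z : Ctr T H) (h2 : (2 : F) ≠ 0) (h4 : 4 ≤ Nat.card F)
    (he : e ≠ 0) {m : R} (h1 : T.E i e e * m * T.E i e e = -T.E i e e) (h1' : m * T.E i e e * m = -m)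
    (hmm : m * m = 0) (hH : ∀ c : F, InH H (1 + c • m)) : IsPure T m := by
  classical
  obtain ⟨c, hc, hc1⟩ : ∃ c : F, c ≠ 0 ∧ c * c ≠ 1 := by
    haveI := Fintype.ofFinite F
    obtain ⟨c, hc⟩ : ∃ c : F, c ∉ ({0, 1, -1} : Finset F) := by
      by_contra h
      simp only [not_exists, not_not] at h
      have h5 : Finset.univ.card ≤ ({0, 1, -1} : Finset F).card := Finset.card_le_card fun x _ => h x
      rw [Finset.card_univ, ← Nat.card_eq_fintype_card] at h5
      have := Finset.card_le_three (a := (0 : F)) (b := 1) (c := -1)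
      omega
    simp only [Finset.mem_insert, Finset.mem_singleton, not_or] at hc
    exact ⟨c, hc.1, fun h => (mul_self_eq_one_iff.1 h).elim hc.2.1 hc.2.2⟩
  obtain ⟨f₀, hef⟩ := T.exists_partner he
  set N := T.E i e e with hN
  obtain ⟨hu1, hu2⟩ := G.jordan_upper h2 hef h1 hH
  set T' := T.tau i e f₀ c⁻¹
  set B := -(N * m) - T.pI i e f₀ with hB
  set B' := -(m * N) - T.qI i e f₀ with hB'
  have hNN : N * N = 0 := T.n_mul_self i e
  have hz : T.Upper i e f₀ (((c - 1) • B + (c⁻¹ - 1) • B') * T') := ((hu1.smul _).add (hu2.smul _)).tau_right hef _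
  have hin : InH H (1 + ((c - 1) • B + (c⁻¹ - 1) • B') * T') := by
    have ht := InH.torus (H := H) hNN hmm h1 h1' (G.root i e) hH hc
    convert ht.mul (G.tau_mem (i := i) hef (inv_ne_zero hc)) using 1
    have e1 : (1 + N * m + m * N) + c • -(N * m) + c⁻¹ • -(m * N) =
        T.tau i e f₀ c + ((c - 1) • B + (c⁻¹ - 1) • B') := by
      rw [hB, hB', Sys.tau, Sys.rI]
      simp only [sub_smul, smul_sub, smul_neg, one_smul]
      abel
    rw [e1, add_mul (T.tau i e f₀ c), T.tau_mul hef hc]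
  obtain ⟨v, a, hve, hvf, hva⟩ := G.radical Z h2 hef hz hin
  have hc1' : (1 : F) - c ≠ 0 := sub_ne_zero.2 fun h => hc1 (by rw [← h, one_mul])
  set w := (1 - c)⁻¹ • v with hw
  have hwe : T.f w e = 0 := by rw [hw, map_smul, LinearMap.smul_apply, hve, smul_zero]
  have hwf : T.f w f₀ = 0 := by rw [hw, map_smul, LinearMap.smul_apply, hvf, smul_zero]
  have hEvQ : ∀ u, T.E i u e * T.qI i e f₀ = T.E i u e := fun u => by
    rw [T.E_qI, T.swap e f₀, hef, neg_smul, one_smul, neg_neg]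
  -- the middle part
  have hA : -(T.rI i e f₀ * (m * N)) = T.E i w e := by
    have h := congrArg (fun x => T.rI i e f₀ * x) hva
    have r1 : T.rI i e f₀ * B = 0 := by
      rw [hB, mul_sub, mul_neg, ← mul_assoc, hN, T.rI_mul_n hef, zero_mul, T.rI_mul_pI hef, neg_zero, sub_zero]
    have r2 : T.rI i e f₀ * B' * T' = c • -(T.rI i e f₀ * (m * N)) := by
      rw [hB', mul_sub, T.rI_mul_qI hef, sub_zero, mul_neg]
      conv_lhs => rw [show m * N = m * N * T.qI i e f₀ by rw [mul_assoc, hN, Sys.n_mul_qI hef], ← mul_assoc, neg_mul,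
        mul_assoc, T.qI_mul_tau hef, inv_inv]
      rw [mul_smul_comm, mul_assoc, mul_assoc, hN, Sys.n_mul_qI hef, smul_neg]
    simp only [← mul_assoc, mul_add, mul_smul_comm, add_mul, smul_mul_assoc, r1, r2, zero_mul, smul_zero, zero_add,
      hN, T.rI_mul_n hef, add_zero, Sys.yv, T.rI_E, T.proj_self_e hef, map_zero, LinearMap.zero_apply,
      T.proj_of_perp hve hvf, smul_smul] at h
    rw [hw, map_smul, LinearMap.smul_apply, ← h, smul_smul, hN]
    rw [show (1 - c)⁻¹ * ((c⁻¹ - 1) * c) = 1 by field_simp]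
    rw [one_smul, mul_assoc]
  set y := T.yv i e (-w) with hy
  have hwe' : T.f (-w) e = 0 := by rw [map_neg, LinearMap.neg_apply, hwe, neg_zero]
  have hwf' : T.f (-w) f₀ = 0 := by rw [map_neg, LinearMap.neg_apply, hwf, neg_zero]
  have hyy : y * y = 0 := T.yv_mul_self hwe'
  have hNy : N * y = 0 := T.n_mul_yv hwe'
  have hyN : y * N = 0 := T.yv_mul_n hwe'
  obtain ⟨u, hu, huy⟩ := G.yv_mem i e (-w) hwe' 1
  rw [one_smul, ← hy] at huy
  have hui : (↑u⁻¹ : R) = 1 - y := inv_one_add hyy huy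
  set m₁ := (u : R) * m * (↑u⁻¹ : R) with hm₁
  have f1 : (↑u⁻¹ : R) * N = N := by rw [hui, sub_mul, one_mul, hyN, sub_zero]
  have f2 : N * (u : R) = N := by rw [huy, mul_add, mul_one, hNy, add_zero]
  have f3 : (u : R) * N = N := by rw [huy, add_mul, one_mul, hyN, add_zero]
  have f4 : N * (↑u⁻¹ : R) = N := by rw [hui, mul_sub, mul_one, hNy, sub_zero]
  have hpure : IsPure T m₁ := by
    refine G.jordan_centred (i := i) Z h2 hc hc1 hef ?_ ?_ ?_ (fun b => ?_) ?_
    · rw [hm₁, ← mul_assoc, ← mul_assoc, mul_assoc _ _ (T.E i e e), ← hN, f1, f2, h1]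
    · rw [hm₁, mul_assoc _ (↑u⁻¹ : R) (T.E i e e), ← hN, f1]
      simp only [← mul_assoc]
      rw [mul_assoc ((u : R) * m) N (u : R), f2, mul_assoc (u : R) m N, mul_assoc (u : R) (m * N) m, h1', mul_neg,
        neg_mul]
    · rw [hm₁]
      simp only [mul_assoc, Units.inv_mul_cancel_left]
      rw [← mul_assoc m m, hmm, zero_mul, mul_zero]
    · convert (hH b).conj hu using 1
      rw [hm₁, mul_add, add_mul, mul_one, Units.mul_inv, mul_smul_comm, smul_mul_assoc]
    · rw [hm₁, mul_assoc, ← hN, f1, huy, add_mul, one_mul, add_mul, mul_add, mul_assoc y m N, ← neg_neg (T.rI i e f₀ * (m * N)), hA]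
      have hyq : T.rI i e f₀ * (y * (m * N)) = -(T.E i (-w) e) := by
        rw [← mul_assoc, hy, Sys.yv, mul_add, T.rI_E, T.rI_E, T.proj_self_e hef, map_zero, LinearMap.zero_apply,
          zero_add, T.proj_of_perp hwe' hwf', ← hEvQ (-w), mul_assoc]
        have : T.qI i e f₀ * (m * N) = -T.qI i e f₀ := by
          rw [show T.qI i e f₀ = -(T.E i f₀ f₀ * N) by rw [hN, Sys.m_mul_n hef, neg_neg], neg_mul, mul_assoc,
            ← mul_assoc N m N, h1, mul_neg]
        rw [this, mul_neg]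
      rw [hyq, map_neg, LinearMap.neg_apply, neg_neg, neg_add_cancel]
  have h := IsPure.conj_radical (T := T) (i := i) (v := w) hwe 0 hpure
  convert h using 1
  have hyneg : y = -T.yv i e w := by
    rw [hy, show -w = (-1 : F) • w by simp, T.yv_smul, neg_smul, one_smul]
  rw [zero_smul, add_zero, show (1 : R) + T.yv i e w = (↑u⁻¹ : R) by rw [hui, hyneg, sub_neg_eq_add],
    show (1 : R) - T.yv i e w = (u : R) by rw [huy, hyneg, sub_eq_add_neg], hm₁]
  simp [mul_assoc]

/-- **Purity**: a root which does not generate a `p`-group with a root element of a factor is one itself -/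
theorem Grp.pure_or_nilpotent [Fintype ι] [DecidableEq ι] [Finite R] [Nontrivial R] [Fintype F] (G : Grp T H) (Z : Ctr T H) (p : ℕ) [Fact p.Prime]
    [CharP F p] (hp : p ≠ 2) (h4 : 4 ≤ Nat.card F) {n d : R} (hn : IsPure T n) (hd : IsRoot T H d) :
    IsPure T d ∨ IsNilpotent (n * d + d * n) := by
  rcases G.pair_jordan Z p hp h4 hn.isRoot hd with h | ⟨l, hl, h1, h2⟩
  · exact Or.inr h
  left
  have h2F : (2 : F) ≠ 0 := Ring.two_ne_zero (by rwa [ringChar.eq F p])
  obtain ⟨i, e, he, a, ha, rfl⟩ := hn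
  set N := T.E i e e
  simp only [smul_mul_assoc, mul_smul_comm, smul_smul] at h1 h2
  have k1 : N * d * N = (l / a) • N := by
    have := congrArg (fun t => (a * a)⁻¹ • t) h1
    simp only [smul_smul] at this
    rw [inv_mul_cancel₀ (mul_ne_zero ha ha), one_smul] at this
    rw [this]; congr 1; field_simp
  have k2 : d * N * d = (l / a) • d := by
    have := congrArg (fun t => a⁻¹ • t) h2
    simp only [smul_smul] at this
    rw [inv_mul_cancel₀ ha, one_smul] at this
    rw [this]; congr 1; field_simp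
  have hla : l / a ≠ 0 := div_ne_zero hl ha
  have h := G.jordan_pure Z h2F h4 he (m := (-(l / a)⁻¹) • d)
    (by rw [mul_smul_comm, smul_mul_assoc, k1, smul_smul, neg_mul, inv_mul_cancel₀ hla, neg_smul, one_smul])
    (by rw [smul_mul_assoc, smul_mul_assoc, mul_smul_comm, k2, smul_smul, smul_smul, ← neg_smul]; congr 1; field_simp)
    (by rw [smul_mul_smul, hd.sq, smul_zero])
    (fun b => by rw [smul_smul]; exact hd.mem G _)
  have h' := h.smul (c := -(l / a)) (neg_ne_zero.2 hla)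
  rwa [smul_smul, neg_mul_neg, mul_inv_cancel₀ hla, one_smul] at h'

end CfsgLib.MaxSub.SpPow
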