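import Cfsg.Agent.Lib.MaxSub.SpPow.Chain
import Cfsg.Agent.Lib.MaxSub.SpPow.Grow

/-!
Tensor powers of a symplectic space: if all roots are root elements of factors the group permutes the factors; a
transvection at a pure tensor does not.
-/

set_option autoImplicit false
set_option linter.unusedSectionVars false

namespace CfsgLib.MaxSub.SpPow

variable {F A R ι κ : Type*} [Field F] [AddCommGroup A] [Module F A] [Ring R] [Algebra F R] [Fintype κ]
  [Fintype ι] [DecidableEq ι]
variable {T : Sys F A R ι κ} {H : Subgroup Rˣ}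

/-- conjugation by the unit carries the factors into factors -/
def Permutes (T : Sys F A R ι κ) (g : Rˣ) : Prop :=
  ∃ σ : Equiv.Perm ι, ∀ l u v, (g : R) * T.E l u v * (↑g⁻¹ : R) ∈ T.phi (σ l)

theorem eq_of_E_mem_phi [Nontrivial R] {i j : ι} {a : A} (ha : a ≠ 0) (h : T.E i a a ∈ T.phi j) : i = j := by
  by_contra hne
  exact Sys.not_cen_E ha (T.cen_of_phi hne h)

theorem phi_map {g : Rˣ} {i j : ι} (h : ∀ u v, (g : R) * T.E i u v * (↑g⁻¹ : R) ∈ T.phi j) {x : R}
    (hx : x ∈ T.phi i) : (g : R) * x * (↑g⁻¹ : R) ∈ T.phi j := by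
  induction hx using Submodule.span_induction with
  | mem x hx => obtain ⟨⟨a, b⟩, rfl⟩ := hx; exact h a b
  | zero => rw [mul_zero, zero_mul]; exact zero_mem _
  | add a b _ _ ha hb => rw [mul_add, add_mul]; exact add_mem ha hb
  | smul c a _ ha => rw [mul_smul_comm, smul_mul_assoc]; exact (T.phi j).smul_mem c ha

theorem exists_meet {a b : A} (ha : a ≠ 0) (hb : b ≠ 0) : ∃ z, T.f a z ≠ 0 ∧ T.f b z ≠ 0 := by
  obtain ⟨z, hz⟩ := T.exists_partner ha
  obtain ⟨z', hz'⟩ := T.exists_partner hb
  by_cases h : T.f b z = 0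
  · by_cases h' : T.f a z' = 0
    · refine ⟨z + z', by rw [map_add, hz, h', add_zero]; exact one_ne_zero, ?_⟩
      rw [map_add, h, zero_add, hz']
      exact one_ne_zero
    · exact ⟨z', h', by rw [hz']; exact one_ne_zero⟩
  · exact ⟨z, by rw [hz]; exact one_ne_zero, h⟩

/-- a group all roots of which are root elements of factors permutes the factors -/
theorem Grp.permutes [Nontrivial R] (hall : ∀ d, IsRoot T H d → IsPure T d) {e : A} (he : e ≠ 0) {g : Rˣ}
    (hg : g ∈ H) : Permutes T g := by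
  classical
  have one : ∀ g ∈ H, ∃ σ : ι → ι, ∀ l u v, ((g : Rˣ) : R) * T.E l u v * (↑g⁻¹ : R) ∈ T.phi (σ l) := by
    intro g hg
    have hpure : ∀ l a, a ≠ 0 → ∃ j b c, b ≠ 0 ∧ c ≠ 0 ∧
        (g : R) * T.E l a a * (↑g⁻¹ : R) = (c : F) • T.E j b b := by
      intro l a ha
      obtain ⟨j, b, hb, c, hc, h⟩ := hall _ (IsRoot.conj
        (IsPure.isRoot (H := H) ⟨l, a, ha, 1, one_ne_zero, (one_smul F _).symm⟩) hg)
      exact ⟨j, b, c, hb, hc, h⟩
    choose j b c hb hc hj using hpure
    have hshare : ∀ l a a' (ha : a ≠ 0) (ha' : a' ≠ 0), T.f a a' ≠ 0 → j l a ha = j l a' ha' := by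
      intro l a a' ha ha' hf
      by_contra hne
      have hcomm : (g : R) * T.E l a a * (↑g⁻¹ : R) * ((g : R) * T.E l a' a' * (↑g⁻¹ : R)) =
          (g : R) * T.E l a' a' * (↑g⁻¹ : R) * ((g : R) * T.E l a a * (↑g⁻¹ : R)) := by
        rw [hj l a ha, hj l a' ha', smul_mul_smul, smul_mul_smul, T.comm _ _ hne, mul_comm (c l a ha)]
      have h2 : T.E l a a * T.E l a' a' = T.E l a' a' * T.E l a a := by
        simp only [mul_assoc, Units.inv_mul_cancel_left, Units.mul_right_inj] at hcomm
        simp only [← mul_assoc, Units.mul_left_inj] at hcomm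
        exact hcomm
      rw [T.mul, T.mul, T.swap a a'] at h2
      have h3 := congrArg (fun x => T.E l a' a' * x) h2
      simp only [mul_smul_comm, T.mul, T.alt, zero_smul, smul_zero, smul_smul, smul_eq_zero, mul_eq_zero,
        neg_eq_zero, hf, or_self, false_or] at h3
      exact T.E_ne_zero l ha' ha' h3
    have hj' : ∀ l a a' (ha : a ≠ 0) (ha' : a' ≠ 0), j l a ha = j l a' ha' := by
      intro l a a' ha ha'
      obtain ⟨z, h1, h2⟩ := exists_meet (T := T) ha ha'
      have hz : z ≠ 0 := fun h => h1 (by rw [h, map_zero])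
      exact (hshare l a z ha hz h1).trans (hshare l a' z ha' hz h2).symm
    refine ⟨fun l => j l e he, fun l u v => ?_⟩
    let P : Submodule F R :=
      { carrier := {x | (g : R) * x * (↑g⁻¹ : R) ∈ T.phi (j l e he)}
        add_mem' := fun {x y} hx hy => by
          simp only [Set.mem_setOf_eq] at *; rw [mul_add, add_mul]; exact add_mem hx hy
        zero_mem' := by simp
        smul_mem' := fun c x hx => by
          simp only [Set.mem_setOf_eq] at *; rw [mul_smul_comm, smul_mul_assoc]; exact Submodule.smul_mem _ c hx }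
    have hP : ∀ a, T.E l a a ∈ P := fun a => by
      rcases eq_or_ne a 0 with rfl | ha
      · simp [P]
      show (g : R) * T.E l a a * (↑g⁻¹ : R) ∈ T.phi (j l e he)
      rw [hj l a ha, hj' l e a he ha]
      exact Submodule.smul_mem _ _ (T.E_mem_phi _ _ _)
    have h := Sys.E_mem P (i := l) (w := 1) (fun a => by rw [mul_one]; exact hP a) (fun a a' => by
      rw [mul_one]
      show (g : R) * (T.E l a a * T.E l a' a') * (↑g⁻¹ : R) ∈ T.phi (j l e he)
      have := T.mul_mem_phi (hP a : _ ∈ T.phi (j l e he)) (hP a' : _ ∈ T.phi (j l e he))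
      simpa [mul_assoc] using this) u v
    rwa [mul_one] at h
  obtain ⟨σ, hσ⟩ := one g hg
  obtain ⟨τ, hτ⟩ := one g⁻¹ (inv_mem hg)
  have hinv : ∀ l, τ (σ l) = l := fun l => by
    refine (eq_of_E_mem_phi (T := T) he ?_).symm
    have := phi_map (hτ (σ l)) (hσ l e e)
    simpa [mul_assoc] using this
  have hinj : Function.Injective σ := fun a b h => by rw [← hinv a, h, hinv b]
  exact ⟨Equiv.ofBijective σ ⟨hinj, Finite.surjective_of_injective hinj⟩, hσ⟩

/-- a transvection at a pure tensor does not permute the factors -/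
theorem not_permutes [Nontrivial R] (h2 : (2 : F) ≠ 0) {s : ι → Sl A}
    (hs : ∀ l, Sl.Ok T (s l) ∧ ∃ a b, s l = .nn a b) {i i' : ι} (hii : i' ≠ i) {g : Rˣ}
    (hg : (g : R) = 1 + T.tens (pv T s)) : ¬ Permutes T g := by
  rintro ⟨σ, hσ⟩
  obtain ⟨e, f₀, hsi⟩ := (hs i).2
  have hef : T.f e f₀ = 1 := by have := (hs i).1; rwa [hsi] at this
  have he : e ≠ 0 := by rintro rfl; simp at hef
  set w := T.tens (Function.update (pv T s) i 1) with hw
  have hwc : T.Cen i w := Sys.cen_rest _ _
  have hx : T.tens (pv T s) = T.E i e e * w := by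
    rw [Sys.tens_split _ i, pv, hsi]; rfl
  have hw2 : w * w = 0 := by
    obtain ⟨a, b, hsi'⟩ := (hs i').2
    rw [hw, ← map_mul]
    refine zero_of_slot _ i' ?_
    rw [Pi.mul_apply, Function.update_of_ne hii]
    exact Sl.op_sq (hs i').1 (by rw [hsi']; simp) i'
  have hw0 : w ≠ 0 := by
    intro h0
    have : ∀ S : Finset ι, T.tens (pv T fun l => if l ∈ S then s l else .one) ≠ 0 := by
      intro S
      induction S using Finset.induction_on with
      | empty =>
        have e1 : (pv T fun l => if l ∈ (∅ : Finset ι) then s l else Sl.one) = 1 := by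
          funext l; simp [pv, Sys.op]
        rw [e1, map_one]; exact one_ne_zero
      | insert l S hl ih =>
        have e1 : (fun m => if m ∈ insert l S then s m else Sl.one) =
            Function.update (fun m => if m ∈ S then s m else Sl.one) l (s l) := by
          funext m
          rcases eq_or_ne m l with rfl | h <;> simp [*]
        obtain ⟨a, b, hl'⟩ := (hs l).2
        have hab : T.f a b = 1 := by have := (hs l).1; rwa [hl'] at this
        have ha : a ≠ 0 := by rintro rfl; simp at hab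
        rw [e1, pv_update, Sys.tens_update, hl']
        intro h
        have hz := T.E_mul_cancel ha ha (Sys.cen_rest _ l) (show T.E l a a * _ = 0 from h)
        rw [← pv_one (T := T) (s := fun m => if m ∈ S then s m else Sl.one) (l := l) (if_neg hl),
          Function.update_eq_self] at hz
        exact ih hz
    have h1 := this Finset.univ
    simp only [Finset.mem_univ, if_true] at h1
    exact h1 (by rw [hx, h0, mul_zero])
  have hzz : T.tens (pv T s) * T.tens (pv T s) = 0 := by
    rw [hx, mul_assoc, ← mul_assoc w, hwc, mul_assoc, ← mul_assoc, T.n_mul_self, zero_mul]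
  have h1 := hσ i f₀ f₀
  rw [inv_one_add hzz hg, hg] at h1
  have e1 : (1 + T.tens (pv T s)) * T.E i f₀ f₀ * (1 - T.tens (pv T s)) =
      T.E i f₀ f₀ + (T.qI i e f₀ - T.pI i e f₀) * w := by
    rw [hx]
    have a1 : T.E i e e * w * T.E i f₀ f₀ = -T.pI i e f₀ * w := by
      rw [mul_assoc, hwc, ← mul_assoc, Sys.n_mul_m hef]
    have a2 : T.E i f₀ f₀ * (T.E i e e * w) = -T.qI i e f₀ * w := by
      rw [← mul_assoc, Sys.m_mul_n hef]
    have a3 : -T.pI i e f₀ * w * (T.E i e e * w) = 0 := by
      rw [mul_assoc, ← mul_assoc w, hwc, mul_assoc (T.E i e e), hw2, mul_zero, mul_zero]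
    simp only [add_mul, mul_sub, one_mul, mul_one, a1, a2, a3]
    simp only [sub_mul, neg_mul]
    abel
  rw [e1] at h1
  have hMw : T.blk i e e (T.E i f₀ f₀ + (T.qI i e f₀ - T.pI i e f₀) * w) = -1 := by
    rw [T.blk_add, Sys.qI, Sys.pI, sub_mul, neg_mul, T.blk_sub,
      show -(T.E i f₀ e * w) = (-1 : F) • (T.E i f₀ e * w) by simp, T.blk_smul, T.blk_E_mul hwc, T.blk_E_mul hwc,
      ← mul_one (T.E i f₀ f₀), T.blk_E_mul (T.cen_one i)]
    simp [T.alt, T.swap e f₀, hef]
  by_cases hj : σ i = i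
  · rw [hj] at h1
    obtain ⟨c, hc⟩ := T.blk_phi h1 f₀ e
    rw [T.blk_add, Sys.qI, Sys.pI, sub_mul, neg_mul, T.blk_sub,
      show -(T.E i f₀ e * w) = (-1 : F) • (T.E i f₀ e * w) by simp, T.blk_smul, T.blk_E_mul hwc, T.blk_E_mul hwc,
      ← mul_one (T.E i f₀ f₀), T.blk_E_mul (T.cen_one i)] at hc
    simp [T.alt, T.swap e f₀, hef] at hc
    have h3 := congrArg (fun x => x * x) hc
    simp only [neg_mul_neg, hw2, smul_mul_smul, one_mul] at h3
    rcases smul_eq_zero.1 h3.symm with h4 | h4
    · rw [mul_self_eq_zero.1 h4, zero_smul, neg_eq_zero] at hc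
      exact hw0 hc
    · exact one_ne_zero h4
  · have hc := T.blk_cen (T.cen_of_phi (Ne.symm hj) h1) e e
    rw [hMw, T.alt, zero_smul] at hc
    exact one_ne_zero (neg_eq_zero.1 hc)

end CfsgLib.MaxSub.SpPow
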