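import Cfsg.Agent.Lib.MaxSub.SpPow.Alg

/-!
Tensor powers of a symplectic space: groups of isometric operators containing the root elements of all factors,
torus elements of hyperbolic pairs, long root elements of the unipotent radical.
-/

set_option autoImplicit false
set_option linter.unusedSectionVars false

namespace CfsgLib.MaxSub.SpPow

variable {F A R ι κ : Type*} [Field F] [AddCommGroup A] [Module F A] [Ring R] [Algebra F R] [Fintype κ]

/-- `x` is the operator of a member of `H` -/
def InH (H : Subgroup Rˣ) (x : R) : Prop := ∃ g ∈ H, (g : R) = x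

theorem InH.mul {H : Subgroup Rˣ} {x y : R} (hx : InH H x) (hy : InH H y) : InH H (x * y) := by
  obtain ⟨g, hg, rfl⟩ := hx
  obtain ⟨g', hg', rfl⟩ := hy
  exact ⟨g * g', mul_mem hg hg', Units.val_mul _ _⟩

theorem InH.one {H : Subgroup Rˣ} : InH H (1 : R) := ⟨1, one_mem H, Units.val_one⟩

theorem InH.conj {H : Subgroup Rˣ} {x : R} (hx : InH H x) {g : Rˣ} (hg : g ∈ H) :
    InH H ((g : R) * x * (↑g⁻¹ : R)) := by
  obtain ⟨h, hh, rfl⟩ := hx
  exact ⟨g * h * g⁻¹, mul_mem (mul_mem hg hh) (inv_mem hg), by rw [Units.val_mul, Units.val_mul]⟩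

theorem inv_one_add {g : Rˣ} {z : R} (hz : z * z = 0) (h : (g : R) = 1 + z) : (↑g⁻¹ : R) = 1 - z := by
  refine Units.inv_eq_of_mul_eq_one_right ?_
  rw [h, add_mul, one_mul, mul_sub, mul_one, hz]; abel

theorem InH.inv {H : Subgroup Rˣ} {z : R} (hz : z * z = 0) (h : InH H (1 + z)) : InH H (1 - z) := by
  obtain ⟨g, hg, hgz⟩ := h
  exact ⟨g⁻¹, inv_mem hg, inv_one_add hz hgz⟩

/-- the Weyl elements of two square-zero operators with `nmn = -n`, `mnm = -m`, and their products -/
theorem InH.torus {H : Subgroup Rˣ} {n m : R} (hn : n * n = 0) (hm : m * m = 0) (h1 : n * m * n = -n)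
    (h2 : m * n * m = -m) (hN : ∀ c : F, InH H (1 + c • n)) (hM : ∀ c : F, InH H (1 + c • m)) {c : F}
    (hc : c ≠ 0) : InH H ((1 + n * m + m * n) + c • -(n * m) + c⁻¹ • -(m * n)) := by
  have hw : ∀ a : F, a ≠ 0 → InH H ((1 + n * m + m * n) + a • n + a⁻¹ • m) := by
    intro a ha
    have h := ((hN a).mul (hM a⁻¹)).mul (hN a)
    convert h using 1
    have e1 : (1 + a • n) * (1 + a⁻¹ • m) = 1 + a • n + a⁻¹ • m + n * m := by
      simp only [add_mul, mul_add, one_mul, mul_one, smul_mul_smul, mul_inv_cancel₀ ha, one_smul]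
      abel
    rw [e1]
    simp only [add_mul, one_mul, mul_add, mul_one, smul_mul_assoc, mul_smul_comm, smul_add, smul_smul, hn, h1,
      smul_zero, smul_neg, mul_inv_cancel₀ ha, one_smul, add_zero]
    abel
  have h := (hw c hc).mul (hw (-1) (by norm_num))
  convert h using 1
  have a1 : n * (n * m) = 0 := by rw [← mul_assoc, hn, zero_mul]
  have a2 : n * (m * n) = -n := by rw [← mul_assoc, h1]
  have a3 : m * (n * m) = -m := by rw [← mul_assoc, h2]
  have a4 : m * (m * n) = 0 := by rw [← mul_assoc, hm, zero_mul]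
  have a5 : n * m * (n * m) = -(n * m) := by rw [← mul_assoc, h1, neg_mul]
  have a6 : n * m * (m * n) = 0 := by rw [mul_assoc, a4, mul_zero]
  have a7 : m * n * (n * m) = 0 := by rw [mul_assoc, a1, mul_zero]
  have a8 : m * n * (m * n) = -(m * n) := by rw [← mul_assoc, h2, neg_mul]
  have a9 : n * m * m = 0 := by rw [mul_assoc, hm, mul_zero]
  have a10 : m * n * n = 0 := by rw [mul_assoc, hn, mul_zero]
  simp only [add_mul, mul_add, one_mul, mul_one, smul_mul_assoc, mul_smul_comm, hn, hm, h1, h2, a1, a2, a3, a4, a5,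
    a6, a7, a8, a9, a10, smul_zero, inv_neg, inv_one]
  module

variable (T : Sys F A R ι κ)

/-- the group consists of isometries and contains all root elements of all factors -/
structure Grp (H : Subgroup Rˣ) : Prop where
  iso : ∀ g ∈ H, T.ad (g : R) * (g : R) = 1
  root : ∀ i e (c : F), InH H (1 + c • T.E i e e)

/-- the centres of the root parabolics meet `H` in the root groups of the factors only -/
def Ctr (H : Subgroup Rˣ) : Prop :=
  ∀ i e, e ≠ 0 → ∀ y, T.Cen i y → InH H (1 + T.E i e e * y) → ∃ c : F, T.E i e e * y = c • T.E i e e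

variable {T}

theorem Grp.inv_eq {H : Subgroup Rˣ} (G : Grp T H) {g : Rˣ} (hg : g ∈ H) : (↑g⁻¹ : R) = T.ad (g : R) :=
  Units.inv_eq_of_mul_eq_one_left (G.iso g hg)

namespace Sys

variable (T)

/-- the generator of the short root element of `v` in the radical at `e` -/
def yv (i : ι) (e v : A) : R := T.E i e v + T.E i v e

theorem yv_add (i : ι) (e v w : A) : T.yv i e (v + w) = T.yv i e v + T.yv i e w := by
  simp [yv]; abel

theorem yv_smul (i : ι) (e v : A) (c : F) : T.yv i e (c • v) = c • T.yv i e v := by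
  simp [yv, smul_add]

theorem yv_zero (i : ι) (e : A) : T.yv i e 0 = 0 := by simp [yv]

theorem n_mul_self (i : ι) (e : A) : T.E i e e * T.E i e e = 0 := by rw [T.mul, T.alt, zero_smul]

theorem yv_mul_yv {i : ι} {e v w : A} (hv : T.f v e = 0) (hw : T.f w e = 0) :
    T.yv i e v * T.yv i e w = T.f w v • T.E i e e := by
  simp [yv, mul_add, add_mul, T.mul, T.perp_left hv, hw, T.alt]

theorem yv_mul_self {i : ι} {e v : A} (hv : T.f v e = 0) : T.yv i e v * T.yv i e v = 0 := by
  rw [T.yv_mul_yv hv hv, T.alt, zero_smul]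

theorem yv_mul_n {i : ι} {e v : A} (hv : T.f v e = 0) : T.yv i e v * T.E i e e = 0 := by
  simp [yv, add_mul, T.mul, T.perp_left hv, T.alt]

theorem n_mul_yv {i : ι} {e v : A} (hv : T.f v e = 0) : T.E i e e * T.yv i e v = 0 := by
  simp [yv, mul_add, T.mul, hv, T.alt]

variable {T}

theorem n_mul_m {i : ι} {e f₀ : A} (hef : T.f e f₀ = 1) :
    T.E i e e * T.E i f₀ f₀ = -T.pI i e f₀ := by
  rw [T.mul, T.swap e f₀, hef, neg_smul, one_smul]; rfl

theorem m_mul_n {i : ι} {e f₀ : A} (hef : T.f e f₀ = 1) :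
    T.E i f₀ f₀ * T.E i e e = -T.qI i e f₀ := by
  rw [T.mul, hef, one_smul, Sys.qI, neg_neg]

/-- the torus element of a hyperbolic pair -/
def tau (T : Sys F A R ι κ) (i : ι) (e f₀ : A) (c : F) : R :=
  T.rI i e f₀ + c • T.pI i e f₀ + c⁻¹ • T.qI i e f₀

end Sys

namespace Grp

variable {H : Subgroup Rˣ} (G : Grp T H)
include G

theorem tau_mem {i : ι} {e f₀ : A} (hef : T.f e f₀ = 1) {c : F} (hc : c ≠ 0) : InH H (T.tau i e f₀ c) := by
  have h := InH.torus (H := H) (T.n_mul_self i e) (T.n_mul_self i f₀)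
    (by rw [Sys.n_mul_m hef, neg_mul, T.pI_E, hef, one_smul])
    (by rw [Sys.m_mul_n hef, neg_mul, T.qI_E, T.swap e f₀, hef, neg_smul, one_smul, neg_neg])
    (G.root i e) (G.root i f₀) hc
  rw [Sys.n_mul_m hef, Sys.m_mul_n hef, neg_neg, neg_neg] at h
  convert h using 1
  rw [Sys.tau, Sys.rI]
  abel

theorem yv_mem (i : ι) (e v : A) (hv : T.f v e = 0) (c : F) : InH H (1 + c • T.yv i e v) := by
  have h := ((G.root i (e + v) c).mul (G.root i e (-c))).mul (G.root i v (-c))
  convert h using 1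
  simp only [Sys.yv, map_add, LinearMap.add_apply, smul_add, add_mul, mul_add, one_mul, mul_one, smul_mul_smul,
    T.mul, T.alt, hv, T.perp_left hv, zero_smul, smul_zero, add_zero]
  module

theorem radical_mem {i : ι} {e v : A} (hv : T.f v e = 0) (c : F) : InH H (1 + T.yv i e v + c • T.E i e e) := by
  have h := (G.yv_mem i e v hv 1).mul (G.root i e c)
  rw [one_smul] at h
  convert h using 1
  simp only [mul_add, mul_one, add_mul, one_mul, mul_smul_comm, T.yv_mul_n hv, smul_zero, add_zero]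
  try abel

theorem ad_radical {u : Rˣ} (hu : u ∈ H) {z : R} (h : (u : R) = 1 + z) : T.ad z + z + T.ad z * z = 0 := by
  have := G.iso u hu
  rw [h, map_add, T.ad_one] at this
  calc T.ad z + z + T.ad z * z = (1 + T.ad z) * (1 + z) - 1 := by
        simp only [add_mul, mul_add, one_mul, mul_one]; abel
    _ = 0 := by rw [this, sub_self]

end Grp

end CfsgLib.MaxSub.SpPow
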