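import Cfsg.Agent.Lib.MaxSub.SpPow.Dickson
import Cfsg.Agent.Lib.MaxSub.SpPow.Roots

/-!
Two square-zero operators `n`, `d`: the group of the root elements `1 + c n`, `1 + c d`, its representation by
matrices over `F[C]`, `C = nd + dn`, and its images in SL₂ of the residue fields.
-/

set_option autoImplicit false
set_option linter.unusedSectionVars false

namespace CfsgLib.MaxSub.SpPow

open CfsgLib.Chev
open Matrix (SpecialLinearGroup)

variable {F R : Type*} [Field F] [Ring R] [Algebra F R]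

/-- two square-zero operators -/
structure Quad (F R : Type*) [Field F] [Ring R] [Algebra F R] where
  n : R
  d : R
  hn : n * n = 0
  hd : d * d = 0

namespace Quad

variable (Q : Quad F R)

/-- `nd + dn` -/
def C : R := Q.n * Q.d + Q.d * Q.n

/-- the algebra generated by `C` -/
def K : Subalgebra F R := Algebra.adjoin F {Q.C}

theorem C_mem : Q.C ∈ Q.K := Algebra.subset_adjoin rfl

theorem C_mul_n : Q.C * Q.n = Q.n * Q.d * Q.n := by
  rw [C, add_mul, mul_assoc Q.d, Q.hn, mul_zero, add_zero]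

theorem n_mul_C : Q.n * Q.C = Q.n * Q.d * Q.n := by
  rw [C, mul_add, ← mul_assoc Q.n Q.n, Q.hn, zero_mul, zero_add, ← mul_assoc]

theorem C_mul_d : Q.C * Q.d = Q.d * Q.n * Q.d := by
  rw [C, add_mul, mul_assoc Q.n, Q.hd, mul_zero, zero_add]

theorem d_mul_C : Q.d * Q.C = Q.d * Q.n * Q.d := by
  rw [C, mul_add, ← mul_assoc Q.d Q.d, Q.hd, zero_mul, add_zero, ← mul_assoc]

variable {Q}

theorem K_comm {x : R} (hx : x * Q.C = Q.C * x) {s : R} (hs : s ∈ Q.K) : x * s = s * x := by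
  induction hs using Algebra.adjoin_induction with
  | mem y hy => rw [Set.mem_singleton_iff] at hy; rw [hy, hx]
  | algebraMap r => exact (Algebra.commutes r x).symm
  | add a b _ _ ha hb => rw [mul_add, add_mul, ha, hb]
  | mul a b _ _ ha hb => rw [← mul_assoc, ha, mul_assoc, hb, mul_assoc]

theorem K_n {s : R} (hs : s ∈ Q.K) : Q.n * s = s * Q.n :=
  K_comm (by rw [Q.n_mul_C, Q.C_mul_n]) hs

theorem K_d {s : R} (hs : s ∈ Q.K) : Q.d * s = s * Q.d :=
  K_comm (by rw [Q.d_mul_C, Q.C_mul_d]) hs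

theorem K_C {s : R} (hs : s ∈ Q.K) : Q.C * s = s * Q.C := K_comm rfl hs

theorem K_K {s t : R} (hs : s ∈ Q.K) (ht : t ∈ Q.K) : s * t = t * s := K_comm (K_C hs).symm ht

variable (Q)

/-- `s + a n + b d + c nd` with coefficients in `F[C]` -/
def lin (s a b c : R) : R := s + a * Q.n + b * Q.d + c * (Q.n * Q.d)

/-- the sums `s C + a n + b d + c nd` -/
def InJ (x : R) : Prop := ∃ s a b c, s ∈ Q.K ∧ a ∈ Q.K ∧ b ∈ Q.K ∧ c ∈ Q.K ∧ x = Q.lin (s * Q.C) a b c

variable {Q}

theorem lin_mul_n {s a b c : R} :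
    Q.lin s a b c * Q.n = Q.lin (b * Q.C) (s + c * Q.C) 0 (-b) := by
  simp only [lin, add_mul, mul_assoc, Q.hn, mul_zero, zero_mul, add_zero, neg_mul]
  rw [← mul_assoc Q.n Q.d Q.n, ← Q.C_mul_n, show Q.d * Q.n = Q.C - Q.n * Q.d by rw [C]; abel, mul_sub]
  abel

theorem lin_mul_d {s a b c : R} : Q.lin s a b c * Q.d = Q.lin 0 0 s a := by
  simp only [lin, add_mul, mul_assoc, Q.hd, mul_zero, zero_mul, add_zero, zero_add]

theorem inJ_mul_root {g : R} (h : Q.InJ (g - 1)) (c : F) :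
    Q.InJ (g * (1 + c • Q.n) - 1) ∧ Q.InJ (g * (1 + c • Q.d) - 1) := by
  obtain ⟨s, a, b, e, hs, ha, hb, he, hx⟩ := h
  have hcK : (c • (1 : R)) ∈ Q.K := Subalgebra.smul_mem _ (one_mem _) c
  have hg : g = 1 + Q.lin (s * Q.C) a b e := by rw [← hx]; abel
  constructor
  · refine ⟨s + c • b, a + c • (s * Q.C + e * Q.C) + c • 1, b, e - c • b, add_mem hs (Subalgebra.smul_mem _ hb c),
      add_mem (add_mem ha (Subalgebra.smul_mem _ (add_mem (mul_mem hs Q.C_mem) (mul_mem he Q.C_mem)) c)) hcK, hb,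
      sub_mem he (Subalgebra.smul_mem _ hb c), ?_⟩
    rw [hg, mul_add, mul_one, mul_smul_comm, add_mul, one_mul, lin_mul_n]
    simp only [lin, add_mul, sub_mul, smul_mul_assoc, one_mul, smul_add, neg_mul, smul_neg, zero_mul, add_zero]
    abel
  · refine ⟨s, a, b + c • (s * Q.C) + c • 1, e + c • a, hs, ha,
      add_mem (add_mem hb (Subalgebra.smul_mem _ (mul_mem hs Q.C_mem) c)) hcK,
      add_mem he (Subalgebra.smul_mem _ ha c), ?_⟩
    rw [hg, mul_add, mul_one, mul_smul_comm, add_mul, one_mul, lin_mul_d]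
    simp only [lin, add_mul, smul_mul_assoc, one_mul, smul_add, zero_mul, zero_add]
    abel

theorem inJ_sq {x : R} (h : Q.InJ x) : ∃ z, z * Q.C = Q.C * z ∧ x * x = Q.C * z := by
  obtain ⟨s, a, b, e, hs, ha, hb, he, rfl⟩ := h
  set y := Q.lin 0 a b e with hy
  have hx : Q.lin (s * Q.C) a b e = s * Q.C + y := by simp only [hy, lin, zero_add]; abel
  have cc : ∀ {u v : R}, u * Q.C = Q.C * u → v * Q.C = Q.C * v → u * v * Q.C = Q.C * (u * v) := fun hu hv => by
    rw [mul_assoc, hv, ← mul_assoc, hu, mul_assoc]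
  have cn : Q.n * Q.C = Q.C * Q.n := by rw [Q.n_mul_C, Q.C_mul_n]
  have cd : Q.d * Q.C = Q.C * Q.d := by rw [Q.d_mul_C, Q.C_mul_d]
  have cK : ∀ {t : R}, t ∈ Q.K → t * Q.C = Q.C * t := fun ht => (K_C ht).symm
  have hyC : y * Q.C = Q.C * y := by
    simp only [hy, lin, zero_add, add_mul, mul_add, cc (cK ha) cn, cc (cK hb) cd, cc (cK he) (cc cn cd)]
  have hyK : ∀ {t : R}, t ∈ Q.K → ∀ w, y * (t * w) = t * (y * w) := fun ht w => by
    rw [← mul_assoc, K_comm hyC ht, mul_assoc]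
  set w := a * b + a * e * Q.n + b * e * Q.d + e * e * (Q.n * Q.d) with hw
  have y2 : y * y = Q.C * w := by
    calc y * y = a * (y * Q.n) + b * (y * Q.d) + e * (y * Q.n * Q.d) := by
          conv_lhs => arg 2; rw [hy, lin, zero_add]
          rw [mul_add, mul_add, hyK ha, hyK hb, hyK he, mul_assoc y]
      _ = (a * b + a * e * Q.n + b * e * Q.d + e * e * (Q.n * Q.d)) * Q.C := by
          rw [hy, lin_mul_n, lin_mul_d, lin_mul_d]
          simp only [lin, add_mul, mul_add, zero_mul, mul_zero, zero_add, add_zero, neg_mul, mul_neg, mul_assoc,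
            cd, cn]
          simp only [← mul_assoc, K_K hb ha, K_K he ha, K_K he hb]
          simp only [mul_assoc]
          rw [← mul_assoc Q.n Q.C Q.d, cn, mul_assoc Q.C Q.n Q.d]
          abel
      _ = Q.C * w := by
          simp only [hw, add_mul, mul_add, cc (cc (cK ha) (cK he)) cn, cc (cc (cK hb) (cK he)) cd,
            cc (cc (cK he) (cK he)) (cc cn cd), cc (cK ha) (cK hb)]
  refine ⟨s * s * Q.C + (s * y + s * y) + w, ?_, ?_⟩
  · simp only [hw, add_mul, mul_add, cc (cc (cc (cK hs) (cK hs)) rfl) rfl, cc (cc (cK hs) (cK hs)) rfl,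
      cc (cK hs) hyC, cc (cc (cK ha) (cK he)) cn, cc (cc (cK hb) (cK he)) cd,
      cc (cc (cK he) (cK he)) (cc cn cd), cc (cK ha) (cK hb)]
  · have hys : y * (s * Q.C) = Q.C * (s * y) := by
      rw [hyK hs, hyC, ← mul_assoc, cK hs, mul_assoc]
    have hsy : s * Q.C * y = Q.C * (s * y) := by rw [cK hs, mul_assoc]
    rw [hx, add_mul, mul_add, mul_add, y2, hys, hsy, mul_add, mul_add, mul_add,
      show s * Q.C * (s * Q.C) = Q.C * (s * s * Q.C) by
        conv_lhs => arg 1; rw [cK hs]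
        simp only [mul_assoc]]
    simp only [hw, mul_add]
    abel

variable (Q)

/-- the root elements -/
def gens : Set Rˣ := {g | ∃ c : F, (g : R) = 1 + c • Q.n ∨ (g : R) = 1 + c • Q.d}

/-- the group of the pair -/
def grp : Subgroup Rˣ := Subgroup.closure Q.gens

theorem mem_gens_n (c : F) : ∃ g ∈ Q.gens, (g : R) = 1 + c • Q.n :=
  have h : (c • Q.n) * (c • Q.n) = 0 := by rw [smul_mul_smul, Q.hn, smul_zero]
  ⟨⟨1 + c • Q.n, 1 - c • Q.n,
    by rw [add_mul, one_mul, mul_sub, mul_one, h]; abel,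
    by rw [sub_mul, one_mul, mul_add, mul_one, h]; abel⟩, ⟨c, Or.inl rfl⟩, rfl⟩

theorem mem_gens_d (c : F) : ∃ g ∈ Q.gens, (g : R) = 1 + c • Q.d :=
  have h : (c • Q.d) * (c • Q.d) = 0 := by rw [smul_mul_smul, Q.hd, smul_zero]
  ⟨⟨1 + c • Q.d, 1 - c • Q.d,
    by rw [add_mul, one_mul, mul_sub, mul_one, h]; abel,
    by rw [sub_mul, one_mul, mul_add, mul_one, h]; abel⟩, ⟨c, Or.inr rfl⟩, rfl⟩

variable {Q}

theorem induction [Finite R] {P : R → Prop} (h1 : P 1) (hn : ∀ x, P x → ∀ c : F, P (x * (1 + c • Q.n)))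
    (hd : ∀ x, P x → ∀ c : F, P (x * (1 + c • Q.d))) {g : Rˣ} (hg : g ∈ Q.grp) : P (g : R) := by
  haveI : Finite Rˣ := Finite.of_injective _ Units.val_injective
  rw [grp, ← Subgroup.mem_toSubmonoid, Subgroup.closure_toSubmonoid_of_finite] at hg
  induction hg using Submonoid.closure_induction_right with
  | one => exact h1
  | mul_right x hx y hy ih =>
    rw [Units.val_mul]
    obtain ⟨c, hc | hc⟩ := hy
    · rw [hc]; exact hn _ ih c
    · rw [hc]; exact hd _ ih c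

theorem inJ_of_mem [Finite R] {g : Rˣ} (hg : g ∈ Q.grp) : Q.InJ ((g : R) - 1) :=
  induction (P := fun x => Q.InJ (x - 1))
    ⟨0, 0, 0, 0, zero_mem _, zero_mem _, zero_mem _, zero_mem _, by simp [lin]⟩
    (fun _ h c => (inJ_mul_root h c).1) (fun _ h c => (inJ_mul_root h c).2) hg

theorem pow_char [Nontrivial R] (p : ℕ) [Fact p.Prime] [CharP F p] {x : R} (m : ℕ) :
    (1 + x) ^ p ^ m = 1 + x ^ p ^ m := by
  haveI : CharP R p := charP_of_injective_algebraMap (algebraMap F R).injective p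
  rw [add_pow_char_pow_of_commute _ _ (Commute.one_left x), one_pow]

/-- on a part killed by a power of `C` the group is a `p`-group -/
theorem pow_eq [Finite R] [Nontrivial R] (p : ℕ) [Fact p.Prime] [CharP F p] {e : R} (he : e ∈ Q.K) (hee : e * e = e)
    {N : ℕ} (hN : e * Q.C ^ N = 0) {g : Rˣ} (hg : g ∈ Q.grp) : ∃ m, e * (g : R) ^ p ^ m = e := by
  obtain ⟨z, hz, hzz⟩ := inJ_sq (inJ_of_mem hg)
  refine ⟨N + N, ?_⟩
  set x := (g : R) - 1 with hx
  have hgx : (g : R) = 1 + x := by rw [hx]; abel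
  rw [hgx, pow_char (F := F) p, mul_add, mul_one, add_eq_left]
  have hle : 2 * N ≤ p ^ (N + N) := by
    calc 2 * N ≤ 2 ^ (N + N) := by
          rw [two_mul]; exact (Nat.lt_two_pow_self).le
      _ ≤ p ^ (N + N) := Nat.pow_le_pow_left (Fact.out : p.Prime).two_le _
  obtain ⟨r, hr⟩ := Nat.exists_eq_add_of_le hle
  rw [hr, pow_add, pow_mul, pow_two, hzz, (Commute.symm hz : Commute Q.C z).mul_pow, ← mul_assoc, ← mul_assoc, hN,
    zero_mul, zero_mul]

/-- the group of two operators with nilpotent `C` is a `p`-group -/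
theorem isPGroup_of_nilpotent [Finite R] [Nontrivial R] (p : ℕ) [Fact p.Prime] [CharP F p] (h : IsNilpotent Q.C) :
    IsPGroup p Q.grp := by
  obtain ⟨N, hN⟩ := h
  rintro ⟨g, hg⟩
  obtain ⟨m, hm⟩ := pow_eq p (one_mem Q.K) (one_mul 1) (N := N) (by rw [hN, mul_zero]) hg
  rw [one_mul] at hm
  exact ⟨m, Subtype.ext (Units.ext (by
    show ((g ^ p ^ m : Rˣ) : R) = 1
    rw [Units.val_pow_eq_pow_val, hm]))⟩

/-! ### The representation over `F[C]` -/

/-- an idempotent of `F[C]` with an inverse of `C` on it -/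
structure Unit (Q : Quad F R) where
  e : Q.K
  c' : Q.K
  he : e * e = e
  hc : (c' : R) * Q.C = e
  hc' : e * c' = c'

namespace Unit

variable (U : Q.Unit)

/-- the matrices as operators -/
def psi (X : Matrix (Fin 2) (Fin 2) Q.K) : R :=
  (X 0 0 : R) * (U.c' * (Q.n * Q.d)) + (X 0 1 : R) * (U.e * Q.n) + (X 1 0 : R) * (U.c' * Q.d) +
    (X 1 1 : R) * (U.c' * (Q.d * Q.n))

theorem e_eq : (U.c' : R) * (Q.n * Q.d) + U.c' * (Q.d * Q.n) = U.e := by rw [← mul_add]; exact U.hc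

theorem c'_e : (U.c' : R) * U.e = U.c' := by
  rw [K_K U.c'.2 U.e.2]; exact congrArg Subtype.val U.hc'

theorem e_e : (U.e : R) * U.e = U.e := congrArg Subtype.val U.he

theorem psi_one : U.psi 1 = U.e := by simp [psi, U.e_eq]

theorem psi_mul_n (X : Matrix (Fin 2) (Fin 2) Q.K) :
    U.psi X * Q.n = U.psi (X * !![0, 1; 0, 0]) := by
  have e3 : Q.d * Q.n * Q.n = 0 := by rw [mul_assoc, Q.hn, mul_zero]
  have h1 : (U.c' : R) * (Q.C * Q.n) = U.e * Q.n := by rw [← mul_assoc, U.hc]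
  simp only [psi, Matrix.mul_apply, Fin.sum_univ_two, Matrix.of_apply, Matrix.cons_val', Matrix.cons_val_zero,
    Matrix.cons_val_one, Matrix.empty_val', Matrix.cons_val_fin_one, mul_zero, mul_one, add_zero, zero_add,
    ZeroMemClass.coe_zero, zero_mul]
  simp only [add_mul, mul_assoc, Q.hn, mul_zero, add_zero]
  rw [← mul_assoc Q.n Q.d Q.n, ← Q.C_mul_n, h1]

theorem psi_mul_d (X : Matrix (Fin 2) (Fin 2) Q.K) :
    U.psi X * Q.d = U.psi (X * !![0, 0; ⟨Q.C, Q.C_mem⟩, 0]) := by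
  simp only [psi, Matrix.mul_apply, Fin.sum_univ_two, Matrix.of_apply, Matrix.cons_val', Matrix.cons_val_zero,
    Matrix.cons_val_one, Matrix.empty_val', Matrix.cons_val_fin_one, mul_zero, add_zero, zero_add,
    ZeroMemClass.coe_zero, zero_mul, MulMemClass.coe_mul]
  simp only [add_mul, mul_assoc, Q.hd, mul_zero, add_zero, zero_add]
  congr 1
  · rw [← mul_assoc Q.C, show Q.C * (U.c' : R) = U.e by rw [K_C U.c'.2, U.hc]]
  · rw [show Q.d * (Q.n * Q.d) = Q.C * Q.d by rw [← mul_assoc, Q.C_mul_d], ← mul_assoc (U.c' : R),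
      ← mul_assoc Q.C, K_C U.c'.2]

theorem psi_add (X Y : Matrix (Fin 2) (Fin 2) Q.K) : U.psi (X + Y) = U.psi X + U.psi Y := by
  simp only [psi, Matrix.add_apply, Subalgebra.coe_add, add_mul]; abel

theorem psi_smul (c : F) (X : Matrix (Fin 2) (Fin 2) Q.K) : U.psi (c • X) = c • U.psi X := by
  simp [psi, smul_mul_assoc, smul_add]

theorem zero_of_psi {X : Matrix (Fin 2) (Fin 2) Q.K} (h : U.psi X = 0) (i j : Fin 2) :
    (X i j : R) * U.e = 0 := by
  set P := (U.c' : R) * (Q.n * Q.d) with hP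
  set S := (U.c' : R) * (Q.d * Q.n) with hS
  set N := (U.e : R) * Q.n with hN
  set M := (U.c' : R) * Q.d with hM
  have cn := K_n U.c'.2
  have cd := K_d U.c'.2
  have en := K_n U.e.2
  have ed := K_d U.e.2
  have hpull : ∀ (a b x y : R), a ∈ Q.K → b ∈ Q.K → x * b = b * x → a * x * (b * y) = a * b * (x * y) := by
    intro a b x y _ _ hxb
    rw [mul_assoc, ← mul_assoc x, hxb, mul_assoc, ← mul_assoc]
  have ndc : ∀ {b : R}, b ∈ Q.K → Q.n * Q.d * b = b * (Q.n * Q.d) := fun {b} hb => by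
    rw [mul_assoc, K_d hb, ← mul_assoc, K_n hb, mul_assoc]
  have dnc : ∀ {b : R}, b ∈ Q.K → Q.d * Q.n * b = b * (Q.d * Q.n) := fun {b} hb => by
    rw [mul_assoc, K_n hb, ← mul_assoc, K_d hb, mul_assoc]
  have hMN : M * N = S := by
    rw [hM, hN, hpull _ _ _ _ U.c'.2 U.e.2 ed, U.c'_e, hS]
  have hNM : N * M = P := by
    rw [hN, hM, hpull _ _ _ _ U.e.2 U.c'.2 cn, K_K U.e.2 U.c'.2, U.c'_e, hP]
  have hNN : N * N = 0 := by rw [hN, hpull _ _ _ _ U.e.2 U.e.2 en, Q.hn, mul_zero]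
  have hMM : M * M = 0 := by rw [hM, hpull _ _ _ _ U.c'.2 U.c'.2 cd, Q.hd, mul_zero]
  have hPN : P * N = N := by
    rw [hP, hN, hpull _ _ _ _ U.c'.2 U.e.2 (ndc U.e.2), U.c'_e, ← Q.C_mul_n, ← mul_assoc, U.hc]
  have hNS : N * S = N := by rw [← hMN, ← mul_assoc, hNM, hPN]
  have hSM : S * M = M := by
    rw [hS, hM, hpull _ _ _ _ U.c'.2 U.c'.2 (dnc U.c'.2), ← Q.C_mul_d, ← mul_assoc, mul_assoc (U.c' : R) U.c',
      U.hc, U.c'_e]
  have hMP : M * P = M := by rw [← hNM, ← mul_assoc, hMN, hSM]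
  have hh : (X 0 0 : R) * P + (X 0 1 : R) * N + (X 1 0 : R) * M + (X 1 1 : R) * S = 0 := h
  have he : (U.e : R) = N * M + M * N := by rw [hNM, hMN]; exact U.e_eq.symm
  have kN : ∀ t : Q.K, (t : R) * N = N * t := fun t => by
    rw [hN, ← mul_assoc, K_K t.2 U.e.2, mul_assoc, mul_assoc, K_n t.2]
  have kM : ∀ t : Q.K, (t : R) * M = M * t := fun t => by
    rw [hM, ← mul_assoc, K_K t.2 U.c'.2, mul_assoc, mul_assoc, K_d t.2]
  have red : ∀ t : Q.K, (t : R) * N = 0 → (t : R) * U.e = 0 := fun t ht => by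
    rw [he, mul_add, ← mul_assoc, ht, zero_mul, zero_add, ← mul_assoc, kM, mul_assoc, ht, mul_zero]
  have hSN : S * N = 0 := by rw [← hMN, mul_assoc, hNN, mul_zero]
  have hNP : N * P = 0 := by rw [← hNM, ← mul_assoc, hNN, zero_mul]
  have hr := congrArg (fun x => x * N) hh
  simp only [add_mul, mul_assoc, hPN, hNN, hSN, hMN, mul_zero, add_zero, zero_mul] at hr
  have h10 : (X 1 0 : R) * N = 0 := by
    have hl := congrArg (fun x => N * x) hr
    simp only [mul_add, mul_zero, ← mul_assoc, ← kN] at hl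
    rw [mul_assoc (X 0 0 : R) N N, hNN, mul_zero, zero_add, mul_assoc, hNS] at hl
    exact hl
  have h10' : (X 1 0 : R) * S = 0 := by rw [← hMN, ← mul_assoc, kM, mul_assoc, h10, mul_zero]
  have h00 : (X 0 0 : R) * N = 0 := by rwa [h10', add_zero] at hr
  have h10P : (X 1 0 : R) * P = 0 := by rw [← hNM, ← mul_assoc, h10, zero_mul]
  have h11 : (X 1 1 : R) * N = 0 := by
    have hl := congrArg (fun x => N * x) hh
    simp only [mul_add, mul_zero, ← mul_assoc, ← kN] at hl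
    rw [mul_assoc (X 0 0 : R) N P, hNP, mul_assoc (X 0 1 : R) N N, hNN, mul_assoc (X 1 0 : R) N M, hNM, h10P,
      mul_assoc (X 1 1 : R) N S, hNS] at hl
    simpa using hl
  have h00P : (X 0 0 : R) * P = 0 := by rw [← hNM, ← mul_assoc, h00, zero_mul]
  have h11S : (X 1 1 : R) * S = 0 := by rw [← hMN, ← mul_assoc, kM, mul_assoc, h11, mul_zero]
  have h10M : (X 1 0 : R) * M = 0 := by
    rw [show M = (U.e : R) * M by rw [hM, ← mul_assoc, K_K U.e.2 U.c'.2, U.c'_e], ← mul_assoc, red _ h10, zero_mul]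
  have h01 : (X 0 1 : R) * N = 0 := by simpa [h00P, h11S, h10M] using hh
  fin_cases i <;> fin_cases j
  · exact red _ h00
  · exact red _ h01
  · exact red _ h10
  · exact red _ h11

end Unit

end Quad

end CfsgLib.MaxSub.SpPow
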