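import Cfsg.Agent.Lib.MaxSub.SpPow.Clifford

/-!
Tensor powers of a symplectic space: if the centres of the root parabolics meet the group in the root groups of
the factors only, then so do their unipotent radicals.
-/

set_option autoImplicit false
set_option linter.unusedSectionVars false

namespace CfsgLib.MaxSub.SpPow

variable {F A R ι κ : Type*} [Field F] [AddCommGroup A] [Module F A] [Ring R] [Algebra F R] [Fintype κ]
variable {T : Sys F A R ι κ} {H : Subgroup Rˣ}

namespace Sys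

variable (T)

/-- strictly upper triangular for the flag of `e` -/
structure Upper (i : ι) (e f₀ : A) (z : R) : Prop where
  right : z * T.pI i e f₀ = 0
  left : T.qI i e f₀ * z = 0
  mid : T.rI i e f₀ * z * T.rI i e f₀ = 0

variable {T} {i : ι} {e f₀ : A}

theorem pI_mul_n (hef : T.f e f₀ = 1) : T.pI i e f₀ * T.E i e e = T.E i e e := by
  rw [T.pI_E, hef, one_smul]

theorem n_mul_qI (hef : T.f e f₀ = 1) : T.E i e e * T.qI i e f₀ = T.E i e e := by
  rw [T.E_qI, T.swap e f₀, hef, neg_smul, one_smul, neg_neg]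

theorem Upper.zero : T.Upper i e f₀ 0 := ⟨zero_mul _, mul_zero _, by rw [mul_zero, zero_mul]⟩

theorem Upper.qIn {z : R} (hz : T.Upper i e f₀ z) (hef : T.f e f₀ = 1) : T.E i e e * z = 0 := by
  rw [← n_mul_qI hef, mul_assoc, hz.left, mul_zero]

theorem Upper.npI {z : R} (hz : T.Upper i e f₀ z) (hef : T.f e f₀ = 1) : z * T.E i e e = 0 := by
  rw [← pI_mul_n hef, ← mul_assoc, hz.right, zero_mul]

theorem Upper.add {z z' : R} (h : T.Upper i e f₀ z) (h' : T.Upper i e f₀ z') : T.Upper i e f₀ (z + z') :=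
  ⟨by rw [add_mul, h.right, h'.right, add_zero], by rw [mul_add, h.left, h'.left, add_zero],
    by rw [mul_add, add_mul, h.mid, h'.mid, add_zero]⟩

theorem Upper.smul {z : R} (h : T.Upper i e f₀ z) (c : F) : T.Upper i e f₀ (c • z) :=
  ⟨by rw [smul_mul_assoc, h.right, smul_zero], by rw [mul_smul_comm, h.left, smul_zero],
    by rw [mul_smul_comm, smul_mul_assoc, h.mid, smul_zero]⟩

theorem insert_one (a x b : R) :
    a * x * b = a * T.pI i e f₀ * x * b + a * T.qI i e f₀ * x * b + a * T.rI i e f₀ * x * b := by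
  rw [← add_mul, ← add_mul, ← add_mul, ← add_mul, ← mul_add, ← mul_add, T.sum_pqr, mul_one]

theorem Upper.mul {z z' : R} (h : T.Upper i e f₀ z) (h' : T.Upper i e f₀ z') : T.Upper i e f₀ (z * z') := by
  refine ⟨by rw [mul_assoc, h'.right, mul_zero], by rw [← mul_assoc, h.left, zero_mul], ?_⟩
  rw [← mul_assoc, T.insert_one (T.rI i e f₀ * z) z' (T.rI i e f₀)]
  rw [show T.rI i e f₀ * z * T.pI i e f₀ = 0 by rw [mul_assoc, h.right, mul_zero],
    show T.rI i e f₀ * z * T.qI i e f₀ * z' = 0 by rw [mul_assoc, h'.left, mul_zero], h.mid]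
  simp

theorem Upper.E_mul_cen (hef : T.f e f₀ = 1) {y : R} (hy : T.Cen i y) :
    T.Upper i e f₀ (T.E i e e * y) := by
  have hyp : y * T.pI i e f₀ = T.pI i e f₀ * y := hy e f₀
  refine ⟨?_, ?_, ?_⟩
  · rw [mul_assoc, hyp, ← mul_assoc, T.E_pI, T.alt, zero_smul, zero_mul]
  · rw [← mul_assoc, T.qI_E, T.alt, zero_smul, neg_zero, zero_mul]
  · rw [← mul_assoc, T.rI_E, T.proj_self_e hef]
    simp

theorem upper_yv (hef : T.f e f₀ = 1) {v : A} (hve : T.f v e = 0) (hvf : T.f v f₀ = 0) :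
    T.Upper i e f₀ (T.yv i e v) := by
  refine ⟨?_, ?_, ?_⟩
  · rw [Sys.yv, add_mul, T.E_pI, T.E_pI, T.perp_left hve, T.alt]
    simp
  · rw [Sys.yv, mul_add, T.qI_E, T.qI_E, hve, T.alt]
    simp
  · rw [Sys.yv, mul_add, add_mul, T.rI_E, T.rI_E, T.E_rI, T.E_rI, T.proj_self_e hef]
    simp

/-- the block of `z` between the complement and `f₀` -/
def kap (T : Sys F A R ι κ) (i : ι) (f₀ w : A) (z : R) : R := T.blk i w f₀ z

theorem E_z_qI (w : A) (z : R) : T.E i e w * z * T.qI i e f₀ = -(T.E i e e * T.kap i f₀ w z) := by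
  rw [kap, T.E_blk, Sys.qI, mul_neg]

theorem pI_z_E (w : A) (z : R) : T.pI i e f₀ * z * T.E i w e = T.E i e e * T.blk i f₀ w z := by
  rw [T.E_blk]; rfl

theorem kap_mul_upper {z z' : R} (h : T.Upper i e f₀ z) (h' : T.Upper i e f₀ z') (hef : T.f e f₀ = 1) {w : A}
    (hwe : T.f w e = 0) (hwf : T.f w f₀ = 0) : T.kap i f₀ w (z * z') = 0 := by
  refine T.E_mul_cancel (p := e) (q := e) (by rintro rfl; simp at hef) (by rintro rfl; simp at hef)
    (T.cen_blk _ _ _ _) ?_
  rw [← neg_eq_zero, ← E_z_qI (f₀ := f₀)]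
  have hr : T.E i e w = T.E i e w * T.rI i e f₀ := by rw [T.E_rI, T.proj_of_perp hwe hwf]
  rw [hr, mul_assoc (T.E i e w), mul_assoc (T.E i e w), ← mul_assoc (T.rI i e f₀),
    T.insert_one (T.rI i e f₀ * z) z' (T.qI i e f₀),
    show T.rI i e f₀ * z * T.pI i e f₀ = 0 by rw [mul_assoc, h.right, mul_zero],
    show T.rI i e f₀ * z * T.qI i e f₀ * z' = 0 by rw [mul_assoc, h'.left, mul_zero], h.mid]
  simp

theorem kap_cen_zero {y : R} (hy : T.Cen i y) {w : A} (hwe : T.f w e = 0) :
    T.kap i f₀ w (T.E i e e * y) = 0 := by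
  rw [kap, T.blk_E_mul hy, T.perp_left hwe, zero_mul, zero_smul]

theorem kap_yv (hef : T.f e f₀ = 1) (v : A) {w : A} (hwe : T.f w e = 0) :
    T.kap i f₀ w (T.yv i e v) = -(T.f v w • (1 : R)) := by
  have e1 : T.E i e v = T.E i e v * 1 := (mul_one _).symm
  have e2 : T.E i v e = T.E i v e * 1 := (mul_one _).symm
  rw [kap, Sys.yv, T.blk_add, e1, e2, T.blk_E_mul (T.cen_one i), T.blk_E_mul (T.cen_one i), T.perp_left hwe,
    T.swap e f₀, hef]
  simp

end Sys

variable {i : ι} {e f₀ : A}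

theorem Grp.ad_upper (G : Grp T H) (hef : T.f e f₀ = 1) {z : R} (hz : T.Upper i e f₀ z)
    (hH : InH H (1 + z)) {w : A} (hwe : T.f w e = 0) (hwf : T.f w f₀ = 0) :
    T.blk i f₀ w z = T.ad (T.kap i f₀ w z) := by
  obtain ⟨u, hu, huz⟩ := hH
  have h := G.ad_radical hu huz
  have a1 : T.qI i e f₀ * T.ad z = 0 := by rw [← T.ad_pI, ← T.ad_mul, hz.right, map_zero]
  have a2 : T.ad z * T.pI i e f₀ = 0 := by rw [← T.ad_qI, ← T.ad_mul, hz.left, map_zero]
  have a3 : T.rI i e f₀ * T.ad z * T.rI i e f₀ = 0 := by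
    rw [← T.ad_rI, ← T.ad_mul, ← T.ad_mul, ← mul_assoc, hz.mid, map_zero]
  have key : T.rI i e f₀ * T.ad z * T.qI i e f₀ = -(T.rI i e f₀ * z * T.qI i e f₀) := by
    have hh := congrArg (fun x => T.rI i e f₀ * x * T.qI i e f₀) h
    simp only [mul_add, add_mul, mul_zero, zero_mul, ← mul_assoc] at hh
    rw [T.insert_one (T.rI i e f₀ * T.ad z) z (T.qI i e f₀),
      show T.rI i e f₀ * T.ad z * T.pI i e f₀ = 0 by rw [mul_assoc, a2, mul_zero],
      show T.rI i e f₀ * T.ad z * T.qI i e f₀ * z = 0 by rw [mul_assoc, hz.left, mul_zero], a3] at hh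
    simp only [zero_mul, add_zero] at hh
    exact eq_neg_of_add_eq_zero_left hh
  have hk : T.kap i f₀ w (T.ad z) = -T.kap i f₀ w z := by
    refine sub_eq_zero.1 (T.E_mul_cancel (p := e) (q := e) (by rintro rfl; simp at hef)
      (by rintro rfl; simp at hef) ((T.cen_blk _ _ _ _).sub ((T.cen_zero i).sub (T.cen_blk i w f₀ z) |> fun h => by
        simpa [Sys.kap] using h)) ?_)
    have hr : T.E i e w = T.E i e w * T.rI i e f₀ := by rw [T.E_rI, T.proj_of_perp hwe hwf]
    rw [mul_sub, sub_eq_zero, mul_neg, ← neg_inj, neg_neg, ← Sys.E_z_qI, ← neg_inj, ← Sys.E_z_qI, hr,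
      mul_assoc (T.E i e w), mul_assoc (T.E i e w), key]
    simp [mul_assoc]
  rw [← neg_neg (T.blk i f₀ w z)]
  conv_lhs => rw [← T.ad_ad z, ← T.ad_blk i w f₀ (T.ad z)]
  rw [← Sys.kap.eq_1, hk, map_neg, neg_neg]

theorem Grp.kap_scalar (G : Grp T H) (Z : Ctr T H) (hef : T.f e f₀ = 1) {z : R} (hz : T.Upper i e f₀ z)
    (hH : InH H (1 + z)) {v : A} (hve : T.f v e = 0) (hvf : T.f v f₀ = 0) :
    ∃ c : F, T.kap i f₀ v z + T.ad (T.kap i f₀ v z) = c • 1 := by
  have he : e ≠ 0 := by rintro rfl; simp at hef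
  obtain ⟨u, hu, huz⟩ := hH
  obtain ⟨s, hs, hsy⟩ := G.yv_mem i e v hve 1
  rw [one_smul] at hsy
  set M := T.kap i f₀ v z + T.ad (T.kap i f₀ v z) with hM
  have hMc : T.Cen i M := by
    refine (T.cen_blk i v f₀ z).add ?_
    rw [← G.ad_upper hef hz ⟨u, hu, huz⟩ hve hvf]
    exact T.cen_blk i f₀ v z
  have hy := T.upper_yv (i := i) hef hve hvf
  have zy : z * T.yv i e v = T.E i e e * T.ad (T.kap i f₀ v z) := by
    rw [← G.ad_upper hef hz ⟨u, hu, huz⟩ hve hvf, ← Sys.pI_z_E, Sys.yv, mul_add]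
    have h1 : z * T.E i e v = 0 := by
      rw [show T.E i e v = T.pI i e f₀ * T.E i e v by rw [T.pI_E, hef, one_smul], ← mul_assoc, hz.right,
        zero_mul]
    have hr : T.E i v e = T.rI i e f₀ * T.E i v e := by rw [T.rI_E, T.proj_of_perp hve hvf]
    rw [h1, zero_add, show z * T.E i v e = T.pI i e f₀ * z * T.E i v e + T.qI i e f₀ * z * T.E i v e +
      T.rI i e f₀ * z * T.E i v e by rw [← add_mul, ← add_mul, ← add_mul, ← add_mul, T.sum_pqr, one_mul],
      hz.left, zero_mul, add_zero]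
    conv_lhs => arg 2; rw [hr, ← mul_assoc (T.rI i e f₀ * z), hz.mid, zero_mul]
    rw [add_zero]
  have yz : T.yv i e v * z = -(T.E i e e * T.kap i f₀ v z) := by
    rw [← Sys.E_z_qI (f₀ := f₀), Sys.yv, add_mul]
    have h1 : T.E i v e * z = 0 := by
      rw [show T.E i v e = T.E i v e * T.qI i e f₀ by
        rw [T.E_qI, T.swap e f₀, hef, neg_smul, one_smul, neg_neg], mul_assoc, hz.left, mul_zero]
    have hr : T.E i e v = T.E i e v * T.rI i e f₀ := by rw [T.E_rI, T.proj_of_perp hve hvf]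
    rw [h1, add_zero]
    conv_lhs => rw [← mul_one (T.E i e v * z), ← T.sum_pqr (e := e) (f₀ := f₀) i, mul_add, mul_add,
      mul_assoc (T.E i e v) z (T.pI i e f₀), hz.right, mul_zero, zero_add, hr,
      mul_assoc (T.E i e v) (T.rI i e f₀) z, mul_assoc (T.E i e v) (T.rI i e f₀ * z) (T.rI i e f₀), hz.mid,
      mul_zero, add_zero, ← mul_assoc (T.E i e v) (T.rI i e f₀) z, ← hr]
  have hcom : (u : R) * s = (1 + T.E i e e * M) * ((s : R) * u) := by
    have n1 : T.E i e e * M * T.yv i e v = 0 := by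
      rw [← hMc, mul_assoc, T.n_mul_yv hve, mul_zero]
    have n2 : T.E i e e * M * z = 0 := by rw [← hMc, mul_assoc, hz.qIn hef, mul_zero]
    have n3 : T.E i e e * M * (T.yv i e v * z) = 0 := by rw [← mul_assoc, n1, zero_mul]
    rw [huz, hsy]
    simp only [add_mul, mul_add, one_mul, mul_one]
    rw [n3, n1, n2, zy, yz, hM, mul_add]
    abel
  have hin : InH H (1 + T.E i e e * M) := by
    refine ⟨u * s * (s * u)⁻¹, mul_mem (mul_mem hu hs) (inv_mem (mul_mem hs hu)), ?_⟩
    rw [Units.val_mul, Units.val_mul, hcom, ← Units.val_mul, mul_assoc, ← Units.val_mul, mul_inv_cancel,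
      Units.val_one, mul_one]
  obtain ⟨c, hc⟩ := Z i e he M hMc hin
  refine ⟨c, sub_eq_zero.1 (T.E_mul_cancel he he (hMc.sub ((T.cen_one i).smul c)) ?_)⟩
  rw [mul_sub, hc, mul_smul_comm, mul_one, sub_self]

theorem Grp.pair_scalar [Nontrivial R] (G : Grp T H) (Z : Ctr T H) (hef : T.f e f₀ = 1) {z z' : R}
    (hz : T.Upper i e f₀ z) (hz' : T.Upper i e f₀ z') (hH : InH H (1 + z)) (hH' : InH H (1 + z')) :
    ∃ c : F, T.pI i e f₀ * (z * z' - z' * z) * T.qI i e f₀ = c • T.E i e e := by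
  have he : e ≠ 0 := by rintro rfl; simp at hef
  obtain ⟨u, hu, huz⟩ := hH
  obtain ⟨s, hs, hsy⟩ := hH'
  set X := z * z' - z' * z with hX
  have hXu : T.Upper i e f₀ X := by
    rw [hX, sub_eq_add_neg, ← neg_one_smul F (z' * z)]
    exact (hz.mul hz').add ((hz'.mul hz).smul _)
  have hmix : ∀ a b : R, T.Upper i e f₀ a → T.Upper i e f₀ b →
      a * b = T.pI i e f₀ * (a * b) * T.qI i e f₀ := by
    intro a b ha hb
    have hab := ha.mul hb
    have h1 : T.rI i e f₀ * (a * b) = 0 := by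
      conv_lhs => rw [← mul_assoc, ← mul_one (T.rI i e f₀ * a), ← T.sum_pqr (e := e) (f₀ := f₀) i, mul_add, mul_add,
        ha.mid, add_zero, mul_assoc (T.rI i e f₀) a (T.pI i e f₀), ha.right, mul_zero, zero_add,
        mul_assoc, hb.left, mul_zero]
    have h2 : a * b * T.rI i e f₀ = 0 := by
      conv_lhs => rw [mul_assoc, ← one_mul (b * T.rI i e f₀), ← T.sum_pqr (e := e) (f₀ := f₀) i, add_mul, add_mul,
        ← mul_assoc (T.rI i e f₀), hb.mid, add_zero, ← mul_assoc (T.qI i e f₀), hb.left, zero_mul, add_zero,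
        ← mul_assoc a, ha.right, zero_mul]
    calc a * b = (T.pI i e f₀ + T.qI i e f₀ + T.rI i e f₀) * (a * b) *
          (T.pI i e f₀ + T.qI i e f₀ + T.rI i e f₀) := by rw [T.sum_pqr, one_mul, mul_one]
      _ = T.pI i e f₀ * (a * b) * T.qI i e f₀ := by
        simp only [add_mul, mul_add, hab.left, h1, zero_mul, add_zero]
        rw [mul_assoc _ (a * b) (T.pI i e f₀), hab.right, mul_assoc _ (a * b) (T.rI i e f₀), h2]
        simp
  have hX2 : T.pI i e f₀ * X * T.qI i e f₀ = X := by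
    rw [hX, mul_sub, sub_mul, ← hmix z z' hz hz', ← hmix z' z hz' hz]
  set M := T.blk i f₀ f₀ X
  have hXM : X = -(T.E i e e * M) := by
    rw [T.E_blk]
    calc X = T.pI i e f₀ * X * T.qI i e f₀ := hX2.symm
      _ = -(T.E i e f₀ * X * T.E i f₀ e) := by rw [Sys.qI, mul_neg]; rfl
  have hcom : (u : R) * s = (1 + X) * ((s : R) * u) := by
    have kill : ∀ a : R, T.Upper i e f₀ a → X * a = 0 := fun a ha => by
      rw [← hX2, mul_assoc, ha.left, mul_zero]
    have n3 : X * (z' * z) = 0 := by rw [← mul_assoc, kill z' hz', zero_mul]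
    rw [huz, hsy]
    simp only [add_mul, mul_add, one_mul, mul_one, kill z hz, kill z' hz', n3]
    rw [hX]
    abel
  have hin : InH H (1 + T.E i e e * -M) := by
    refine ⟨u * s * (s * u)⁻¹, mul_mem (mul_mem hu hs) (inv_mem (mul_mem hs hu)), ?_⟩
    rw [mul_neg, ← hXM, Units.val_mul, Units.val_mul, hcom, ← Units.val_mul, mul_assoc, ← Units.val_mul,
      mul_inv_cancel, Units.val_one, mul_one]
  obtain ⟨c, hc⟩ := Z i e he (-M) (by simpa using (T.cen_zero i).sub (T.cen_blk i f₀ f₀ X)) hin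
  exact ⟨c, by rw [hX2, hXM, ← mul_neg, hc]⟩

/-- the radical meets `H` in the product of the root groups of the factor -/
theorem Grp.radical [Nontrivial R] [Fintype ι] [DecidableEq ι] (G : Grp T H) (Z : Ctr T H) (h2 : (2 : F) ≠ 0)
    (hef : T.f e f₀ = 1) {z : R} (hz : T.Upper i e f₀ z) (hH : InH H (1 + z)) :
    ∃ v, ∃ c : F, T.f v e = 0 ∧ T.f v f₀ = 0 ∧ z = T.yv i e v + c • T.E i e e := by
  classical
  have he : e ≠ 0 := by rintro rfl; simp at hef
  -- the scalar part is a linear form on the complement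
  choose c hc using fun w => G.kap_scalar Z hef hz hH (T.proj_e hef w) (T.proj_f hef w)
  have kadd : ∀ w w' x, T.kap i f₀ (w + w') x = T.kap i f₀ w x + T.kap i f₀ w' x := fun w w' x => by
    simp [Sys.kap, Sys.blk, mul_add, add_mul, Finset.sum_add_distrib]
  have ksmul : ∀ (a : F) w x, T.kap i f₀ (a • w) x = a • T.kap i f₀ w x := fun a w x => by
    simp [Sys.kap, Sys.blk, Finset.smul_sum]
  have inj : ∀ a b : F, a • (1 : R) = b • 1 → a = b := fun a b h => smul_left_injective F one_ne_zero h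
  have cadd : ∀ w w', c (w + w') = c w + c w' := fun w w' => inj _ _ (by
    rw [← hc, map_add, kadd, map_add, add_smul, ← hc, ← hc]; abel)
  have csmul : ∀ (a : F) w, c (a • w) = a * c w := fun a w => inj _ _ (by
    rw [← hc, map_smul, ksmul, map_smul, mul_smul, ← hc, smul_add])
  set cl : A →ₗ[F] F := { toFun := c, map_add' := cadd, map_smul' := fun a w => by simpa using csmul a w }
  set v₀ : A := (2 : F)⁻¹ • ∑ l, c (T.b l) • T.b' l with hv₀
  have hv₀c : ∀ w, T.f v₀ w = -((2 : F)⁻¹ * c w) := by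
    intro w
    have hw : c w = ∑ l, T.f w (T.b' l) * c (T.b l) := by
      conv_lhs => rw [← T.dual w]
      show cl _ = _
      rw [map_sum]
      refine Finset.sum_congr rfl fun l _ => ?_
      rw [map_smul, smul_eq_mul]; rfl
    rw [hv₀, T.swap, map_smul, map_sum, smul_eq_mul, hw]
    congr 2
    refine Finset.sum_congr rfl fun l _ => ?_
    rw [map_smul, smul_eq_mul, mul_comm]
  set v := T.proj e f₀ v₀ with hv
  have hve : T.f v e = 0 := T.proj_e hef v₀
  have hvf : T.f v f₀ = 0 := T.proj_f hef v₀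
  -- remove it
  set z' := z - T.yv i e v + T.E i e e * T.kap i f₀ v z with hz'def
  have hz' : T.Upper i e f₀ z' := by
    rw [hz'def, sub_eq_add_neg, ← neg_one_smul F (T.yv i e v)]
    exact (hz.add ((T.upper_yv hef hve hvf).smul _)).add (Sys.Upper.E_mul_cen hef (T.cen_blk _ _ _ _))
  have hmul : (1 - T.yv i e v) * (1 + z) = 1 + z' := by
    have yz : T.yv i e v * z = -(T.E i e e * T.kap i f₀ v z) := by
      rw [← Sys.E_z_qI (f₀ := f₀), Sys.yv, add_mul]
      have h1 : T.E i v e * z = 0 := by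
        rw [show T.E i v e = T.E i v e * T.qI i e f₀ by
          rw [T.E_qI, T.swap e f₀, hef, neg_smul, one_smul, neg_neg], mul_assoc, hz.left, mul_zero]
      have hr : T.E i e v = T.E i e v * T.rI i e f₀ := by rw [T.E_rI, T.proj_of_perp hve hvf]
      rw [h1, add_zero]
      conv_lhs => rw [← mul_one (T.E i e v * z), ← T.sum_pqr (e := e) (f₀ := f₀) i, mul_add, mul_add,
        mul_assoc (T.E i e v) z (T.pI i e f₀), hz.right, mul_zero, zero_add, hr,
        mul_assoc (T.E i e v) (T.rI i e f₀) z, mul_assoc (T.E i e v) (T.rI i e f₀ * z) (T.rI i e f₀), hz.mid,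
        mul_zero, add_zero, ← mul_assoc (T.E i e v) (T.rI i e f₀) z, ← hr]
    rw [sub_mul, one_mul, mul_add, mul_one, yz, hz'def]
    abel
  have hH' : InH H (1 + z') := by
    rw [← hmul]
    refine (InH.inv (T.yv_mul_self hve) ?_).mul hH
    simpa using G.yv_mem i e v hve 1
  -- the members with skew blocks
  have hskew : ∀ w, T.f w e = 0 → T.f w f₀ = 0 →
      T.kap i f₀ w z' + T.ad (T.kap i f₀ w z') = 0 := by
    intro w hwe hwf
    have h1 : T.kap i f₀ w z' = T.kap i f₀ w z + T.f v w • 1 := by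
      rw [hz'def, Sys.kap, T.blk_add, T.blk_sub, ← Sys.kap.eq_1, ← Sys.kap.eq_1, ← Sys.kap.eq_1,
        Sys.kap_yv hef v hwe,
        Sys.kap_cen_zero (y := T.kap i f₀ v z) (T.cen_blk i v f₀ z) hwe, add_zero, sub_neg_eq_add]
    have h2' := hc w
    rw [T.proj_of_perp hwe hwf] at h2'
    have h3 : T.f v w = -((2 : F)⁻¹ * c w) := by
      rw [← hv₀c, hv, T.proj_apply]
      simp [T.perp_left hwe, T.perp_left hwf]
    rw [h1, map_add, map_smul, T.ad_one, add_add_add_comm, h2', h3]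
    rw [← add_smul, ← add_smul]
    refine (congrArg (· • (1 : R)) ?_).trans (zero_smul F 1)
    field_simp
    ring
  -- so they are zero
  have hzero : ∀ w, T.f w e = 0 → T.f w f₀ = 0 → T.kap i f₀ w z' = 0 := by
    intro w hwe hwf
    rcases eq_or_ne w 0 with rfl | hw
    · simp [Sys.kap, Sys.blk]
    let S : Submodule F R :=
      { carrier := {K | ∃ x, T.Upper i e f₀ x ∧ InH H (1 + x) ∧ T.kap i f₀ w x = K ∧ T.ad K = -K}
        zero_mem' := ⟨0, Sys.Upper.zero, by rw [add_zero]; exact InH.one, T.blk_zero _ _ _, by simp⟩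
        add_mem' := by
          rintro K K' ⟨x, hx, hxH, rfl, hK⟩ ⟨x', hx', hxH', rfl, hK'⟩
          refine ⟨x + x' + x * x', (hx.add hx').add (hx.mul hx'), ?_, ?_, by rw [map_add, hK, hK']; abel⟩
          · convert hxH.mul hxH' using 1
            simp only [add_mul, mul_add, one_mul, mul_one]; abel
          · rw [Sys.kap, T.blk_add, T.blk_add, ← Sys.kap.eq_1, ← Sys.kap.eq_1, ← Sys.kap.eq_1,
              Sys.kap_mul_upper hx hx' hef hwe hwf, add_zero]
        smul_mem' := by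
          rintro a K ⟨x, hx, hxH, rfl, hK⟩
          rcases eq_or_ne a 0 with rfl | ha
          · exact ⟨0, Sys.Upper.zero, by rw [add_zero]; exact InH.one, by rw [zero_smul]; exact T.blk_zero _ _ _,
              by simp⟩
          set τ := T.tau i e f₀ a with hτ
          set τ' := T.tau i e f₀ a⁻¹ with hτ'
          have hrp := T.rI_mul_pI hef i
          have hrq := T.rI_mul_qI hef i
          have hpr := T.pI_mul_rI hef i
          have hqr := T.qI_mul_rI hef i
          have hpp := T.pI_mul_self hef i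
          have hqq := T.qI_mul_self hef i
          have hrr := T.rI_mul_self hef i
          have hpq := T.pI_mul_qI (e := e) (f₀ := f₀) i
          have hqp := T.qI_mul_pI (e := e) (f₀ := f₀) i
          have hττ : τ * τ' = 1 := by
            simp only [hτ, hτ', Sys.tau, inv_inv, add_mul, mul_add, smul_mul_assoc, mul_smul_comm, smul_smul, hrp,
              hrq, hpr, hqr, hpp, hqq, hrr, hpq, hqp, smul_zero, add_zero, zero_add, mul_inv_cancel₀ ha,
              inv_mul_cancel₀ ha, one_smul]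
            rw [← T.sum_pqr (e := e) (f₀ := f₀) i]; abel
          have tp : τ' * T.pI i e f₀ = a⁻¹ • T.pI i e f₀ := by
            simp [hτ', Sys.tau, add_mul, hrp, hpp, hqp]
          have tq : τ' * T.qI i e f₀ = a • T.qI i e f₀ := by
            simp [hτ', Sys.tau, add_mul, hrq, hqq, hpq]
          have tr : τ' * T.rI i e f₀ = T.rI i e f₀ := by
            simp [hτ', Sys.tau, add_mul, hrr, hpr, hqr]
          have qt : T.qI i e f₀ * τ = a⁻¹ • T.qI i e f₀ := by
            simp [hτ, Sys.tau, mul_add, hqr, hqp, hqq]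
          have rt : T.rI i e f₀ * τ = T.rI i e f₀ := by
            simp [hτ, Sys.tau, mul_add, hrr, hrp, hrq]
          refine ⟨τ * x * τ', ⟨?_, ?_, ?_⟩, ?_, ?_, by rw [map_smul, hK, smul_neg]⟩
          · rw [mul_assoc, tp, mul_smul_comm, mul_assoc, hx.right, mul_zero, smul_zero]
          · rw [← mul_assoc, ← mul_assoc, qt, smul_mul_assoc, hx.left, smul_zero, zero_mul]
          · rw [← mul_assoc, ← mul_assoc, rt, mul_assoc, tr, hx.mid]
          · convert ((G.tau_mem hef ha).mul hxH).mul (G.tau_mem hef (inv_ne_zero ha)) using 1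
            rw [← hτ, ← hτ', mul_add, mul_one, add_mul, hττ]
          · refine sub_eq_zero.1 (T.E_mul_cancel (p := e) (q := e) he he
              ((T.cen_blk _ _ _ _).sub ((T.cen_blk i w f₀ x).smul a)) ?_)
            rw [mul_sub, sub_eq_zero, mul_smul_comm, ← neg_inj, ← smul_neg, ← Sys.E_z_qI, ← Sys.E_z_qI]
            have hr : T.E i e w = T.E i e w * T.rI i e f₀ := by rw [T.E_rI, T.proj_of_perp hwe hwf]
            conv_lhs => rw [hr]
            rw [mul_assoc _ _ (T.qI i e f₀), mul_assoc (τ * x), tq]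
            conv_lhs => rw [mul_assoc (T.E i e w), mul_smul_comm, mul_smul_comm, mul_smul_comm, ← mul_assoc (T.rI i e f₀),
              ← mul_assoc (T.rI i e f₀), rt, ← mul_assoc (T.E i e w), ← mul_assoc (T.E i e w), ← hr] }
    refine clifford h2 (i := i) ⟨e, f₀, w, hef, hw, hwe, hwf⟩ S ?_ (fun K hK => hK.choose_spec.2.2.2) ?_ ?_ _
      ⟨z', hz', hH', rfl, eq_neg_of_add_eq_zero_right (hskew w hwe hwf)⟩
    · rintro K ⟨x, -, -, rfl, -⟩
      exact T.cen_blk _ _ _ _
    · rintro K ⟨x, hx, hxH, rfl, hK⟩ K' ⟨x', hx', hxH', rfl, hK'⟩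
      set N := T.E i w w with hN
      obtain ⟨g, hg, hgN⟩ := G.root i w 1
      rw [one_smul] at hgN
      have hN2 : N * N = 0 := T.n_mul_self i w
      have hgi : (↑g⁻¹ : R) = 1 - N := inv_one_add hN2 hgN
      set x'' := (1 + N) * x' * (1 - N) with hx''
      have pN : T.pI i e f₀ * N = 0 := by rw [hN, T.pI_E, hwf, zero_smul]
      have Np : N * T.pI i e f₀ = 0 := by rw [hN, T.E_pI, T.perp_left hwe, zero_smul]
      have qN : T.qI i e f₀ * N = 0 := by rw [hN, T.qI_E, hwe, zero_smul, neg_zero]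
      have Nq : N * T.qI i e f₀ = 0 := by rw [hN, T.E_qI, T.perp_left hwf, zero_smul, neg_zero]
      have Nr : N * T.rI i e f₀ = N := by rw [Sys.rI, mul_sub, mul_sub, mul_one, Np, Nq]; simp
      have rN : T.rI i e f₀ * N = N := by rw [Sys.rI, sub_mul, sub_mul, one_mul, pN, qN]; simp
      have hx''u : T.Upper i e f₀ x'' := by
        refine ⟨?_, ?_, ?_⟩
        · rw [hx'', mul_assoc, sub_mul, one_mul, Np, sub_zero, mul_assoc, hx'.right, mul_zero]
        · rw [hx'', ← mul_assoc, ← mul_assoc, mul_add, mul_one, qN, add_zero, hx'.left, zero_mul]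
        · rw [hx'', ← mul_assoc, ← mul_assoc, mul_add, mul_one, rN, mul_assoc _ (1 - N), sub_mul, one_mul, Nr]
          have e1 : T.rI i e f₀ + N = (1 + N) * T.rI i e f₀ := by rw [add_mul, one_mul, Nr]
          have e2 : T.rI i e f₀ - N = T.rI i e f₀ * (1 - N) := by rw [mul_sub, mul_one, rN]
          rw [e1, e2, ← mul_assoc, mul_assoc (1 + N) (T.rI i e f₀) x', mul_assoc (1 + N) _ (T.rI i e f₀), hx'.mid]
          simp
      have hxH'' : InH H (1 + x'') := by
        convert hxH'.conj hg using 1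
        rw [hgN, hgi, hx'', ← hN]
        simp only [add_mul, mul_add, mul_sub, one_mul, mul_one, hN2]; abel
      obtain ⟨c1, h1⟩ := G.pair_scalar Z hef hx hx''u hxH hxH''
      obtain ⟨c2, h2'⟩ := G.pair_scalar Z hef hx hx' hxH hxH'
      -- the difference is the anticommutator
      have pz : ∀ y, T.Upper i e f₀ y → T.pI i e f₀ * y * N = T.blk i f₀ w y * T.E i e w := fun y _ =>
        (T.blk_E i e w f₀ w y).symm
      have Nz : ∀ y, T.E i e w * y * T.qI i e f₀ = -(T.E i e e * T.kap i f₀ w y) := fun y => Sys.E_z_qI w y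
      have t1 : T.pI i e f₀ * (x * x'') * T.qI i e f₀ =
          T.pI i e f₀ * (x * x') * T.qI i e f₀ + T.pI i e f₀ * x * N * x' * T.qI i e f₀ := by
        rw [hx'']
        simp only [mul_add, add_mul, mul_sub, sub_mul, one_mul, mul_one, mul_assoc, Nq, mul_zero, sub_zero, add_zero]
      have t2 : T.pI i e f₀ * (x'' * x) * T.qI i e f₀ =
          T.pI i e f₀ * (x' * x) * T.qI i e f₀ - T.pI i e f₀ * x' * N * x * T.qI i e f₀ := by
        rw [hx'']
        simp only [mul_add, add_mul, mul_sub, sub_mul, one_mul, mul_one, ← mul_assoc, pN, zero_mul, add_zero,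
          sub_zero]
      have hval : ∀ y y', T.Upper i e f₀ y → InH H (1 + y) → T.ad (T.kap i f₀ w y) = -T.kap i f₀ w y →
          T.pI i e f₀ * y * N * y' * T.qI i e f₀ = T.E i e e * (T.kap i f₀ w y * T.kap i f₀ w y') := by
        intro y y' hy hyH hyK
        have hc : T.kap i f₀ w y * T.E i e e = T.E i e e * T.kap i f₀ w y := T.cen_blk i w f₀ y e e
        rw [pz y hy, mul_assoc _ (T.E i e w) y', mul_assoc _ _ (T.qI i e f₀), Nz,
          G.ad_upper hef hy hyH hwe hwf, hyK, neg_mul_neg, ← mul_assoc, hc, mul_assoc]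
      refine ⟨c1 - c2, sub_eq_zero.1 (T.E_mul_cancel he he ((((T.cen_blk _ _ _ _).mul (T.cen_blk _ _ _ _)).add
        ((T.cen_blk _ _ _ _).mul (T.cen_blk _ _ _ _))).sub ((T.cen_one i).smul _)) ?_)⟩
      rw [mul_sub, sub_eq_zero, mul_smul_comm, mul_one, sub_smul, ← h1, ← h2', mul_sub, mul_sub, sub_mul, sub_mul,
        t1, t2, hval x x' hx hxH hK, hval x' x hx' hxH' hK', mul_add]
      abel
    · rintro j hj a b K ⟨x, hx, hxH, rfl, hK⟩
      obtain ⟨g, hg, hgN⟩ := G.root j a b
      set N := b • T.E j a a with hN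
      have hN2 : N * N = 0 := by rw [hN, smul_mul_smul, T.n_mul_self, smul_zero]
      have hgi : (↑g⁻¹ : R) = 1 - N := inv_one_add hN2 hgN
      have hNc : T.Cen i N := (T.cen_E hj.symm a a).smul b
      have h1 : T.Cen i (1 + N) := (T.cen_one i).add hNc
      have h1' : T.Cen i (1 - N) := (T.cen_one i).sub hNc
      have hp : ∀ y, T.Cen i y → y * T.pI i e f₀ = T.pI i e f₀ * y := fun y hy => hy _ _
      have hq : ∀ y, T.Cen i y → y * T.qI i e f₀ = T.qI i e f₀ * y := fun y hy => by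
        rw [Sys.qI, mul_neg, neg_mul, hy]
      have hrc : ∀ y, T.Cen i y → y * T.rI i e f₀ = T.rI i e f₀ * y := fun y hy => by
        rw [Sys.rI, mul_sub, mul_sub, sub_mul, sub_mul, hp y hy, hq y hy, mul_one, one_mul]
      refine ⟨(1 + N) * x * (1 - N), ⟨?_, ?_, ?_⟩, ?_, ?_, ?_⟩
      · rw [mul_assoc, hp _ h1', ← mul_assoc, mul_assoc (1 + N), hx.right, mul_zero, zero_mul]
      · rw [← mul_assoc, ← mul_assoc, ← hq _ h1, mul_assoc (1 + N), hx.left, mul_zero, zero_mul]
      · rw [← mul_assoc, ← mul_assoc, ← hrc _ h1, mul_assoc _ (1 - N), hrc _ h1', ← mul_assoc,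
          mul_assoc (1 + N), mul_assoc (1 + N), hx.mid, mul_zero, zero_mul]
      · convert hxH.conj hg using 1
        rw [hgN, hgi]
        simp only [add_mul, mul_add, mul_sub, one_mul, mul_one, hN2]; abel
      · simp only [Sys.kap, Sys.blk, Finset.mul_sum, Finset.sum_mul]
        refine Finset.sum_congr rfl fun l _ => ?_
        simp only [mul_assoc]
        rw [h1' f₀ (T.b' l), ← mul_assoc (T.E i (T.b l) w), ← h1 (T.b l) w]
        simp only [mul_assoc]
      · have hadN : T.ad N = -N := by rw [hN, map_smul, T.ad_E, smul_neg]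
        rw [T.ad_mul, T.ad_mul, map_add, map_sub, T.ad_one, hadN, hK, sub_neg_eq_add, ← sub_eq_add_neg]
        simp [mul_assoc]
  -- only the centre is left
  have hr : T.rI i e f₀ = ∑ l, T.E i (T.proj e f₀ (T.b l)) (T.proj e f₀ (T.b' l)) := by
    calc T.rI i e f₀ = T.rI i e f₀ * (∑ l, T.E i (T.b l) (T.b' l)) * T.rI i e f₀ := by
          rw [T.one, mul_one, T.rI_mul_self hef]
      _ = _ := by
          rw [Finset.mul_sum, Finset.sum_mul]
          exact Finset.sum_congr rfl fun l _ => by rw [T.rI_E, T.E_rI]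
  have e1 : T.rI i e f₀ * z' * T.qI i e f₀ = 0 := by
    rw [hr, Finset.sum_mul, Finset.sum_mul]
    refine Finset.sum_eq_zero fun l _ => ?_
    rw [Sys.qI, mul_neg, ← T.E_blk i _ e _ f₀ z', ← Sys.kap.eq_1, hzero _ (T.proj_e hef _) (T.proj_f hef _),
      mul_zero, neg_zero]
  have e2 : T.pI i e f₀ * z' * T.rI i e f₀ = 0 := by
    rw [hr, Finset.mul_sum]
    refine Finset.sum_eq_zero fun l _ => ?_
    show T.E i e f₀ * z' * _ = 0
    rw [← T.E_blk, G.ad_upper hef hz' hH' (T.proj_e hef _) (T.proj_f hef _),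
      hzero _ (T.proj_e hef _) (T.proj_f hef _), map_zero, mul_zero]
  set M := T.blk i f₀ f₀ z'
  have hzM : z' = T.E i e e * -M := by
    calc z' = (T.pI i e f₀ + T.qI i e f₀ + T.rI i e f₀) * z' * (T.pI i e f₀ + T.qI i e f₀ + T.rI i e f₀) := by
          rw [T.sum_pqr, one_mul, mul_one]
      _ = T.pI i e f₀ * z' * T.qI i e f₀ := by
          simp only [add_mul, mul_add, hz'.left, hz'.mid, e1, e2, zero_mul, mul_assoc _ z' (T.pI i e f₀),
            hz'.right, mul_zero, add_zero, zero_add]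
      _ = T.E i e e * -M := by rw [mul_neg, T.E_blk, Sys.qI, mul_neg]; rfl
  obtain ⟨c', hc'⟩ := Z i e he (-M) (by simpa using (T.cen_zero i).sub (T.cen_blk i f₀ f₀ z'))
    (by rwa [← hzM])
  refine ⟨v, c', hve, hvf, ?_⟩
  have h := congrArg (fun x => (1 + T.yv i e v) * x) hmul
  rw [← mul_assoc, show (1 + T.yv i e v) * (1 - T.yv i e v) = 1 by
    rw [add_mul, one_mul, mul_sub, mul_one, T.yv_mul_self hve]; abel, one_mul] at h
  rw [hzM, hc', add_mul, one_mul, mul_add, mul_one, mul_smul_comm, T.yv_mul_n hve, smul_zero, add_zero] at h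
  exact add_left_cancel (h.trans (by abel : (1 : R) + c' • T.E i e e + T.yv i e v = 1 + (T.yv i e v + c' • T.E i e e)))

end CfsgLib.MaxSub.SpPow
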