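import Cfsg.Agent.Lib.MaxSub.SpPow.Chain

/-!
Tensor powers of a symplectic space: operators of one factor with square zero, the size of the centraliser of a
factor, roots in one factor are root elements of it, transvections move root elements.
-/

set_option autoImplicit false
set_option linter.unusedSectionVars false

namespace CfsgLib.MaxSub.SpPow

variable {F A R ι κ : Type*} [Field F] [AddCommGroup A] [Module F A] [Ring R] [Algebra F R] [Fintype κ]
variable {T : Sys F A R ι κ} {H : Subgroup Rˣ}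

namespace Sys

variable (T)

/-- the blocks as a bilinear map -/
def blkB (i : ι) (x : R) : A →ₗ[F] A →ₗ[F] R :=
  LinearMap.mk₂ F (fun u v => T.blk i u v x)
    (fun u u' v => by simp [blk, map_add, add_mul, Finset.sum_add_distrib])
    (fun c u v => by simp [blk, Finset.smul_sum])
    (fun u v v' => by simp [blk, map_add, LinearMap.add_apply, mul_add, Finset.sum_add_distrib])
    (fun c u v => by simp [blk, Finset.smul_sum])

theorem blkB_apply (i : ι) (x : R) (u v : A) : T.blkB i x u v = T.blk i u v x := rfl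

theorem blk_mul_cen {i : ι} {y : R} (hy : T.Cen i y) (u v : A) (x : R) :
    T.blk i u v (x * y) = T.blk i u v x * y := by
  rw [blk, blk, Finset.sum_mul]
  exact Finset.sum_congr rfl fun l _ => by simp only [mul_assoc]; rw [hy]

theorem blk_mul_E {i : ι} {e : A} (he : e ≠ 0) (u v p q : A) (x : R) :
    T.blk i u v (x * T.E i p q) = T.f v q • T.blk i u p x := by
  refine sub_eq_zero.1 (T.E_mul_cancel he he ((T.cen_blk _ _ _ _).sub ((T.cen_blk i u p x).smul _)) ?_)
  rw [mul_sub, sub_eq_zero, mul_smul_comm, T.E_blk, T.E_blk, mul_assoc, mul_assoc x, T.mul, mul_smul_comm,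
    mul_smul_comm, mul_assoc]

theorem blk_E_left {i : ι} {e : A} (he : e ≠ 0) (u v p q : A) (x : R) :
    T.blk i u v (T.E i p q * x) = T.f p u • T.blk i q v x := by
  refine sub_eq_zero.1 (T.E_mul_cancel he he ((T.cen_blk _ _ _ _).sub ((T.cen_blk i q v x).smul _)) ?_)
  rw [mul_sub, sub_eq_zero, mul_smul_comm, T.E_blk, T.E_blk, ← mul_assoc, T.mul, smul_mul_assoc, smul_mul_assoc]

theorem mem_phi_of_blk {i : ι} {x : R} (h : ∀ u v, ∃ s : F, T.blk i u v x = s • (1 : R)) : x ∈ T.phi i := by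
  have e : x = (∑ l, T.E i (T.b l) (T.b' l)) * x * ∑ m, T.E i (T.b m) (T.b' m) := by
    rw [T.one, one_mul, mul_one]
  rw [e, Finset.sum_mul, Finset.sum_mul]
  refine (T.phi i).sum_mem fun l _ => ?_
  rw [Finset.mul_sum]
  refine (T.phi i).sum_mem fun m _ => ?_
  obtain ⟨s, hs⟩ := h (T.b' l) (T.b m)
  rw [← T.E_blk, hs, mul_smul_comm, mul_one]
  exact (T.phi i).smul_mem s (T.E_mem_phi i _ _)

theorem phi_comm_cen {i : ι} {x y : R} (hx : x ∈ T.phi i) (hy : T.Cen i y) : y * x = x * y := by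
  induction hx using Submodule.span_induction with
  | mem x hx => obtain ⟨⟨a, b⟩, rfl⟩ := hx; exact hy a b
  | zero => rw [mul_zero, zero_mul]
  | add a b _ _ ha hb => rw [mul_add, add_mul, ha, hb]
  | smul c a _ ha => rw [mul_smul_comm, smul_mul_assoc, ha]

theorem eq_zero_of_phi_mul [Nontrivial R] {i : ι} {x y : R} (hx : x ∈ T.phi i) (hx0 : x ≠ 0) (hy : T.Cen i y)
    (h : x * y = 0) : y = 0 := by
  obtain ⟨u, v, huv⟩ : ∃ u v, T.blk i u v x ≠ 0 := by
    by_contra hc
    simp only [not_exists, not_not] at hc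
    exact hx0 (T.eq_zero_of_blk i hc)
  obtain ⟨s, hs⟩ := T.blk_phi hx u v
  have h1 := T.blk_mul_cen hy u v x
  rw [h, T.blk_zero, hs, smul_mul_assoc, one_mul, eq_comm] at h1
  exact (smul_eq_zero.1 h1).resolve_left fun h0 => huv (by rw [hs, h0, zero_smul])

/-- a derivation of the factor is inner up to an operator commuting with it -/
theorem sub_mem_phi_of_deriv {i : ι} {e f₀ : A} (hef : T.f e f₀ = 1) {d : R}
    (h : ∀ p q, d * T.E i p q - T.E i p q * d ∈ T.phi i) : d - T.blk i f₀ e d ∈ T.phi i := by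
  have he : e ≠ 0 := by rintro rfl; simp at hef
  refine T.mem_phi_of_blk fun u p => ?_
  obtain ⟨s, hs⟩ := T.blk_phi (h p f₀) u e
  refine ⟨s, ?_⟩
  rw [T.blk_sub, T.blk_mul_E he, T.blk_E_left he, hef, one_smul] at hs
  rw [T.blk_sub, T.blk_cen (T.cen_blk i f₀ e d), hs]

/-- square zero: in the factor or commuting with it -/
theorem phi_or_cen {i : ι} {e f₀ : A} (hef : T.f e f₀ = 1) (h2 : (2 : F) ≠ 0) {d : R} (hdd : d * d = 0)
    (h : d - T.blk i f₀ e d ∈ T.phi i) : d ∈ T.phi i ∨ T.Cen i d := by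
  obtain ⟨φ, hφd⟩ : ∃ φ, φ = d - T.blk i f₀ e d := ⟨_, rfl⟩
  obtain ⟨α, hαd⟩ : ∃ α, α = T.blk i f₀ e d := ⟨_, rfl⟩
  rw [← hαd] at hφd h
  have hα : T.Cen i α := hαd ▸ T.cen_blk _ _ _ _
  have hφ : φ ∈ T.phi i := hφd ▸ h
  have hd : d = φ + α := by rw [hφd]; abel
  by_cases hsc : ∃ c : F, α = c • (1 : R)
  · obtain ⟨c, hc⟩ := hsc
    left
    rw [hd, hc]
    exact add_mem hφ ((T.phi i).smul_mem c (T.one_mem_phi i))
  have indep : ∀ a b : F, a • (1 : R) + b • α = 0 → b = 0 := by
    intro a b hab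
    by_contra hb
    refine hsc ⟨b⁻¹ * -a, ?_⟩
    rw [← smul_smul, neg_smul, neg_eq_of_add_eq_zero_right hab, inv_smul_smul₀ hb]
  choose s hs using T.blk_phi hφ (i := i)
  choose t ht using T.blk_phi (T.mul_mem_phi hφ hφ) (i := i)
  have key : ∀ u v, t u v • (1 : R) + (2 * s u v) • α + T.f v u • (α * α) = 0 := by
    intro u v
    have h0 : T.blk i u v (d * d) = 0 := by rw [hdd, T.blk_zero]
    rw [hd, add_mul, mul_add, mul_add, T.phi_comm_cen hφ hα, T.blk_add, T.blk_add, T.blk_add, ht,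
      T.blk_mul_cen hα, hs, smul_mul_assoc, one_mul, T.blk_mul_cen hα, T.blk_cen hα, smul_mul_assoc] at h0
    rw [two_mul, add_smul, ← h0]
    abel
  right
  have h1 := key f₀ e
  rw [hef, one_smul] at h1
  have hsf : ∀ u v, s u v = T.f v u * s f₀ e := by
    intro u v
    refine mul_left_cancel₀ h2 (sub_eq_zero.1 (indep (t u v - T.f v u * t f₀ e) _ ?_))
    have h3 := key u v
    rw [eq_neg_of_add_eq_zero_right h1, smul_neg, smul_add, smul_smul, smul_smul] at h3
    rw [sub_smul, sub_smul]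
    rw [show T.f v u * (2 * s f₀ e) = 2 * (T.f v u * s f₀ e) by ring] at h3
    rw [← h3]
    abel
  have hφs : φ = s f₀ e • (1 : R) := by
    refine sub_eq_zero.1 (T.eq_zero_of_blk i fun u v => ?_)
    rw [T.blk_sub, T.blk_smul, T.blk_cen (T.cen_one i), hs, hsf, smul_smul, mul_comm, sub_self]
  rw [hd, hφs]
  exact ((T.cen_one i).smul _).add hα

/-- the operators are the bilinear maps into the centraliser of a factor -/
theorem card_eq_pow [Finite R] (i : ι) :
    Nat.card R = Nat.card {y : R // T.Cen i y} ^ (Module.finrank F A * Module.finrank F A) := by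
  classical
  haveI : Module.Finite F A := ⟨⟨Finset.univ.image T.b, eq_top_iff.2 fun y _ => by
    rw [← T.dual y]
    exact Submodule.sum_mem _ fun l _ => Submodule.smul_mem _ _ (Submodule.subset_span (by simp))⟩⟩
  let β := Module.finBasis F A
  let L : A →ₗ[F] Fin (Module.finrank F A) → F := LinearMap.pi fun a => T.f (β a)
  have hLi : Function.Injective L := by
    refine (injective_iff_map_eq_zero L).2 fun w hw => T.nondeg w fun v => ?_
    rw [T.swap, neg_eq_zero]
    have h0 : T.f.flip w = 0 := β.ext fun a => congrFun hw a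
    exact DFunLike.congr_fun h0 v
  have hLs : Function.Surjective L :=
    (LinearMap.injective_iff_surjective_of_finrank_eq_finrank (by simp)).1 hLi
  choose w hw using fun c => hLs (Pi.single c 1)
  have hβw : ∀ a c, T.f (β a) (w c) = if a = c then 1 else 0 := fun a c => by
    have := congrFun (hw c) a
    rw [Pi.single_apply] at this
    exact this
  have hspan : ∀ u : A, u = ∑ c, T.f (β c) u • w c := fun u => hLi (funext fun a => by
    show T.f (β a) u = T.f (β a) _
    rw [map_sum, Finset.sum_eq_single a (fun c _ hc => by rw [map_smul, hβw, if_neg (Ne.symm hc), smul_zero])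
      (by simp), map_smul, hβw, if_pos rfl, smul_eq_mul, mul_one])
  have hbij : Function.Bijective fun x : R => fun a c => (⟨T.blk i (w a) (w c) x, T.cen_blk _ _ _ _⟩ :
      {y : R // T.Cen i y}) := by
    refine ⟨fun x y hxy => ?_, fun M => ⟨-∑ a, ∑ c, T.E i (β a) (β c) * (M a c).1, ?_⟩⟩
    · refine sub_eq_zero.1 (T.eq_zero_of_blk i fun u v => ?_)
      rw [← T.blkB_apply, hspan u, hspan v]
      simp only [map_sum, map_smul, LinearMap.coe_sum, Finset.sum_apply, LinearMap.smul_apply, T.blkB_apply]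
      refine Finset.sum_eq_zero fun a _ => ?_
      rw [Finset.sum_eq_zero fun c _ => ?_, smul_zero]
      have := congrArg Subtype.val (congrFun (congrFun hxy c) a)
      rw [T.blk_sub, show T.blk i (w c) (w a) x = T.blk i (w c) (w a) y from this, sub_self, smul_zero]
    · funext a' c'
      refine Subtype.ext ?_
      show T.blk i (w a') (w c') _ = _
      rw [← neg_one_smul F, T.blk_smul]
      have e1 : ∀ g : Fin (Module.finrank F A) → R, T.blk i (w a') (w c') (∑ a, g a) =
          ∑ a, T.blk i (w a') (w c') (g a) := fun g => by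
        simp only [blk, Finset.mul_sum, Finset.sum_mul]
        rw [Finset.sum_comm]
      rw [e1, Finset.sum_eq_single a' (fun a _ ha => ?_) (by simp)]
      · rw [e1, Finset.sum_eq_single c' (fun c _ hc => ?_) (by simp)]
        · rw [T.blk_E_mul (M a' c').2, hβw, if_pos rfl, T.swap (β c'), hβw, if_pos rfl, one_mul, neg_smul,
            one_smul, neg_smul, one_smul, neg_neg]
        · rw [T.blk_E_mul (M a' c).2, T.swap (β c), hβw c, if_neg hc, neg_zero, mul_zero, zero_smul]
      · rw [e1]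
        exact Finset.sum_eq_zero fun c _ => by rw [T.blk_E_mul (M a c).2, hβw, if_neg ha, zero_mul, zero_smul]
  rw [Nat.card_congr (Equiv.ofBijective _ hbij), Nat.card_fun, Nat.card_fun, Nat.card_fin,
    ← pow_mul]

theorem card_cen_eq [Finite R] [Nontrivial R] (i j : ι) {e : A} (he : e ≠ 0) :
    Nat.card {y : R // T.Cen i y} = Nat.card {y : R // T.Cen j y} := by
  haveI : Module.Finite F A := ⟨⟨@Finset.image _ _ (Classical.decEq A) T.b Finset.univ, eq_top_iff.2 fun y _ => by
    rw [← T.dual y]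
    exact Submodule.sum_mem _ fun l _ => Submodule.smul_mem _ _ (Submodule.subset_span (by simp))⟩⟩
  haveI : Nontrivial A := ⟨e, 0, he⟩
  have h0 : Module.finrank F A ≠ 0 := (Module.finrank_pos).ne'
  exact Nat.pow_left_injective (mul_ne_zero h0 h0) ((T.card_eq_pow i).symm.trans (T.card_eq_pow j))

end Sys

/-- a root in one factor is a root element of it -/
theorem Grp.pure_of_phi [Finite R] [Nontrivial R] (G : Grp T H) (h2 : (2 : F) ≠ 0) {i : ι} {x : R}
    (hx : IsRoot T H x) (hphi : x ∈ T.phi i) : IsPure T x := by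
  classical
  obtain ⟨ψ, hψ⟩ : ∃ ψ : R →ₗ[F] F, ψ 1 = 1 := by
    obtain ⟨ψ, hψ⟩ : ∃ ψ : Module.Dual F R, ψ 1 ≠ 0 := by
      by_contra h
      simp only [not_exists, not_not] at h
      exact one_ne_zero ((Module.forall_dual_apply_eq_zero_iff F (1 : R)).1 h)
    exact ⟨(ψ 1)⁻¹ • ψ, by rw [LinearMap.smul_apply, smul_eq_mul, inv_mul_cancel₀ hψ]⟩
  have hblk : ∀ u v, T.blk i u v x = ψ (T.blk i u v x) • (1 : R) := fun u v => by
    obtain ⟨s, hs⟩ := T.blk_phi hphi u v
    rw [hs, map_smul, hψ, smul_eq_mul, mul_one]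
  have hsym : ∀ u v, ψ (T.blk i u v x) = ψ (T.blk i v u x) := fun u v => by
    have h := T.ad_blk i u v x
    rw [G.ad_eq_neg h2 (hx.mem G), ← neg_one_smul F x, T.blk_smul, neg_one_smul, neg_neg, hblk u v,
      map_smul, T.ad_one] at h
    rw [← h, map_smul, hψ, smul_eq_mul, mul_one]
  obtain ⟨g, hg, y, ⟨j, e, he, a, ha, rfl⟩, hxg⟩ := id hx
  refine Sys.pure_of_minors ψ hψ hphi hx.ne_zero hsym fun p q p' q' => ?_
  by_contra hΔ
  obtain ⟨s, hs⟩ : ∃ s : A → A → F, s = fun u v => ψ (T.blk i u v x) := ⟨_, rfl⟩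
  have hs' : ∀ u v, T.blk i u v x = s u v • (1 : R) := fun u v => by rw [hs]; exact hblk u v
  replace hΔ : s p q * s p' q' - s p q' * s p' q ≠ 0 := by rw [hs]; exact sub_ne_zero.2 hΔ
  -- two dimensions over the centraliser
  let f2 : {y : R // T.Cen i y} × {y : R // T.Cen i y} → Set.range (fun y : R => x * y * x) := fun c =>
    ⟨_, T.E i q p * c.1.1 + T.E i q' p' * c.2.1, rfl⟩
  have hsand : ∀ (u v b c : A) (z : R), T.Cen i z →
      T.E i e u * (x * (T.E i b c * z) * x) * T.E i v e = (s u b * s c v) • (T.E i e e * z) := by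
    intro u v b c z hz
    calc T.E i e u * (x * (T.E i b c * z) * x) * T.E i v e
        = (T.E i e u * x * T.E i b c) * z * (x * T.E i v e) := by simp only [mul_assoc]
      _ = s u b • (z * (T.E i e c * x * T.E i v e)) := by
          rw [← T.E_blk, hs', mul_smul_comm, mul_one, smul_mul_assoc, smul_mul_assoc, ← hz]
          simp only [mul_assoc]
      _ = (s u b * s c v) • (T.E i e e * z) := by
          rw [← T.E_blk, hs', mul_smul_comm, mul_one, mul_smul_comm, hz, smul_smul]
  have hf2 : Function.Injective f2 := by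
    rintro ⟨c, c'⟩ ⟨d, d'⟩ h
    have hc := c.2.sub d.2
    have hc' := c'.2.sub d'.2
    have h0 : x * (T.E i q p * (c.1 - d.1)) * x + x * (T.E i q' p' * (c'.1 - d'.1)) * x = 0 := by
      have := congrArg Subtype.val h
      simp only [f2] at this
      simp only [mul_sub, sub_mul, mul_add, add_mul] at this ⊢
      rw [sub_add_sub_comm, this, sub_self]
    have eq : ∀ u v, (s u q * s p v) • (c.1 - d.1) + (s u q' * s p' v) • (c'.1 - d'.1) = 0 := by
      intro u v
      refine T.E_mul_cancel he he ((hc.smul _).add (hc'.smul _)) ?_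
      rw [mul_add, mul_smul_comm, mul_smul_comm, ← hsand u v q p _ hc, ← hsand u v q' p' _ hc', ← add_mul,
        ← mul_add, h0, mul_zero, zero_mul]
    have zero : ∀ (z : R) (r r' : F), r ≠ 0 ∨ r' ≠ 0 →
        ((s p q * s p' q' - s p q' * s p' q) * r) • z = 0 →
        ((s p q * s p' q' - s p q' * s p' q) * r') • z = 0 → z = 0 := by
      intro z r r' hr h1 h1'
      rcases hr with hr | hr
      · exact (smul_eq_zero.1 h1).resolve_left (mul_ne_zero hΔ hr)
      · exact (smul_eq_zero.1 h1').resolve_left (mul_ne_zero hΔ hr)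
    have k1 : ∀ v, ((s p q * s p' q' - s p q' * s p' q) * s p v) • (c.1 - d.1) = 0 := fun v => by
      linear_combination (norm := module) s p' q' • eq p v - s p q' • eq p' v
    have k2 : ∀ v, ((s p q * s p' q' - s p q' * s p' q) * s p' v) • (c'.1 - d'.1) = 0 := fun v => by
      linear_combination (norm := module) s p q • eq p' v - s p' q • eq p v
    have e1 := zero _ (s p q) (s p q') (by
      by_contra hc0
      simp only [not_or, not_not] at hc0
      exact hΔ (by rw [hc0.1, hc0.2]; ring)) (k1 q) (k1 q')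
    have e2 := zero _ (s p' q) (s p' q') (by
      by_contra hc0
      simp only [not_or, not_not] at hc0
      exact hΔ (by rw [hc0.1, hc0.2]; ring)) (k2 q) (k2 q')
    exact Prod.ext (Subtype.ext (sub_eq_zero.1 e1)) (Subtype.ext (sub_eq_zero.1 e2))
  -- one dimension
  let f1 : {y : R // T.Cen j y} → R := fun c => (g : R) * (T.E j e e * c.1) * (↑g⁻¹ : R)
  have hf1 : Set.range (fun y : R => x * y * x) ⊆ Set.range f1 := by
    rintro _ ⟨y, rfl⟩
    refine ⟨⟨(a * a) • T.blk j e e ((↑g⁻¹ : R) * y * (g : R)), (T.cen_blk _ _ _ _).smul _⟩, ?_⟩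
    show (g : R) * (T.E j e e * _) * (↑g⁻¹ : R) = x * y * x
    rw [mul_smul_comm, T.E_blk, hxg]
    simp only [mul_assoc, mul_smul_comm, smul_mul_assoc, smul_smul]
  have hle : Nat.card {y : R // T.Cen i y} * Nat.card {y : R // T.Cen i y} ≤ Nat.card {y : R // T.Cen i y} := by
    rw [← Nat.card_prod]
    refine (Nat.card_le_card_of_injective f2 hf2).trans ?_
    rw [T.card_cen_eq i j he]
    exact (Nat.card_mono (Set.toFinite _) hf1).trans (Finite.card_range_le f1)
  haveI : Nontrivial {y : R // T.Cen i y} := ⟨⟨0, T.cen_zero i⟩, ⟨1, T.cen_one i⟩, fun h =>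
    zero_ne_one (congrArg Subtype.val h)⟩
  have h1 := Finite.one_lt_card (α := {y : R // T.Cen i y})
  nlinarith

/-- transvections move root elements of a factor -/
theorem Grp.exists_move (G : Grp T H) (i : ι) {a b : A} (ha : a ≠ 0) (hb : b ≠ 0) :
    ∃ k ∈ H, (k : R) * T.E i a a * (↑k⁻¹ : R) = T.E i b b ∧
      (∀ x, x ∈ T.phi i → (k : R) * x * (↑k⁻¹ : R) ∈ T.phi i) ∧
      ∀ x, x ∈ T.phi i → (↑k⁻¹ : R) * x * (k : R) ∈ T.phi i := by
  have one : ∀ a b, T.f a b ≠ 0 → ∃ k ∈ H, (k : R) * T.E i a a * (↑k⁻¹ : R) = T.E i b b ∧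
      (k : R) ∈ T.phi i ∧ (↑k⁻¹ : R) ∈ T.phi i := by
    intro a b hab
    obtain ⟨h, hh⟩ : ∃ h, h = b - a := ⟨_, rfl⟩
    have hah : T.f a h ≠ 0 := by rwa [hh, map_sub, T.alt, sub_zero]
    obtain ⟨k, hk, hkv⟩ := G.root i h (T.f a h)⁻¹
    have hkk : ((T.f a h)⁻¹ • T.E i h h) * ((T.f a h)⁻¹ • T.E i h h) = 0 := by
      rw [smul_mul_smul, T.n_mul_self, smul_zero]
    have hki := inv_one_add hkk hkv
    refine ⟨k, hk, ?_, hkv ▸ add_mem (T.one_mem_phi i) ((T.phi i).smul_mem _ (T.E_mem_phi i h h)),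
      hki ▸ sub_mem (T.one_mem_phi i) ((T.phi i).smul_mem _ (T.E_mem_phi i h h))⟩
    rw [hki, hkv, show T.E i b b = T.E i (a + h) (a + h) by rw [hh, add_sub_cancel]]
    simp only [add_mul, mul_sub, one_mul, mul_one, smul_mul_assoc, mul_smul_comm, T.mul, map_add,
      LinearMap.add_apply, smul_smul, T.swap a h]
    match_scalars <;> field_simp
  obtain ⟨m, ham, hmb⟩ : ∃ m, T.f a m ≠ 0 ∧ T.f m b ≠ 0 := by
    obtain ⟨a', ha'⟩ := T.exists_partner ha
    obtain ⟨b', hb'⟩ := T.exists_partner hb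
    by_cases h1 : T.f a' b = 0
    · by_cases h2 : T.f a b' = 0
      · refine ⟨a' + b', ?_, ?_⟩
        · rw [map_add, ha', h2, add_zero]; exact one_ne_zero
        · rw [map_add, LinearMap.add_apply, h1, zero_add, T.swap b b', hb']; simp
      · exact ⟨b', h2, by rw [T.swap b b', hb']; simp⟩
    · exact ⟨a', by rw [ha']; exact one_ne_zero, h1⟩
  obtain ⟨k, hk, e1, hp1, hm1⟩ := one a m ham
  obtain ⟨k', hk', e2, hp2, hm2⟩ := one m b hmb
  refine ⟨k' * k, mul_mem hk' hk, ?_, fun x hx => ?_, fun x hx => ?_⟩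
  · rw [mul_inv_rev, Units.val_mul, Units.val_mul, ← e2, ← e1]
    simp only [mul_assoc]
  · rw [mul_inv_rev, Units.val_mul, Units.val_mul]
    exact T.mul_mem_phi (T.mul_mem_phi (T.mul_mem_phi hp2 hp1) hx) (T.mul_mem_phi hm1 hm2)
  · rw [mul_inv_rev, Units.val_mul, Units.val_mul]
    exact T.mul_mem_phi (T.mul_mem_phi (T.mul_mem_phi hm1 hm2) hx) (T.mul_mem_phi hp2 hp1)

end CfsgLib.MaxSub.SpPow
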