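import Cfsg.Agent.Lib.MaxSub.SpPow.Quad

/-!
Two square-zero operators `n`, `d` with `C = nd + dn` not nilpotent, in a group meeting `F[C] n` and `F[C] d` in
`F n` and `F d` only: `C` is a scalar on `n` and on `d`.
-/

set_option autoImplicit false
set_option linter.unusedSectionVars false

namespace CfsgLib.MaxSub.SpPow

open CfsgLib.Chev

variable {F R : Type*} [Field F] [Ring R] [Algebra F R]

theorem exists_fixed_of_pGroup {G : Type*} [Group G] [Finite G] (p : ℕ) [Fact p.Prime] (u : G) (hu : u ^ p = 1)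
    (D : Subgroup G) (hD : p ∣ Nat.card D) (hn : ∀ x ∈ D, u * x * u⁻¹ ∈ D) :
    ∃ w ∈ D, orderOf w = p ∧ u * w = w * u := by
  let Z := Subgroup.zpowers u
  have hpow : ∀ z ∈ Z, ∀ x ∈ D, z * x * z⁻¹ ∈ D := by
    intro z hz x hx
    obtain ⟨m, rfl⟩ := (mem_powers_iff_mem_zpowers (x := u)).2 hz
    show u ^ m * x * (u ^ m)⁻¹ ∈ D
    clear hD hz
    induction m generalizing x with
    | zero => simpa using hx
    | succ m ih =>
      rw [pow_succ, show u ^ m * u * x * (u ^ m * u)⁻¹ = u ^ m * (u * x * u⁻¹) * (u ^ m)⁻¹ by group]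
      exact ih _ (hn x hx)
  let _ : MulAction Z D :=
    { smul := fun z x => ⟨z.1 * x.1 * z.1⁻¹, hpow _ z.2 _ x.2⟩
      one_smul := fun x => Subtype.ext (by show (1 : G) * x.1 * (1 : G)⁻¹ = x.1; simp)
      mul_smul := fun a b x => Subtype.ext (by
        show a.1 * b.1 * x.1 * (a.1 * b.1)⁻¹ = a.1 * (b.1 * x.1 * b.1⁻¹) * a.1⁻¹
        group) }
  have hP : IsPGroup p Z := fun z => by
    obtain ⟨z, hz⟩ := z
    obtain ⟨m, rfl⟩ := (mem_powers_iff_mem_zpowers (x := u)).2 hz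
    exact ⟨1, Subtype.ext (by show (u ^ m) ^ p ^ 1 = 1; rw [pow_one, ← pow_mul, mul_comm, pow_mul, hu, one_pow])⟩
  have hfix := Nat.modEq_zero_iff_dvd.1 ((hP.card_modEq_card_fixedPoints D).symm.trans hD.modEq_zero_nat)
  let e : MulAction.fixedPoints Z D ≃ (D ⊓ Subgroup.centralizer {u} : Subgroup G) :=
    { toFun := fun x => ⟨x.1.1, x.1.2, Subgroup.mem_centralizer_singleton_iff.2 (by
        have := congrArg Subtype.val (x.2 ⟨u, Subgroup.mem_zpowers u⟩)
        exact (mul_inv_eq_iff_eq_mul.1 this).symm)⟩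
      invFun := fun w => ⟨⟨w.1, w.2.1⟩, fun z => Subtype.ext (by
        show z.1 * w.1 * z.1⁻¹ = w.1
        obtain ⟨z, hz⟩ := z
        obtain ⟨m, rfl⟩ := (mem_powers_iff_mem_zpowers (x := u)).2 hz
        have h : Commute u w.1 := (Subgroup.mem_centralizer_singleton_iff.1 w.2.2).symm
        exact mul_inv_eq_iff_eq_mul.2 (h.pow_left m).eq)⟩
      left_inv := fun x => rfl
      right_inv := fun w => rfl }
  rw [Nat.card_congr e] at hfix
  obtain ⟨w, hw⟩ := exists_prime_orderOf_dvd_card' p hfix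
  refine ⟨w.1, w.2.1, by rw [Subgroup.orderOf_coe, hw], ?_⟩
  exact (Subgroup.mem_centralizer_singleton_iff.1 w.2.2).symm

namespace Quad

variable {Q : Quad F R}

instance instCommRingK (Q : Quad F R) : CommRing Q.K :=
  { (inferInstance : Ring Q.K) with mul_comm := fun a b => Subtype.ext (K_K a.2 b.2) }

/-- `X` represents `g` -/
def Unit.Rep (U : Q.Unit) (g : R) (X : Matrix.SpecialLinearGroup (Fin 2) Q.K) : Prop := U.psi X.1 = U.e * g

/-- upper unitriangular -/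
def kU (s : Q.K) : Matrix.SpecialLinearGroup (Fin 2) Q.K := ⟨!![1, s; 0, 1], by simp [Matrix.det_fin_two]⟩

/-- lower unitriangular -/
def kL (s : Q.K) : Matrix.SpecialLinearGroup (Fin 2) Q.K := ⟨!![1, 0; s, 1], by simp [Matrix.det_fin_two]⟩

theorem Unit.rep_root (U : Q.Unit) {g : R} {X : Matrix.SpecialLinearGroup (Fin 2) Q.K} (h : U.Rep g X) (c : F) :
    U.Rep (g * (1 + c • Q.n)) (X * kU (c • 1)) ∧
      U.Rep (g * (1 + c • Q.d)) (X * kL (c • ⟨Q.C, Q.C_mem⟩)) := by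
  unfold Unit.Rep at h ⊢
  constructor
  · rw [mul_add, mul_one, mul_smul_comm, mul_add, mul_smul_comm, ← mul_assoc, ← h, U.psi_mul_n, ← U.psi_smul,
      ← U.psi_add]
    congr 1
    rw [Matrix.SpecialLinearGroup.coe_mul]
    ext i j
    fin_cases i <;> fin_cases j <;>
      simp [kU, Matrix.mul_apply, Fin.sum_univ_two, smul_mul_assoc, mul_smul_comm, add_comm]
  · rw [mul_add, mul_one, mul_smul_comm, mul_add, mul_smul_comm, ← mul_assoc, ← h, U.psi_mul_d, ← U.psi_smul,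
      ← U.psi_add]
    congr 1
    rw [Matrix.SpecialLinearGroup.coe_mul]
    ext i j
    fin_cases i <;> fin_cases j <;>
      simp [kL, Matrix.mul_apply, Fin.sum_univ_two, smul_mul_assoc, mul_smul_comm, add_comm]

theorem Unit.exists_rep [Finite R] (U : Q.Unit) {g : Rˣ} (hg : g ∈ Q.grp) : ∃ X, U.Rep (g : R) X :=
  induction (P := fun x => ∃ X, U.Rep x X) ⟨1, by simp [Unit.Rep, U.psi_one]⟩
    (fun _ ⟨X, hX⟩ c => ⟨_, (U.rep_root hX c).1⟩) (fun _ ⟨X, hX⟩ c => ⟨_, (U.rep_root hX c).2⟩) hg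

theorem Unit.rep_mul [Finite R] (U : Q.Unit) {g : Rˣ} {g' : Rˣ} (hg' : g' ∈ Q.grp)
    {X : Matrix.SpecialLinearGroup (Fin 2) Q.K} (h : U.Rep (g : R) X) :
    ∃ X', U.Rep (g' : R) X' ∧ U.Rep ((g : R) * g') (X * X') :=
  induction (P := fun x => ∃ X', U.Rep x X' ∧ U.Rep ((g : R) * x) (X * X'))
    ⟨1, by simp [Unit.Rep, U.psi_one], by rw [mul_one, mul_one]; exact h⟩
    (fun _ ⟨X', h1, h2⟩ c => ⟨_, (U.rep_root h1 c).1, by rw [← mul_assoc, ← mul_assoc]; exact (U.rep_root h2 c).1⟩)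
    (fun _ ⟨X', h1, h2⟩ c => ⟨_, (U.rep_root h1 c).2, by rw [← mul_assoc, ← mul_assoc]; exact (U.rep_root h2 c).2⟩)
    hg'

theorem Unit.rep_unique (U : Q.Unit) {g : R} {X Y : Matrix.SpecialLinearGroup (Fin 2) Q.K} (hX : U.Rep g X)
    (hY : U.Rep g Y) (i j : Fin 2) : ((X.1 i j : Q.K) : R) * U.e = (Y.1 i j : R) * U.e := by
  have h0 : U.psi (X.1 - Y.1) = 0 := by
    have e1 := U.psi_add (X.1 - Y.1) Y.1
    rw [sub_add_cancel] at e1
    rw [hX, hY] at e1
    exact add_right_cancel (b := U.e * g) (by rw [zero_add]; exact e1.symm)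
  have := U.zero_of_psi h0 i j
  rw [Matrix.sub_apply, Subalgebra.coe_sub, sub_mul, sub_eq_zero] at this
  exact this

/-- the residue representation -/
noncomputable def Unit.chi [Finite R] (U : Q.Unit) {κ : Type*} [Field κ] (φ : Q.K →+* κ) (hφ : φ U.e = 1) :
    Q.grp →* Matrix.SpecialLinearGroup (Fin 2) κ :=
  MonoidHom.mk' (fun g => Matrix.SpecialLinearGroup.map φ (U.exists_rep g.2).choose) (fun a b => by
    obtain ⟨X', h1, h2⟩ := U.rep_mul b.2 (U.exists_rep a.2).choose_spec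
    have key : ∀ {g : R} {X Y : Matrix.SpecialLinearGroup (Fin 2) Q.K}, U.Rep g X → U.Rep g Y →
        Matrix.SpecialLinearGroup.map φ X = Matrix.SpecialLinearGroup.map φ Y := fun {g X Y} hX hY => Subtype.ext (by
      ext i j
      have := congrArg φ (Subtype.ext (U.rep_unique hX hY i j) : X.1 i j * U.e = Y.1 i j * U.e)
      rw [map_mul, map_mul, hφ, mul_one, mul_one] at this
      exact this)
    show Matrix.SpecialLinearGroup.map φ _ = Matrix.SpecialLinearGroup.map φ _ * Matrix.SpecialLinearGroup.map φ _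
    rw [← map_mul]
    refine (key (Y := (U.exists_rep a.2).choose * X') ((U.exists_rep (a * b).2).choose_spec) ?_).trans ?_
    · rw [Subgroup.coe_mul, Units.val_mul]; exact h2
    · rw [map_mul, map_mul, key (U.exists_rep b.2).choose_spec h1])

theorem Unit.chi_eq [Finite R] (U : Q.Unit) {κ : Type*} [Field κ] (φ : Q.K →+* κ) (hφ : φ U.e = 1) (g : Q.grp)
    {X : Matrix.SpecialLinearGroup (Fin 2) Q.K} (h : U.Rep ((g : Rˣ) : R) X) :
    U.chi φ hφ g = Matrix.SpecialLinearGroup.map φ X := by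
  refine Subtype.ext ?_
  ext i j
  have := congrArg φ (Subtype.ext (U.rep_unique (U.exists_rep g.2).choose_spec h i j) :
    (U.exists_rep g.2).choose.1 i j * U.e = X.1 i j * U.e)
  rw [map_mul, map_mul, hφ, mul_one, mul_one] at this
  exact this

theorem Unit.chi_n [Finite R] (U : Q.Unit) {κ : Type*} [Field κ] (φ : Q.K →+* κ) (hφ : φ U.e = 1) (g : Q.grp) (c : F)
    (hg : ((g : Rˣ) : R) = 1 + c • Q.n) : U.chi φ hφ g = slU (φ (c • 1)) := by
  have h1 : U.Rep 1 1 := by simp [Unit.Rep, U.psi_one]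
  have h := (U.rep_root h1 c).1
  rw [one_mul, one_mul, ← hg] at h
  rw [U.chi_eq φ hφ g h]
  refine Subtype.ext ?_
  ext i j
  show φ ((kU (c • 1)).1 i j) = _
  fin_cases i <;> fin_cases j <;> simp [kU, slU]

theorem Unit.chi_d [Finite R] (U : Q.Unit) {κ : Type*} [Field κ] (φ : Q.K →+* κ) (hφ : φ U.e = 1) (g : Q.grp) (c : F)
    (hg : ((g : Rˣ) : R) = 1 + c • Q.d) : U.chi φ hφ g = slL (φ (c • 1) * φ ⟨Q.C, Q.C_mem⟩) := by
  have h1 : U.Rep 1 1 := by simp [Unit.Rep, U.psi_one]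
  have h := (U.rep_root h1 c).2
  rw [one_mul, one_mul, ← hg] at h
  rw [U.chi_eq φ hφ g h]
  refine Subtype.ext ?_
  ext i j
  show φ ((kL (c • ⟨Q.C, Q.C_mem⟩)).1 i j) = _
  fin_cases i <;> fin_cases j <;> simp [kL, slL, ← map_mul]

theorem Unit.exists_max [Finite R] (U : Q.Unit) {s : Q.K} (hs : ¬ IsNilpotent (U.e * s)) :
    ∃ m : Ideal Q.K, m.IsPrime ∧ m.IsMaximal ∧ U.e * s ∉ m := by
  have : ¬ U.e * s ∈ nilradical Q.K := hs
  rw [nilradical_eq_sInf, Submodule.mem_sInf] at this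
  push Not at this
  obtain ⟨m, hm, hms⟩ := this
  haveI : Ideal.IsPrime m := hm
  exact ⟨m, hm, IsArtinianRing.isMaximal_of_isPrime m, hms⟩

/-- a residue field in which a given element of `e F[C]` is not zero -/
theorem Unit.exists_residue [Finite R] (U : Q.Unit) {s : Q.K} (hs : ¬ IsNilpotent (U.e * s)) :
    ∃ (m : Ideal Q.K) (_ : m.IsMaximal), Ideal.Quotient.mk m U.e = 1 ∧ Ideal.Quotient.mk m s ≠ 0 := by
  obtain ⟨m, hp, hm, hms⟩ := U.exists_max hs
  refine ⟨m, hm, ?_, fun h => hms (m.mul_mem_left _ (Ideal.Quotient.eq_zero_iff_mem.1 h))⟩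
  have hne : U.e ∉ m := fun h => hms (m.mul_mem_right _ h)
  have h0 : U.e * (1 - U.e) ∈ m := by rw [mul_sub, mul_one, U.he, sub_self]; exact m.zero_mem
  have h1 := (hp.mem_or_mem h0).resolve_left hne
  rw [← map_one (Ideal.Quotient.mk m), eq_comm, Ideal.Quotient.eq]
  exact h1

end Quad

end CfsgLib.MaxSub.SpPow
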