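import Cfsg.Agent.Lib.MaxSub.SpPow.Residue

/-!
Two square-zero operators with `C = nd + dn` not nilpotent whose root groups are the only members
`1 + s n`, `1 + s d`, `s ∈ F[C]`, of the group: `C` is one scalar on both.
-/

set_option autoImplicit false
set_option linter.unusedSectionVars false

namespace CfsgLib.MaxSub.SpPow

open CfsgLib.Chev

variable {F R : Type*} [Field F] [Ring R] [Algebra F R]

namespace Quad

variable {Q : Quad F R}

theorem comm_grp [Finite R] {g : Rˣ} (hg : g ∈ Q.grp) {s : R} (hs : s ∈ Q.K) : (g : R) * s = s * (g : R) :=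
  induction (P := fun x => x * s = s * x) (by rw [one_mul, mul_one])
    (fun x hx c => by
      rw [mul_assoc, show (1 + c • Q.n) * s = s * (1 + c • Q.n) by
        rw [add_mul, mul_add, one_mul, mul_one, smul_mul_assoc, mul_smul_comm, K_n hs], ← mul_assoc, hx, mul_assoc])
    (fun x hx c => by
      rw [mul_assoc, show (1 + c • Q.d) * s = s * (1 + c • Q.d) by
        rw [add_mul, mul_add, one_mul, mul_one, smul_mul_assoc, mul_smul_comm, K_d hs], ← mul_assoc, hx, mul_assoc])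
    hg

/-- the residue field and the map of scalars into it -/
theorem Unit.fields [Finite R] [Fintype F] (U : Q.Unit) {κ : Type*} [Field κ] [Fintype κ] (φ : Q.K →+* κ)
    (hφ : φ U.e = 1) (h2 : (2 : F) ≠ 0) (h4 : 4 ≤ Nat.card F) :
    φ ⟨Q.C, Q.C_mem⟩ ≠ 0 ∧ ∃ F1 : Subfield κ, (φ.comp (algebraMap F Q.K)).fieldRange ≤ F1 ∧
      φ ⟨Q.C, Q.C_mem⟩ ∈ F1 ∧ (∀ x ∈ F1, slU x ∈ (U.chi φ hφ).range) ∧
      ∀ x ∈ F1, slL x ∈ (U.chi φ hφ).range := by
  classical
  set ι₀ := φ.comp (algebraMap F Q.K) with hι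
  have hc : φ ⟨Q.C, Q.C_mem⟩ ≠ 0 := fun h0 => one_ne_zero (α := κ) (by
    rw [← hφ, show U.e = U.c' * ⟨Q.C, Q.C_mem⟩ from Subtype.ext U.hc.symm, map_mul, h0, mul_zero])
  refine ⟨hc, ?_⟩
  have hsm : ∀ c : F, φ (c • (1 : Q.K)) = ι₀ c := fun c => by
    rw [hι, RingHom.comp_apply, Algebra.algebraMap_eq_smul_one]
  set w : Matrix.SpecialLinearGroup (Fin 2) κ := ⟨!![0, 1; -1, 0], by simp [Matrix.det_fin_two]⟩
  have wU : ∀ x, w * slU x = slL (-x) * w := fun x => Subtype.ext (by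
    rw [Matrix.SpecialLinearGroup.coe_mul, Matrix.SpecialLinearGroup.coe_mul]
    ext i j
    fin_cases i <;> fin_cases j <;> simp [w, slU, slL, Matrix.mul_apply, Fin.sum_univ_two])
  have wL : ∀ x, w * slL x = slU (-x) * w := fun x => Subtype.ext (by
    rw [Matrix.SpecialLinearGroup.coe_mul, Matrix.SpecialLinearGroup.coe_mul]
    ext i j
    fin_cases i <;> fin_cases j <;> simp [w, slU, slL, Matrix.mul_apply, Fin.sum_univ_two])
  set Γ := (U.chi φ hφ).range.map (MulAut.conj w).toMonoidHom with hΓ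
  have memΓ : ∀ y z, y ∈ (U.chi φ hφ).range → w * y = z * w → z ∈ Γ := by
    intro y z hy h
    refine ⟨y, hy, ?_⟩
    show w * y * w⁻¹ = z
    rw [h, mul_inv_cancel_right]
  have h2κ : (2 : κ) ≠ 0 := by
    rw [← map_ofNat ι₀ 2]
    exact (map_ne_zero ι₀).2 h2
  have hcard : Nat.card ι₀.fieldRange = Nat.card F :=
    (Nat.card_congr (Equiv.ofInjective ι₀ ι₀.injective)).symm
  obtain ⟨F1, hle, hmem, hU, hL⟩ := sl2_subfield h2κ ι₀.fieldRange (by rw [hcard]; exact h4) Γ (neg_ne_zero.2 hc)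
    (fun t ht => by
      obtain ⟨c, rfl⟩ := ht
      obtain ⟨g, hg, hgc⟩ := Q.mem_gens_n (-c)
      refine memΓ _ _ ⟨⟨g, Subgroup.subset_closure hg⟩, U.chi_n φ hφ _ _ hgc⟩ ?_
      rw [wU, hsm, map_neg, neg_neg])
    (fun t ht => by
      obtain ⟨c, rfl⟩ := ht
      obtain ⟨g, hg, hgc⟩ := Q.mem_gens_d c
      refine memΓ _ _ ⟨⟨g, Subgroup.subset_closure hg⟩, U.chi_d φ hφ _ _ hgc⟩ ?_
      rw [wL, hsm]
      congr 2
      ring)
  refine ⟨F1, hle, by simpa using F1.neg_mem hmem, fun x hx => ?_, fun x hx => ?_⟩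
  · obtain ⟨y, hy, hye⟩ := hL (-x) (F1.neg_mem hx)
    have h : w * y * w⁻¹ = slL (-x) := hye
    rw [mul_inv_eq_iff_eq_mul, ← wU, mul_right_inj] at h
    rwa [h] at hy
  · obtain ⟨y, hy, hye⟩ := hU (-x) (F1.neg_mem hx)
    have h : w * y * w⁻¹ = slU (-x) := hye
    rw [mul_inv_eq_iff_eq_mul, ← wL, mul_right_inj] at h
    rwa [h] at hy

theorem Unit.psi_n_mul (U : Q.Unit) (X : Matrix (Fin 2) (Fin 2) Q.K) :
    Q.n * U.psi X = U.psi (!![0, 1; 0, 0] * X) := by
  have pullK : ∀ (t : Q.K) (w : R), Q.n * ((t : R) * w) = t * (Q.n * w) := fun t w => by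
    rw [← mul_assoc, K_n t.2, mul_assoc]
  have e1 : Q.n * (Q.n * Q.d) = 0 := by rw [← mul_assoc, Q.hn, zero_mul]
  have e2 : Q.n * (Q.d * Q.n) = Q.C * Q.n := by rw [← mul_assoc, ← Q.C_mul_n]
  have e3 : (U.c' : R) * (Q.C * Q.n) = U.e * Q.n := by rw [← mul_assoc, U.hc]
  simp only [Unit.psi, Matrix.mul_apply, Fin.sum_univ_two, Matrix.of_apply, Matrix.cons_val', Matrix.cons_val_zero,
    Matrix.cons_val_one, Matrix.empty_val', Matrix.cons_val_fin_one, zero_mul, one_mul, zero_add,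
    ZeroMemClass.coe_zero, add_zero, mul_add, pullK, e1, e2, e3, Q.hn, mul_zero]

/-- a member commuting with `n`, trivial outside `e`, of odd order: `1 + s n` -/
theorem Unit.exists_upper [Finite R] [Nontrivial R] (p : ℕ) [Fact p.Prime] [CharP F p] (hp : p ≠ 2) (U : Q.Unit)
    {w : Rˣ} (hw : w ∈ Q.grp) (h1 : (1 - (U.e : R)) * w = 1 - (U.e : R)) (hn : (w : R) * Q.n = Q.n * w) {m : ℕ}
    (hm : (w : R) ^ p ^ m = 1) : ∃ s ∈ Q.K, s * U.e = s ∧ (w : R) = 1 + s * Q.n := by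
  obtain ⟨X, hX⟩ := U.exists_rep hw
  have hX' : U.psi X.1 = U.e * w := hX
  have hz : U.psi (X.1 * !![0, 1; 0, 0] - !![0, 1; 0, 0] * X.1) = 0 := by
    have e1 := U.psi_add (X.1 * !![0, 1; 0, 0] - !![0, 1; 0, 0] * X.1) (!![0, 1; 0, 0] * X.1)
    rw [sub_add_cancel, ← U.psi_mul_n, ← U.psi_n_mul, hX', mul_assoc, hn, ← mul_assoc,
      ← mul_assoc Q.n, K_n U.e.2] at e1
    exact add_right_cancel (b := (U.e : R) * Q.n * w) (by rw [zero_add]; exact e1.symm)
  have z00 := U.zero_of_psi hz 0 0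
  have z01 := U.zero_of_psi hz 0 1
  simp only [Matrix.sub_apply, Matrix.mul_apply, Fin.sum_univ_two] at z00 z01
  simp at z00 z01
  rw [sub_mul, sub_eq_zero] at z01
  obtain ⟨a, ha⟩ : ∃ a, a = (X.1 0 0 : R) * U.e := ⟨_, rfl⟩
  obtain ⟨s, hs⟩ : ∃ s, s = (X.1 0 1 : R) * U.e := ⟨_, rfl⟩
  have haK : a ∈ Q.K := ha ▸ mul_mem (X.1 0 0).2 U.e.2
  have hsK : s ∈ Q.K := hs ▸ mul_mem (X.1 0 1).2 U.e.2
  have hdet : a * a = U.e := by
    have h := congrArg (fun x : Q.K => (x : R) * U.e) X.2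
    simp only [Matrix.det_fin_two, Subalgebra.coe_sub, Subalgebra.coe_mul, OneMemClass.coe_one, one_mul, sub_mul,
      mul_assoc, z00, ← z01, mul_zero, sub_zero] at h
    calc a * a = (X.1 0 0 : R) * ((U.e : R) * (X.1 0 0 : R)) * U.e := by rw [ha]; simp only [mul_assoc]
      _ = (X.1 0 0 : R) * ((X.1 0 0 : R) * U.e) * U.e := by rw [K_K U.e.2 (X.1 0 0).2]
      _ = U.e := by rw [mul_assoc, mul_assoc, U.e_e, h]
  have hew : (U.e : R) * w = a + s * Q.n := by
    rw [← hX', Unit.psi]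
    have q1 : ∀ t : Q.K, (t : R) * U.c' = (t : R) * U.e * U.c' := fun t => by
      rw [mul_assoc, K_K U.e.2 U.c'.2, U.c'_e]
    rw [show (X.1 1 0 : R) * (U.c' * Q.d) = 0 by rw [← mul_assoc, q1, z00, zero_mul, zero_mul],
      show (X.1 0 0 : R) * (U.c' * (Q.n * Q.d)) = a * (U.c' * (Q.n * Q.d)) by
        rw [← mul_assoc, q1, mul_assoc, ← ha],
      show (X.1 1 1 : R) * (U.c' * (Q.d * Q.n)) = a * (U.c' * (Q.d * Q.n)) by
        rw [← mul_assoc, q1, ← z01, mul_assoc, ← ha],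
      add_zero, add_right_comm, ← mul_add, U.e_eq, ← mul_assoc, ha, hs, mul_assoc _ (U.e : R) (U.e : R), U.e_e]
  set b := 1 - (U.e : R) + a with hb
  have hbK : b ∈ Q.K := add_mem (sub_mem (one_mem _) U.e.2) haK
  have hwb : (w : R) = b + s * Q.n := by
    calc (w : R) = (1 - (U.e : R)) * w + U.e * w := by rw [← add_mul, sub_add_cancel, one_mul]
      _ = b + s * Q.n := by rw [h1, hew, hb]; abel
  haveI : CharP R p := charP_of_injective_algebraMap (algebraMap F R).injective p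
  have hcomm : Commute b (s * Q.n) := by
    show b * (s * Q.n) = s * Q.n * b
    rw [mul_assoc s, K_n hbK, ← mul_assoc, ← mul_assoc, K_K hbK hsK]
  have hsn : (s * Q.n) * (s * Q.n) = 0 := by
    rw [mul_assoc, ← mul_assoc Q.n, K_n hsK, mul_assoc, Q.hn, mul_zero, mul_zero]
  have hbp : b ^ p ^ m = 1 := by
    rcases Nat.eq_zero_or_pos m with rfl | hm0
    · rw [pow_zero, pow_one] at hm ⊢
      rw [hwb] at hm
      have hsz : s * Q.n = 1 - b := by rw [← hm]; abel
      have hbb : (1 - b) * (1 - b) = 0 := by rw [← hsz, hsn]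
      have hb1 : (1 : R) - b = U.e - a := by rw [hb]; abel
      have hee : (U.e : R) * a = a := by
        rw [ha, ← mul_assoc, K_K U.e.2 (X.1 0 0).2, mul_assoc, U.e_e]
      have hae : a * U.e = a := by rw [ha, mul_assoc, U.e_e]
      rw [hb1, sub_mul, mul_sub, mul_sub, U.e_e, hee, hae, hdet] at hbb
      have h22 : (2 : F) • ((U.e : R) - a) = 0 := by
        rw [two_smul]; rw [← hbb]; abel
      have h2 : (2 : F) ≠ 0 := fun e => hp (((CharP.cast_eq_zero_iff F p 2).1 (by exact_mod_cast e)) |>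
        fun d => (Nat.prime_dvd_prime_iff_eq Fact.out Nat.prime_two).1 d)
      have hea : (U.e : R) - a = 0 := by rw [← inv_smul_smul₀ h2 ((U.e : R) - a), h22, smul_zero]
      rw [hb, ← sub_eq_zero.1 hea, sub_add_cancel]
    · rw [hwb, add_pow_char_pow_of_commute _ _ hcomm] at hm
      have h2 : (s * Q.n) ^ p ^ m = 0 := by
        obtain ⟨r, hr⟩ := Nat.exists_eq_add_of_le
          ((Fact.out : p.Prime).two_le.trans (Nat.le_self_pow hm0.ne' p))
        rw [hr, pow_add, pow_two, hsn, zero_mul]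
      rwa [h2, add_zero] at hm
  have hb2 : b * b = 1 := by
    have e1 : (1 - (U.e : R)) * a = 0 := by
      rw [ha, ← mul_assoc, sub_mul, one_mul, K_K U.e.2 (X.1 0 0).2, sub_mul, mul_assoc, U.e_e, sub_self]
    have e2 : a * (1 - (U.e : R)) = 0 := by rw [K_K haK (sub_mem (one_mem _) U.e.2), e1]
    rw [hb, add_mul, mul_add, mul_add, e1, e2, hdet, mul_sub, mul_one, sub_mul, one_mul, U.e_e]
    abel
  have hb1 : b = 1 := by
    obtain ⟨r, hr⟩ : Odd (p ^ m) := ((Fact.out : p.Prime).odd_of_ne_two hp).pow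
    rw [hr, pow_succ, pow_mul, pow_two, hb2, one_pow, one_mul] at hbp
    exact hbp
  exact ⟨s, hsK, by rw [hs, mul_assoc, U.e_e], by rw [hwb, hb1]⟩

variable [Finite R] [Nontrivial R] [Fintype F]

/-- the idempotent fixes `n` -/
theorem Unit.e_mul_n (p : ℕ) [Fact p.Prime] [CharP F p] (hp : p ≠ 2) (h4 : 4 ≤ Nat.card F) (U : Q.Unit)
    (he0 : (U.e : R) ≠ 0) {N : ℕ} (hN : (1 - (U.e : R)) * Q.C ^ N = 0)
    (hZ : ∀ g ∈ Q.grp, ∀ s ∈ Q.K, (g : R) = 1 + s * Q.n → ∃ c : F, s * Q.n = c • Q.n) :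
    (U.e : R) * Q.n = Q.n := by
  classical
  haveI : Finite Rˣ := Finite.of_injective _ Units.val_injective
  have h2 : (2 : F) ≠ 0 := fun e => hp
    ((Nat.prime_dvd_prime_iff_eq Fact.out Nat.prime_two).1 ((CharP.cast_eq_zero_iff F p 2).1 (by exact_mod_cast e)))
  set f := 1 - (U.e : R) with hf
  have hfK : f ∈ Q.K := sub_mem (one_mem _) U.e.2
  have hff : f * f = f := by rw [hf, mul_sub, mul_one, sub_mul, one_mul, U.e_e]; abel
  have hef : (U.e : R) * f = 0 := by rw [hf, mul_sub, mul_one, U.e_e, sub_self]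
  have hfe : f * U.e = 0 := by rw [hf, sub_mul, one_mul, U.e_e, sub_self]
  -- the part outside `e`
  have hmul : ∀ a b : Q.grp, (f * ((a : Rˣ) : R) + U.e) * (f * ((b : Rˣ) : R) + U.e) =
      f * (((a * b : Q.grp) : Rˣ) : R) + U.e := by
    intro a b
    have ca := comm_grp a.2 hfK
    have ce := comm_grp a.2 U.e.2
    have cb := comm_grp b.2 U.e.2
    rw [Subgroup.coe_mul, Units.val_mul, add_mul, mul_add, mul_add, U.e_e,
      show f * ((a : Rˣ) : R) * (f * ((b : Rˣ) : R)) = f * (((a : Rˣ) : R) * ((b : Rˣ) : R)) by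
        rw [← mul_assoc, mul_assoc f ((a : Rˣ) : R) f, ca, ← mul_assoc, hff, mul_assoc],
      show f * ((a : Rˣ) : R) * U.e = 0 by rw [mul_assoc, ce, ← mul_assoc, hfe, zero_mul],
      show (U.e : R) * (f * ((b : Rˣ) : R)) = 0 by rw [← mul_assoc, hef, zero_mul]]
    abel
  have h1v : f * (((1 : Q.grp) : Rˣ) : R) + U.e = 1 := by simp [hf]
  let ρ : Q.grp →* Rˣ :=
    { toFun := fun g => ⟨f * ((g : Rˣ) : R) + U.e, f * (((g⁻¹ : Q.grp) : Rˣ) : R) + U.e,
        by rw [hmul, mul_inv_cancel, h1v], by rw [hmul, inv_mul_cancel, h1v]⟩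
      map_one' := Units.ext h1v
      map_mul' := fun a b => Units.ext (hmul a b).symm }
  have hρp : IsPGroup p ρ.range := by
    rintro ⟨_, g, rfl⟩
    obtain ⟨m, hm⟩ := pow_eq (F := F) p hfK hff hN g.2
    refine ⟨m, Subtype.ext ?_⟩
    show ρ g ^ p ^ m = 1
    rw [← map_pow]
    refine Units.ext ?_
    show f * (((g ^ p ^ m : Q.grp) : Rˣ) : R) + U.e = 1
    rw [SubgroupClass.coe_pow, Units.val_pow_eq_pow_val, hm, hf, sub_add_cancel]
  haveI : Group.IsNilpotent ρ.range := hρp.isNilpotent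
  obtain ⟨n0, hn0⟩ : ∃ n0, derivedSeries ρ.range n0 = ⊥ := (isSolvable_def _).1 inferInstance
  set D := derivedSeries Q.grp n0 with hD
  have hDρ : ∀ g ∈ D, f * ((g : Rˣ) : R) = f := by
    intro g hg
    have h := map_derivedSeries_le_derivedSeries ρ.rangeRestrict n0 ⟨g, hg, rfl⟩
    rw [hn0, Subgroup.mem_bot] at h
    have h' : f * ((g : Rˣ) : R) + U.e = 1 := congrArg (fun z : ρ.range => ((z : Rˣ) : R)) h
    rw [eq_sub_of_add_eq h']
  -- a residue field
  obtain ⟨m, hm, hme, -⟩ := U.exists_residue (s := 1) (by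
    rw [mul_one]
    rintro ⟨k, hk⟩
    rcases k with _ | k
    · rw [pow_zero] at hk
      exact one_ne_zero (α := R) (congrArg Subtype.val hk)
    · rw [IsIdempotentElem.pow_succ_eq k U.he] at hk
      exact he0 (congrArg Subtype.val hk))
  let _ : Field (Q.K ⧸ m) := Ideal.Quotient.field m
  haveI : Finite (Q.K ⧸ m) := Finite.of_surjective _ Ideal.Quotient.mk_surjective
  let _ : Fintype (Q.K ⧸ m) := Fintype.ofFinite _
  set φ := Ideal.Quotient.mk m
  obtain ⟨-, F1, hle, -, hU, hL⟩ := U.fields φ hme h2 h4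
  have hcard : Nat.card F ≤ Nat.card F1 := by
    rw [Nat.card_congr (Equiv.ofInjective (φ.comp (algebraMap F Q.K)) (φ.comp (algebraMap F Q.K)).injective)]
    exact Nat.card_le_card_of_injective (fun x => (⟨x.1, hle x.2⟩ : F1)) fun a b h => Subtype.ext (congrArg Subtype.val h :)
  set χ := U.chi φ hme
  have hDp : p ∣ Nat.card D := by
    have hu : slU (1 : Q.K ⧸ m) ∈ (derivedSeries χ.range n0).map χ.range.subtype := by
      refine sl2_map_le_derived F1 (h4.trans hcard) χ.range hU hL n0 ⟨slU (1 : F1), Subgroup.mem_top _, ?_⟩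
      refine Subtype.ext ?_
      ext i j
      show F1.subtype ((slU (1 : F1)).1 i j) = _
      fin_cases i <;> fin_cases j <;> simp [slU]
    obtain ⟨x, hx, hxu⟩ := hu
    obtain ⟨y, hy, rfl⟩ := derivedSeries_le_map_derivedSeries χ.rangeRestrict_surjective n0 hx
    haveI : CharP (Q.K ⧸ m) p := charP_of_injective_ringHom (φ.comp (algebraMap F Q.K)).injective p
    have ho : orderOf (χ y) = p := by
      rw [show χ y = slU 1 from hxu]
      refine orderOf_eq_prime (slU_pow_char p _) fun e => ?_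
      have := congrArg (fun A : Matrix.SpecialLinearGroup (Fin 2) (Q.K ⧸ m) => A.1 0 1) e
      simp [slU] at this
    have h1 : orderOf y ∣ Nat.card D := (Subgroup.orderOf_mk y hy) ▸ orderOf_dvd_natCard _
    exact (ho ▸ orderOf_map_dvd χ y).trans h1
  obtain ⟨g, hg, hgn⟩ := Q.mem_gens_n 1
  rw [one_smul] at hgn
  set u : Q.grp := ⟨g, Subgroup.subset_closure hg⟩
  have hup : u ^ p = 1 := Subtype.ext (Units.ext (by
    show ((g ^ p : Rˣ) : R) = 1
    rw [Units.val_pow_eq_pow_val, hgn, ← pow_one p, pow_char (F := F) p]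
    obtain ⟨r, hr⟩ := Nat.exists_eq_add_of_le ((Fact.out : p.Prime).two_le)
    rw [pow_one, hr, pow_add, pow_two, Q.hn, zero_mul, add_zero]))
  have hnorm : D.Normal := derivedSeries_normal _ n0
  obtain ⟨w, hwD, hwo, hwu⟩ := exists_fixed_of_pGroup p u hup D hDp fun x hx => hnorm.conj_mem x hx u
  have hwn : ((w : Rˣ) : R) * Q.n = Q.n * ((w : Rˣ) : R) := by
    have := congrArg (fun z : Q.grp => ((z : Rˣ) : R)) hwu
    simp only [Subgroup.coe_mul, Units.val_mul, u, hgn, add_mul, mul_add, one_mul, mul_one, add_right_inj] at this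
    exact this.symm
  obtain ⟨s, hs, hse, hw⟩ := U.exists_upper (F := F) p hp w.2 (hDρ w hwD) hwn (m := 1) (by
    rw [pow_one]
    have := congrArg (fun z : Q.grp => ((z : Rˣ) : R)) (hwo ▸ pow_orderOf_eq_one w)
    simpa using this)
  obtain ⟨c, hc⟩ := hZ w w.2 s hs hw
  have hc0 : c ≠ 0 := fun h0 => by
    rw [hc, h0, zero_smul, add_zero] at hw
    have : w = 1 := Subtype.ext (Units.ext hw)
    rw [this, orderOf_one] at hwo
    exact (Fact.out : p.Prime).one_lt.ne' hwo.symm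
  have h : (U.e : R) * (s * Q.n) = s * Q.n := by rw [← mul_assoc, K_K U.e.2 hs, hse]
  rw [hc, mul_smul_comm] at h
  calc (U.e : R) * Q.n = c⁻¹ • c • ((U.e : R) * Q.n) := (inv_smul_smul₀ hc0 _).symm
    _ = Q.n := by rw [h, inv_smul_smul₀ hc0]

end Quad

end CfsgLib.MaxSub.SpPow
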