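import Cfsg.Agent.Lib.MaxSub.SpPow.Scalar

/-!
Two square-zero operators: the Sylow bound for their group, the residue fields, representing matrices.
-/

set_option autoImplicit false
set_option linter.unusedSectionVars false

namespace CfsgLib.MaxSub.SpPow

open CfsgLib.Chev

variable {F R : Type*} [Field F] [Ring R] [Algebra F R]

namespace Quad

variable {Q : Quad F R}

/-- with the idempotent fixing both operators, the `p`-part of the group order is at most the field -/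
theorem Unit.pow_le_card [Finite R] [Nontrivial R] [Fintype F] (p : ℕ) [Fact p.Prime] [CharP F p] (hp : p ≠ 2)
    (U : Q.Unit) (hn0 : Q.n ≠ 0) (hout : ∀ g ∈ Q.grp, (1 - (U.e : R)) * (g : Rˣ) = 1 - (U.e : R))
    (hZn : ∀ g ∈ Q.grp, ∀ s ∈ Q.K, (g : R) = 1 + s * Q.n → ∃ c : F, s * Q.n = c • Q.n) {a : ℕ}
    (ha : p ^ a ∣ Nat.card Q.grp) : p ^ a ≤ Nat.card F := by
  classical
  haveI : Finite Rˣ := Finite.of_injective _ Units.val_injective
  have hp' : p.Prime := Fact.out
  let X0 : Subgroup Q.grp :=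
    { carrier := {g | ∃ c : F, ((g : Rˣ) : R) = 1 + c • Q.n}
      one_mem' := ⟨0, by simp⟩
      mul_mem' := by
        rintro a b ⟨c, hc⟩ ⟨c', hc'⟩
        refine ⟨c + c', ?_⟩
        rw [Subgroup.coe_mul, Units.val_mul, hc, hc', add_mul, one_mul, mul_add, mul_one, smul_mul_smul, Q.hn,
          smul_zero, add_zero, add_smul]
        abel
      inv_mem' := by
        rintro a ⟨c, hc⟩
        refine ⟨-c, ?_⟩
        rw [Subgroup.coe_inv, inv_one_add (by rw [smul_mul_smul, Q.hn, smul_zero]) hc, neg_smul, sub_eq_add_neg] }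
  have hX0 : Nat.card X0 = Nat.card F := by
    have hbij : Function.Bijective (fun c : F => (⟨⟨(Q.mem_gens_n c).choose,
        Subgroup.subset_closure (Q.mem_gens_n c).choose_spec.1⟩, c, (Q.mem_gens_n c).choose_spec.2⟩ : X0)) := by
      refine ⟨fun a b h => ?_, fun x => ?_⟩
      · have e := congrArg (fun z : X0 => (((z : Q.grp) : Rˣ) : R)) h
        simp only [(Q.mem_gens_n a).choose_spec.2, (Q.mem_gens_n b).choose_spec.2, add_right_inj] at e
        exact smul_left_injective F hn0 e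
      · obtain ⟨x, c, hc⟩ := x
        exact ⟨c, Subtype.ext (Subtype.ext (Units.ext ((Q.mem_gens_n c).choose_spec.2.trans hc.symm)))⟩
    exact (Nat.card_congr (Equiv.ofBijective _ hbij)).symm
  have hX0p : IsPGroup p X0 := by
    obtain ⟨n, -, hn⟩ := FiniteField.card F p
    exact IsPGroup.of_card (n := n) (by rw [hX0, Nat.card_eq_fintype_card, hn])
  obtain ⟨T, hT⟩ := hX0p.exists_le_sylow
  have hTX : (T : Subgroup Q.grp) ≤ X0 := by
    by_contra hcon
    haveI : Group.IsNilpotent (T : Subgroup Q.grp) := T.isPGroup'.isNilpotent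
    obtain ⟨g, hgT, hgn, hgX⟩ : ∃ g ∈ (T : Subgroup Q.grp), (∀ x ∈ X0, g * x * g⁻¹ ∈ X0) ∧ g ∉ X0 := by
      have hlt : X0.subgroupOf T < ⊤ := lt_top_iff_ne_top.2 fun h => hcon (Subgroup.subgroupOf_eq_top.1 h)
      obtain ⟨g, hg, hgX⟩ := SetLike.exists_of_lt (normalizerCondition_of_isNilpotent (X0.subgroupOf T) hlt)
      refine ⟨g, g.2, fun x hx => ?_, fun h => hgX (Subgroup.mem_subgroupOf.2 h)⟩
      exact (Subgroup.mem_normalizer_iff.1 hg ⟨x, hT hx⟩).1 hx
    obtain ⟨u, hu, hun⟩ := Q.mem_gens_n 1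
    obtain ⟨l, hl⟩ := hgn ⟨u, Subgroup.subset_closure hu⟩ ⟨1, hun⟩
    rw [one_smul] at hun
    have hgl : ((g : Rˣ) : R) * Q.n = l • (Q.n * ((g : Rˣ) : R)) := by
      have h : (((g : Rˣ) * u : Rˣ) : R) = (1 + l • Q.n) * ((g : Rˣ) : R) := by
        rw [← hl, Subgroup.coe_mul, Subgroup.coe_mul, Subgroup.coe_inv, ← Units.val_mul, inv_mul_cancel_right]
      rw [Units.val_mul, hun, mul_add, mul_one, add_mul, one_mul, add_right_inj, smul_mul_assoc] at h
      exact h
    obtain ⟨m, hm⟩ := T.isPGroup' ⟨g, hgT⟩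
    have hgm : ((g : Rˣ) : R) ^ p ^ m = 1 := by
      have := congrArg (fun z : (T : Subgroup Q.grp) => (((z : Q.grp) : Rˣ) : R)) hm
      simpa using this
    have hpow : ∀ j, ((g : Rˣ) : R) ^ j * Q.n = l ^ j • (Q.n * ((g : Rˣ) : R) ^ j) := by
      intro j
      induction j with
      | zero => simp
      | succ j ih =>
        rw [pow_succ', mul_assoc, ih, mul_smul_comm, ← mul_assoc, hgl, smul_mul_assoc, smul_smul, mul_assoc,
          ← pow_succ', ← pow_succ]
    have h1 := hpow (p ^ m)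
    rw [hgm, one_mul, mul_one] at h1
    have hl1 : l = 1 := by
      have h3 : l ^ p ^ m = 1 := smul_left_injective F hn0 (by simpa using h1.symm)
      have h4' : (l - 1) ^ p ^ m = 0 := by
        haveI : ExpChar F p := ExpChar.prime hp'
        rw [sub_pow_expChar_pow, h3, one_pow, sub_self]
      exact sub_eq_zero.1 (pow_eq_zero_iff (pow_ne_zero _ hp'.ne_zero) |>.1 h4')
    rw [hl1, one_smul] at hgl
    obtain ⟨s, hs, -, hgs⟩ := U.exists_upper (F := F) p hp g.2 (hout g g.2) hgl hgm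
    obtain ⟨c, hc⟩ := hZn g g.2 s hs hgs
    exact hgX ⟨c, by rw [hgs, hc]⟩
  calc p ^ a ≤ p ^ (Nat.card Q.grp).factorization p :=
        Nat.pow_le_pow_right hp'.pos ((hp'.pow_dvd_iff_le_factorization Nat.card_pos.ne').1 ha)
    _ = Nat.card (T : Subgroup Q.grp) := T.card_eq_multiplicity.symm
    _ = Nat.card F := by rw [le_antisymm hTX hT, hX0]

theorem slU_one_add {κ : Type*} [Field κ] (a b : κ) : slU (a + b) = slU a * slU b := Subtype.ext (by
  rw [Matrix.SpecialLinearGroup.coe_mul]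
  ext i j
  fin_cases i <;> fin_cases j <;> simp [slU, Matrix.mul_apply, Fin.sum_univ_two, add_comm])

/-- with the Sylow bound, a residue of `C` is a scalar and the kernel has order prime to `p` -/
theorem Unit.residue [Finite R] [Nontrivial R] [Fintype F] (p : ℕ) [Fact p.Prime] [CharP F p] (hp : p ≠ 2)
    (h4 : 4 ≤ Nat.card F) (U : Q.Unit) (hdiv : ∀ {a : ℕ}, p ^ a ∣ Nat.card Q.grp → p ^ a ≤ Nat.card F)
    {κ : Type*} [Field κ] [Fintype κ] (φ : Q.K →+* κ) (he : φ U.e = 1) :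
    (∃ l : F, l ≠ 0 ∧ φ ⟨Q.C, Q.C_mem⟩ = φ (algebraMap F Q.K l)) ∧ ¬ p ∣ Nat.card (U.chi φ he).ker := by
  classical
  haveI : Finite Rˣ := Finite.of_injective _ Units.val_injective
  have hp' : p.Prime := Fact.out
  have h2 : (2 : F) ≠ 0 := fun e => hp
    ((Nat.prime_dvd_prime_iff_eq Fact.out Nat.prime_two).1 ((CharP.cast_eq_zero_iff F p 2).1 (by exact_mod_cast e)))
  set ι₀ := φ.comp (algebraMap F Q.K) with hι
  obtain ⟨hc, F1, hle, hCF, hU, hL⟩ := U.fields φ he h2 h4
  haveI : CharP κ p := charP_of_injective_ringHom ι₀.injective p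
  set χ := U.chi φ he
  let ψ : Multiplicative F1 →* χ.range :=
    { toFun := fun x => ⟨slU ((Multiplicative.toAdd x : F1) : κ), hU _ (Multiplicative.toAdd x).2⟩
      map_one' := Subtype.ext (Subtype.ext (by
        ext i j
        fin_cases i <;> fin_cases j <;> simp [slU]))
      map_mul' := fun a b => Subtype.ext (by
        show slU ((Multiplicative.toAdd (a * b) : F1) : κ) = _
        rw [toAdd_mul, Subfield.coe_add, slU_one_add]
        rfl) }
  have hψ : Function.Injective ψ := by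
    intro a b h
    have := congrArg (fun z : χ.range => (z : Matrix.SpecialLinearGroup (Fin 2) κ).1 0 1) h
    exact Multiplicative.toAdd.injective (Subtype.ext (by simpa [ψ, slU] using this))
  have hF1 : Nat.card F1 ∣ Nat.card χ.range := by
    rw [show Nat.card F1 = Nat.card (Multiplicative F1) from Nat.card_congr Multiplicative.ofAdd]
    exact Subgroup.card_dvd_of_injective ψ hψ
  let _ : Fintype F1 := Fintype.ofFinite _
  haveI : CharP F1 p := (RingHom.charP_iff F1.subtype F1.subtype.injective p).2 inferInstance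
  obtain ⟨n1, -, hn1⟩ := FiniteField.card F1 p
  rw [← Nat.card_eq_fintype_card] at hn1
  have hker := Subgroup.card_mul_index χ.ker
  rw [Subgroup.index_ker] at hker
  have hle1 : Nat.card F1 ≤ Nat.card F :=
    hn1 ▸ hdiv (hn1 ▸ hF1.trans ⟨_, by rw [← hker, mul_comm]⟩)
  have hr : Nat.card ι₀.fieldRange = Nat.card F :=
    (Nat.card_congr (Equiv.ofInjective ι₀ ι₀.injective)).symm
  have hle' : Nat.card ι₀.fieldRange ≤ Nat.card F1 :=
    Nat.card_le_card_of_injective (fun x => (⟨x.1, hle x.2⟩ : F1)) fun a b h => Subtype.ext (congrArg Subtype.val h :)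
  have heq : ι₀.fieldRange = F1 := SetLike.coe_injective
    (Set.eq_of_subset_of_ncard_le hle (by
      rw [← Nat.card_coe_set_eq, ← Nat.card_coe_set_eq]; exact hle1.trans_eq hr.symm) (Set.toFinite _))
  rw [← heq] at hCF
  obtain ⟨l, hl⟩ := hCF
  refine ⟨⟨l, fun h0 => hc (by rw [← hl, h0, map_zero]), hl.symm⟩, fun hdk => ?_⟩
  have hp1 : p ^ ((n1 : ℕ) + 1) ∣ Nat.card Q.grp := by
    rw [← hker, pow_succ, ← hn1, mul_comm]
    exact mul_dvd_mul hdk hF1
  have := hdiv hp1
  have hFF : Nat.card F ≤ p ^ (n1 : ℕ) := hn1 ▸ hr ▸ hle'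
  rw [pow_succ] at this
  have hpos : 0 < p ^ (n1 : ℕ) := pow_pos hp'.pos _
  nlinarith [hp'.two_le]

theorem Unit.psi_congr (U : Q.Unit) {Z W : Matrix (Fin 2) (Fin 2) Q.K}
    (h : ∀ i j, (Z i j : R) * U.e = (W i j : R) * U.e) : U.psi Z = U.psi W := by
  have q1 : ∀ t : Q.K, (t : R) * U.c' = (t : R) * U.e * U.c' := fun t => by
    rw [mul_assoc, K_K U.e.2 U.c'.2, U.c'_e]
  simp only [Unit.psi, ← mul_assoc]
  rw [q1 (Z 0 0), q1 (Z 1 0), q1 (Z 1 1), q1 (W 0 0), q1 (W 1 0), q1 (W 1 1), h, h, h, h]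

theorem Unit.psi_K_mul (U : Q.Unit) (t : Q.K) (W : Matrix (Fin 2) (Fin 2) Q.K) :
    U.psi (t • W) = (t : R) * U.psi W := by
  simp [Unit.psi, mul_add, mul_assoc]

theorem Unit.rep_one (U : Q.Unit) : U.Rep 1 1 := by simp [Unit.Rep, U.psi_one]

theorem Unit.rep_mul' [Finite R] (U : Q.Unit) {g h : Q.grp} {X Y : Matrix.SpecialLinearGroup (Fin 2) Q.K}
    (hX : U.Rep ((g : Rˣ) : R) X) (hY : U.Rep ((h : Rˣ) : R) Y) :
    U.Rep (((g * h : Q.grp) : Rˣ) : R) (X * Y) := by
  obtain ⟨Y', hY1, hY2⟩ := U.rep_mul h.2 hX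
  have hu := fun i j => U.rep_unique hY1 hY i j
  rw [Unit.Rep, ← (show U.psi (X * Y').1 = U.psi (X * Y).1 from U.psi_congr fun i j => ?_), Subgroup.coe_mul,
    Units.val_mul]
  · exact hY2
  rw [Matrix.SpecialLinearGroup.coe_mul, Matrix.SpecialLinearGroup.coe_mul, Matrix.mul_apply, Matrix.mul_apply]
  simp only [Fin.sum_univ_two, Subalgebra.coe_add, Subalgebra.coe_mul, add_mul, mul_assoc, hu]

theorem Unit.rep_inv [Finite R] (U : Q.Unit) {g : Q.grp} {X : Matrix.SpecialLinearGroup (Fin 2) Q.K}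
    (hX : U.Rep ((g : Rˣ) : R) X) : U.Rep (((g⁻¹ : Q.grp) : Rˣ) : R) X⁻¹ := by
  obtain ⟨Y, hY⟩ := U.exists_rep g⁻¹.2
  have h1 := U.rep_mul' hX hY
  rw [mul_inv_cancel, OneMemClass.coe_one, Units.val_one] at h1
  have hu := fun i j => U.rep_unique h1 U.rep_one i j
  rw [Unit.Rep, ← hY]
  conv_lhs => rw [← mul_one X⁻¹]
  conv_rhs => rw [show Y = X⁻¹ * (X * Y) by rw [inv_mul_cancel_left]]
  refine U.psi_congr fun i j => ?_
  rw [Matrix.SpecialLinearGroup.coe_mul X⁻¹ 1, Matrix.SpecialLinearGroup.coe_mul X⁻¹ (X * Y), Matrix.mul_apply,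
    Matrix.mul_apply]
  simp only [Fin.sum_univ_two, Subalgebra.coe_add, Subalgebra.coe_mul, add_mul, mul_assoc, hu]

end Quad

end CfsgLib.MaxSub.SpPow
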