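import Cfsg.Agent.Lib.MaxSub.SpPow.Central

/-!
Tensor powers of a symplectic space: products of one operator of each factor, the slots of monomials (root
elements and their self-adjoint companions of rank two), and their flips.
-/

set_option autoImplicit false
set_option linter.unusedSectionVars false

namespace CfsgLib.MaxSub.SpPow

variable {F A R ι κ : Type*} [Field F] [AddCommGroup A] [Module F A] [Ring R] [Algebra F R] [Fintype κ]
  [Fintype ι] [DecidableEq ι]

namespace Sys

variable (T : Sys F A R ι κ)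

theorem cen_of_phi {i j : ι} (h : j ≠ i) {x : R} (hx : x ∈ T.phi i) : T.Cen j x := by
  induction hx using Submodule.span_induction with
  | mem x hx => obtain ⟨⟨a, b⟩, rfl⟩ := hx; exact T.cen_E h a b
  | zero => exact T.cen_zero j
  | add a b _ _ ha hb => exact ha.add hb
  | smul c a _ ha => exact ha.smul c

theorem commute_phi {i : ι} {x y : R} (hx : x ∈ T.phi i) (hy : T.Cen i y) : x * y = y * x := by
  induction hx using Submodule.span_induction with
  | mem x hx => obtain ⟨⟨a, b⟩, rfl⟩ := hx; exact (hy a b).symm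
  | zero => rw [zero_mul, mul_zero]
  | add a b _ _ ha hb => rw [add_mul, mul_add, ha, hb]
  | smul c a _ ha => rw [smul_mul_assoc, mul_smul_comm, ha]

/-- the operators of one factor as an algebra -/
def phiA (l : ι) : Subalgebra F R :=
  (T.phi l).toSubalgebra (T.one_mem_phi l) fun _ _ hx hy => T.mul_mem_phi hx hy

theorem mem_phi {l : ι} (x : T.phiA l) : (x : R) ∈ T.phi l := x.2

/-- the product of one operator of each factor -/
def tens : ((l : ι) → T.phiA l) →* R :=
  MonoidHom.noncommPiCoprod (fun l => ((T.phiA l).val : T.phiA l →* R)) fun i j h x y =>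
    T.commute_phi (T.mem_phi x) (T.cen_of_phi h (T.mem_phi y))

theorem tens_single (l : ι) (x : T.phiA l) : T.tens (Pi.mulSingle l x) = (x : R) :=
  MonoidHom.noncommPiCoprod_mulSingle _ _ _

variable {T}

theorem tens_split (g : (l : ι) → T.phiA l) (l : ι) : T.tens g = (g l : R) * T.tens (Function.update g l 1) := by
  rw [← T.tens_single l (g l), ← map_mul]
  congr 1
  funext m
  rcases eq_or_ne m l with rfl | h <;> simp [*]

theorem cen_tens {g : (l : ι) → T.phiA l} {l : ι} (hg : g l = 1) : T.Cen l (T.tens g) := by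
  intro u v
  have e := T.tens_single l ⟨T.E l u v, T.E_mem_phi l u v⟩
  dsimp only at e
  rw [← e, ← map_mul, ← map_mul]
  congr 1
  funext m
  rcases eq_or_ne m l with rfl | h <;> simp [*]

theorem cen_rest (g : (l : ι) → T.phiA l) (l : ι) : T.Cen l (T.tens (Function.update g l 1)) :=
  cen_tens (Function.update_self _ _ _)

theorem tens_update (g : (l : ι) → T.phiA l) (l : ι) (x : T.phiA l) :
    T.tens (Function.update g l x) = (x : R) * T.tens (Function.update g l 1) := by
  rw [tens_split _ l, Function.update_self, Function.update_idem]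

theorem tens_update_smul (g : (l : ι) → T.phiA l) (l : ι) (x : T.phiA l) (c : F) :
    T.tens (Function.update g l (c • x)) = c • T.tens (Function.update g l x) := by
  rw [tens_update, tens_update g l x, Subalgebra.coe_smul, smul_mul_assoc]

/-- induction over the products of one operator of each factor -/
theorem tens_induction {P : ((l : ι) → T.phiA l) → Prop} (h1 : P 1)
    (hs : ∀ g l, g l = 1 → P g → ∀ x, P (Function.update g l x)) (g : (l : ι) → T.phiA l) : P g := by
  suffices key : ∀ S : Finset ι, P (fun l => if l ∈ S then g l else 1) by simpa using key Finset.univ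
  intro S
  induction S using Finset.induction_on with
  | empty => convert h1 using 1; funext m; simp
  | insert l S hl ih =>
    convert hs _ l (if_neg hl) ih (g l) using 1
    funext m
    rcases eq_or_ne m l with rfl | h <;> simp [*]

theorem commute_tens {y : R} {g : (l : ι) → T.phiA l} (h : ∀ l, g l = 1 ∨ T.Cen l y) :
    T.tens g * y = y * T.tens g := by
  revert h
  refine tens_induction (P := fun g => (∀ l, g l = 1 ∨ T.Cen l y) → T.tens g * y = y * T.tens g) ?_ ?_ g
  · intro _; rw [map_one, one_mul, mul_one]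
  · intro g l hg ih x h
    have hrest : Function.update g l 1 = g := by rw [← hg, Function.update_eq_self]
    rw [tens_update, hrest]
    have hx : (x : R) * y = y * x := by
      rcases h l with hl | hl
      · rw [Function.update_self] at hl; simp [hl]
      · exact T.commute_phi (T.mem_phi x) hl
    rw [mul_assoc, ih fun m => ?_, ← mul_assoc, hx, mul_assoc]
    rcases eq_or_ne m l with rfl | hm
    · exact Or.inl hg
    · simpa [Function.update_of_ne hm] using h m

/-- conjugation of one factor -/
theorem tens_conj (g : (l : ι) → T.phiA l) (l : ι) {h : Rˣ} (hh : ∀ m, m ≠ l → T.Cen m (h : R)) (x : T.phiA l)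
    (hx : (h : R) * (g l : R) * (↑h⁻¹ : R) = x) :
    (h : R) * T.tens g * (↑h⁻¹ : R) = T.tens (Function.update g l x) := by
  have hc : T.tens (Function.update g l 1) * (↑h⁻¹ : R) = (↑h⁻¹ : R) * T.tens (Function.update g l 1) := by
    refine commute_tens fun m => ?_
    rcases eq_or_ne m l with rfl | hm
    · exact Or.inl (Function.update_self _ _ _)
    · exact Or.inr fun u v => (Commute.units_inv_left (hh m hm u v : Commute (h : R) (T.E m u v))).eq
  rw [tens_split g l, tens_update g l x, ← hx, mul_assoc, mul_assoc, hc]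
  simp only [mul_assoc]

theorem sandwich_tens (g : (l : ι) → T.phiA l) (l : ι) (M : T.phiA l) :
    (M : R) * T.tens g * M = T.tens (Function.update g l (M * g l * M)) := by
  rw [tens_split g l, tens_update g l (M * g l * M), mul_assoc, mul_assoc,
    ← T.commute_phi (T.mem_phi M) (cen_rest g l)]
  simp [mul_assoc]

end Sys

/-- slots of monomials: a root element, or its self-adjoint companion of rank two, with partners -/
inductive Sl (A : Type*) where
  | one : Sl A
  | nn : A → A → Sl A
  | xx : A → A → A → A → Sl A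

namespace Sys

variable (T : Sys F A R ι κ)

/-- the self-adjoint operator of two orthogonal vectors -/
def xop (l : ι) (a v : A) : R := T.E l a v - T.E l v a

theorem xop_mem_phi (l : ι) (a v : A) : T.xop l a v ∈ T.phi l := sub_mem (T.E_mem_phi _ _ _) (T.E_mem_phi _ _ _)

/-- the operator of a slot -/
def op (l : ι) : Sl A → T.phiA l
  | .one => 1
  | .nn a _ => ⟨T.E l a a, T.E_mem_phi l a a⟩
  | .xx a v _ _ => ⟨T.xop l a v, T.xop_mem_phi l a v⟩

end Sys

namespace Sl

variable (T : Sys F A R ι κ)

/-- validity of a slot -/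
def Ok : Sl A → Prop
  | .one => True
  | .nn a b => T.f a b = 1
  | .xx a v b u => T.f a b = 1 ∧ T.f v u = 1 ∧ T.f a v = 0 ∧ T.f a u = 0 ∧ T.f v b = 0 ∧ T.f b u = 0

/-- the opposite slot -/
def flip : Sl A → Sl A
  | .one => .one
  | .nn a b => .nn b (-a)
  | .xx a v b u => .xx b u (-a) (-v)

/-- the sign of a slot -/
def sgn (_T : Sys F A R ι κ) : Sl A → F
  | .nn _ _ => -1
  | _ => 1

/-- the root element which separates a slot from its opposite -/
def cut : Sl A → Sl A
  | .one => .one
  | .nn a b => .nn (a + b) b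
  | .xx a _ b _ => .nn (a + b) b

variable {T}

theorem Ok.flip {s : Sl A} (h : Ok T s) : Ok T s.flip := by
  cases s with
  | one => trivial
  | nn a b =>
    simp only [Ok, Sl.flip] at h ⊢
    rw [map_neg, T.swap a b, h, neg_neg]
  | xx a v b u =>
    simp only [Ok, Sl.flip] at h ⊢
    obtain ⟨h1, h2, h3, h4, h5, h6⟩ := h
    exact ⟨by rw [map_neg, T.swap a b, h1, neg_neg], by rw [map_neg, T.swap v u, h2, neg_neg], h6,
      by rw [map_neg, T.swap v b, h5, neg_zero, neg_zero], by rw [map_neg, T.swap a u, h4, neg_zero, neg_zero],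
      by rw [map_neg, map_neg, LinearMap.neg_apply, neg_neg, h3]⟩

theorem Ok.cut {s : Sl A} (h : Ok T s) : Ok T s.cut := by
  cases s with
  | one => trivial
  | nn a b => simp only [Ok, Sl.cut] at h ⊢; simp [h, T.alt]
  | xx a v b u => simp only [Ok, Sl.cut] at h ⊢; simp [h.1, T.alt]

theorem op_sq {s : Sl A} (h : Ok T s) (hs : s ≠ .one) (l : ι) : T.op l s * T.op l s = 0 := by
  refine Subtype.ext ?_
  cases s with
  | one => exact absurd rfl hs
  | nn a b => exact T.n_mul_self l a
  | xx a v b u =>
    obtain ⟨-, -, h3, -, -, -⟩ := h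
    have h3' : T.f v a = 0 := by rw [T.swap, h3, neg_zero]
    simp [Sys.op, Sys.xop, mul_sub, sub_mul, T.mul, T.alt, h3, h3']

theorem sandwich_E (l : ι) (c x y : A) :
    T.E l c c * T.E l x y * T.E l c c = (T.f x c * T.f c y) • T.E l c c := by
  rw [T.mul, smul_mul_assoc, T.mul, smul_smul]

/-- the separation of a slot from its opposite -/
theorem separate {s : Sl A} (h : Ok T s) (hs : s ≠ .one) (l : ι) :
    T.op l s.cut * (T.op l s * (sgn T s • T.op l s.flip)) * T.op l s.cut = T.op l s.cut ∧
    T.op l s.cut * ((sgn T s • T.op l s.flip) * T.op l s) * T.op l s.cut = -T.op l s.cut := by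
  have hval : ∀ a b : A, T.f a b = 1 → T.f a (a + b) = 1 ∧ T.f b (a + b) = -1 ∧ T.f (a + b) a = -1 ∧
      T.f (a + b) b = 1 := fun a b hab => by simp [T.alt, hab, T.swap a b]
  cases s with
  | one => exact absurd rfl hs
  | nn a b =>
    simp only [Ok] at h
    obtain ⟨g1, g2, g3, g4⟩ := hval a b h
    refine ⟨Subtype.ext ?_, Subtype.ext ?_⟩ <;>
      simp only [Sys.op, Sl.cut, Sl.flip, sgn, MulMemClass.coe_mul, SetLike.val_smul, NegMemClass.coe_neg] <;>
      generalize a + b = c at g1 g2 g3 g4 ⊢ <;>
      simp [T.mul, h, T.swap a b, sandwich_E, g1, g2, g3, g4, smul_mul_assoc, mul_smul_comm]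
  | xx a v b u =>
    obtain ⟨h1, h2, h3, h4, h5, h6⟩ := h
    obtain ⟨g1, g2, g3, g4⟩ := hval a b h1
    have g5 : T.f v (a + b) = 0 := by simp [T.swap a v, h3, h5]
    have g6 : T.f u (a + b) = 0 := by simp [T.swap a u, T.swap b u, h4, h6]
    refine ⟨Subtype.ext ?_, Subtype.ext ?_⟩ <;>
      simp only [Sys.op, Sys.xop, Sl.cut, Sl.flip, sgn, MulMemClass.coe_mul, SetLike.val_smul,
        NegMemClass.coe_neg, one_smul] <;>
      generalize a + b = c at g1 g2 g3 g4 g5 g6 ⊢ <;>
      simp [T.mul, T.alt, mul_sub, sub_mul, mul_add, add_mul, h1, h2, h3, h4, h5, h6,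
        T.swap a b, T.swap v u, T.swap a v, T.swap a u, T.swap v b, T.swap b u, sandwich_E, g1, g2, g3, g4, g5, g6,
        smul_mul_assoc, mul_smul_comm]

end Sl

variable {T : Sys F A R ι κ} {H : Subgroup Rˣ}

/-- conjugating a vector to another one by a root element -/
theorem root_move {l : ι} {w : A} {h : Rˣ} (hh : (h : R) = 1 + T.E l w w) (x y : A) :
    (h : R) * T.E l x y * (↑h⁻¹ : R) = T.E l (x + T.f x w • w) (y + T.f y w • w) := by
  rw [inv_one_add (T.n_mul_self l w) hh, hh]
  simp only [add_mul, mul_sub, one_mul, mul_one, T.mul, map_add, map_smul, LinearMap.add_apply,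
    LinearMap.smul_apply, smul_smul, smul_add, smul_mul_assoc, mul_smul_comm, T.swap y w]
  module

/-- a member of `H` in the factor `l` carries a slot to the opposite one -/
theorem Grp.exists_flip (G : Grp T H) {s : Sl A} (h : Sl.Ok T s) (l : ι) :
    ∃ g ∈ H, (∀ m, m ≠ l → T.Cen m (g : R)) ∧ (g : R) * (T.op l s : R) * (↑g⁻¹ : R) = (T.op l s.flip : R) := by
  have hcen : ∀ w : A, ∀ g : Rˣ, (g : R) = 1 + T.E l w w → ∀ m, m ≠ l → T.Cen m (g : R) := fun w g hg m hm => by
    rw [hg]; exact (T.cen_one m).add (T.cen_E hm w w)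
  cases s with
  | one => exact ⟨1, one_mem H, fun m _ => by rw [Units.val_one]; exact T.cen_one m, by simp [Sys.op, Sl.flip]⟩
  | nn a b =>
    simp only [Sl.Ok] at h
    obtain ⟨g, hg, hgv⟩ := G.root l (b - a) 1
    rw [one_smul] at hgv
    refine ⟨g, hg, hcen _ g hgv, ?_⟩
    simp [Sys.op, Sl.flip, root_move hgv, map_sub, h, T.alt]
  | xx a v b u =>
    obtain ⟨h1, h2, h3, h4, h5, h6⟩ := h
    obtain ⟨g, hg, hgv⟩ := G.root l (b - a) 1
    obtain ⟨g', hg', hgv'⟩ := G.root l (u - v) 1
    rw [one_smul] at hgv hgv'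
    refine ⟨g' * g, mul_mem hg' hg, fun m hm => ?_, ?_⟩
    · rw [Units.val_mul]; exact (hcen _ g' hgv' m hm).mul (hcen _ g hgv m hm)
    · have e1 : ∀ x y, (g : R) * T.E l x y * (↑g⁻¹ : R) =
          T.E l (x + T.f x (b - a) • (b - a)) (y + T.f y (b - a) • (b - a)) := root_move hgv
      have e2 : ∀ x y, (g' : R) * T.E l x y * (↑g'⁻¹ : R) =
          T.E l (x + T.f x (u - v) • (u - v)) (y + T.f y (u - v) • (u - v)) := root_move hgv'
      simp only [Sys.op, Sl.flip, Sys.xop, Units.val_mul, mul_inv_rev, mul_sub, sub_mul]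
      rw [show ∀ x, (g' : R) * g * x * ((↑g⁻¹ : R) * ↑g'⁻¹) = g' * (g * x * ↑g⁻¹) * ↑g'⁻¹ from
        fun x => by simp [mul_assoc]]
      rw [show ∀ x, (g' : R) * g * x * ((↑g⁻¹ : R) * ↑g'⁻¹) = g' * (g * x * ↑g⁻¹) * ↑g'⁻¹ from
        fun x => by simp [mul_assoc]]
      rw [e1, e1]
      have ha : a + T.f a (b - a) • (b - a) = b := by simp [map_sub, h1, T.alt]
      have hv : v + T.f v (b - a) • (b - a) = v := by simp [map_sub, h5, T.swap a v, h3]
      rw [ha, hv, e2, e2]
      have hb : b + T.f b (u - v) • (u - v) = b := by simp [map_sub, h6, T.swap v b, h5]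
      have hu : v + T.f v (u - v) • (u - v) = u := by simp [map_sub, h2, T.alt]
      rw [hb, hu]

end CfsgLib.MaxSub.SpPow
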